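import Groth.Agent.H19Grp.AffinePoints
import Groth.Agent.H21Diag.Diag
import Groth.Agent.H21Diag.DSMap
import Groth.Agent.H19Mult.Charts
import Groth.Prelude.Def_SGA3b

/-!
Charts of an affine group and diagonalisability of its Hopf algebra.
-/

set_option autoImplicit false
set_option maxHeartbeats 1000000
set_option linter.style.haveILetI false
set_option backward.isDefEq.respectTransparency false

universe u

open CategoryTheory MonoidalCategory CartesianMonoidalCategory MonObj GrpObj AlgebraicGeometry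
open TensorProduct

namespace Groth.Agent.H21Hom

variable (R : Type u) [CommRing R]

/-- the affine group of a Hopf algebra -/
noncomputable abbrev specGrp (A : Type u) [CommRing A] [HopfAlgebra R A] : Over (Spec (CommRingCat.of R)) :=
  (Spec (CommRingCat.of A)).asOver (Spec (CommRingCat.of R))

variable {R}

/-- an affine group is the spectrum of a Hopf algebra -/
theorem exists_hopf_model (H : Over (Spec (CommRingCat.of R))) [GrpObj H] [IsAffine H.left] :
    ∃ (A : Type u) (_ : CommRing A) (_ : HopfAlgebra R A), Nonempty (Grp.mk H ≅ Grp.mk (specGrp R A)) := by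
  let R' : CommRingCat.{u} := CommRingCat.of R
  letI oH : H.left.Over (Spec R') := ⟨H.hom⟩
  letI gH : GrpObj (H.left.asOver (Spec R')) := ‹GrpObj H›
  letI iA : HopfAlgebra R Γ(H.left, ⊤) := H19Grp.AffinePoints.hopfOf R' H.left
  let i : H.left.asOver (Spec R') ≅ (Spec Γ(H.left, ⊤)).asOver (Spec R') :=
    ⟨H.left.isoSpec.hom.asOver (Spec R'), H.left.isoSpec.inv.asOver (Spec R'),
      Over.OverMorphism.ext H.left.isoSpec.hom_inv_id, Over.OverMorphism.ext H.left.isoSpec.inv_hom_id⟩
  haveI : IsMonHom i.hom := H19Grp.AffinePoints.isMonHom_isoSpec _ _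
  exact ⟨Γ(H.left, ⊤), inferInstance, iA, ⟨Grp.mkIso' i⟩⟩

/-- base change of the spectrum of a Hopf algebra -/
theorem nonempty_bc_specGrp (A : Type u) [CommRing A] [HopfAlgebra R A] (S : Type u) [CommRing S] [Algebra R S] :
    Nonempty (Grp.mk (Red.bc (Spec.map (CommRingCat.ofHom (algebraMap R S))) (specGrp R A)) ≅
      Grp.mk (specGrp S (S ⊗[R] A))) := by
  let q := (Limits.pullbackSymmetry _ _ ≪≫ pullbackSpecIso' R S A)
  let i : Red.bc (Spec.map (CommRingCat.ofHom (algebraMap R S))) (specGrp R A) ⟶ specGrp S (S ⊗[R] A) :=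
    q.hom.asOver (Spec (CommRingCat.of S))
  haveI : IsMonHom i := inferInstanceAs (IsMonHom (q.hom.asOver (Spec (CommRingCat.of S))))
  haveI : IsIso i.left := inferInstanceAs (IsIso q.hom)
  haveI : IsIso i := H21Diag.isIso_of_left i
  exact ⟨Grp.mkIso' (asIso i)⟩

/-- isomorphic affine groups have isomorphic Hopf algebras -/
theorem nonempty_bialgEquiv_of_iso {A B : Type u} [CommRing A] [HopfAlgebra R A] [CommRing B] [HopfAlgebra R B]
    (e : Grp.mk (specGrp R A) ≅ Grp.mk (specGrp R B)) : Nonempty (B ≃ₐc[R] A) := by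
  let F := hopfSpec (CommRingCat.of R)
  let e' : F.obj (Opposite.op (CommHopfAlgCat.of R A)) ≅ F.obj (Opposite.op (CommHopfAlgCat.of R B)) := e
  let j : CommHopfAlgCat.of R B ≅ CommHopfAlgCat.of R A :=
    ((hopfSpec.fullyFaithful (R := CommRingCat.of R)).preimageIso e').unop
  exact ⟨CommHopfAlgCat.ofIso j⟩

/-- isomorphic Hopf algebras give isomorphic groups -/
theorem nonempty_iso_of_bialgEquiv {A B : Type u} [CommRing A] [HopfAlgebra R A] [CommRing B] [HopfAlgebra R B]
    (e : B ≃ₐc[R] A) : Nonempty (Grp.mk (specGrp R A) ≅ Grp.mk (specGrp R B)) :=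
  ⟨(hopfSpec (CommRingCat.of R)).mapIso (CommHopfAlgCat.isoMk e).op⟩

/-- renaming the group of a group algebra, across universes -/
theorem exists_mapDomainEquiv {M : Type*} {N : Type*} [CommGroup M] [CommGroup N] (θ : M ≃* N) :
    Nonempty (MonoidAlgebra R M ≃ₐc[R] MonoidAlgebra R N) := by
  let f := MonoidAlgebra.mapDomainBialgHom R θ.toMonoidHom
  refine ⟨BialgEquiv.ofBijective f (Function.bijective_iff_has_inverse.2
    ⟨MonoidAlgebra.mapDomainBialgHom R θ.symm.toMonoidHom, fun x => ?_, fun x => ?_⟩)⟩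
  · induction x using MonoidAlgebra.induction_linear with
    | zero => simp
    | add u v hu hv => simp only [map_add, hu, hv]
    | single m r => simp [f]
  · induction x using MonoidAlgebra.induction_linear with
    | zero => simp
    | add u v hu hv => simp only [map_add, hu, hv]
    | single m r => simp [f]

/-- a chart gives a diagonal algebra -/
theorem isDiag_of_chart {A : Type u} [CommRing A] [HopfAlgebra R A] {M : Type} [AddCommGroup M]
    (e : Grp.mk (specGrp R A) ≅ Grp.mk (Red.DS (Spec (CommRingCat.of R)) M)) : SGA3b.IsDiag R A := by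
  have := H21Diag.isIso_diagToDS R M
  obtain ⟨f⟩ := nonempty_bialgEquiv_of_iso (R := R) (A := A) (B := MonoidAlgebra R (Multiplicative M))
    (e ≪≫ (Grp.mkIso' (asIso (H21Diag.diagToDS R M))).symm)
  obtain ⟨g⟩ := exists_mapDomainEquiv (R := R)
    (MulEquiv.ulift.symm : Multiplicative M ≃* ULift.{u} (Multiplicative M))
  exact ⟨ULift.{u} (Multiplicative M), inferInstance, ⟨f.symm.trans g⟩⟩

/-- a finitely generated diagonal algebra gives a chart -/
theorem exists_chart_of_isDiag {A : Type u} [CommRing A] [HopfAlgebra R A] [Nontrivial R]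
    [Algebra.FiniteType R A] (h : SGA3b.IsDiag R A) :
    ∃ (M : Type) (_ : AddCommGroup M), AddGroup.FG M ∧
      Nonempty (Grp.mk (specGrp R A) ≅ Grp.mk (Red.DS (Spec (CommRingCat.of R)) M)) := by
  obtain ⟨N, _, ⟨e⟩⟩ := h
  haveI : Monoid.FG N := MonoidAlgebra.finiteType_iff_fg.1
    (Algebra.FiniteType.equiv (inferInstance : Algebra.FiniteType R A) (AlgEquivClass.toAlgEquiv e))
  haveI : Module.Finite ℤ (Additive N) := Module.Finite.iff_addGroup_fg.mpr (AddGroup.fg_iff_addMonoid_fg.mpr inferInstance)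
  obtain ⟨k, π, hπ⟩ := Module.Finite.exists_fin' ℤ (Additive N)
  let M := (Fin k → ℤ) ⧸ LinearMap.ker π
  let θ : Multiplicative M ≃* N :=
    AddEquiv.toMultiplicative (π.quotKerEquivOfSurjective hπ).toAddEquiv |>.trans (MulEquiv.multiplicativeAdditive N)
  obtain ⟨f⟩ := nonempty_iso_of_bialgEquiv (R := R) (A := A) (B := MonoidAlgebra R N) e.symm
  have f2 : Grp.mk (specGrp R (MonoidAlgebra R N)) ≅ Grp.mk (Red.diag R M) := by
    refine (nonempty_iso_of_bialgEquiv (R := R) (A := MonoidAlgebra R N) (B := MonoidAlgebra R (Multiplicative M)) ?_).some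
    exact (exists_mapDomainEquiv (R := R) θ).some
  have := H21Diag.isIso_diagToDS R M
  exact ⟨M, inferInstance, AddGroup.fg_iff_addMonoid_fg.mpr (Module.Finite.iff_addMonoid_fg.mp inferInstance),
    ⟨f ≪≫ f2 ≪≫ Grp.mkIso' (asIso (H21Diag.diagToDS R M))⟩⟩

end Groth.Agent.H21Hom
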