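import Groth.Agent.H21Hom.Bridge
import Groth.Agent.H19Mult.SubgroupLocal
import Groth.Agent.H19Mult.Field

/-!
Flat closed subgroups of groups of multiplicative type.
-/

set_option autoImplicit false
set_option maxHeartbeats 1000000
set_option linter.style.haveILetI false
set_option backward.isDefEq.respectTransparency false

universe u

open CategoryTheory MonoidalCategory CartesianMonoidalCategory MonObj GrpObj AlgebraicGeometry
open TensorProduct

namespace Groth.Agent.H21Hom

variable {R : Type u} [CommRing R] {A C : Type u} [CommRing A] [HopfAlgebra R A] [CommRing C] [HopfAlgebra R C]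

/-- a surjective homomorphism of Hopf algebras presents the target as a quotient by a Hopf ideal -/
theorem exists_ker_hopfIdeal (ψ : A →ₐc[R] C) (hψ : Function.Surjective ψ) :
    ∃ (J : Ideal A) (_ : J.IsHopfIdeal R), Nonempty ((A ⧸ J) ≃ₐc[R] C) := by
  let J := RingHom.ker (ψ : A →ₐ[R] C).toRingHom
  have hmem : ∀ x, x ∈ J ↔ ψ x = 0 := fun x => RingHom.mem_ker
  have hH : J.IsHopfIdeal R := by
    refine { counit_eq_zero := fun x hx => ?_, map_mkQ_comul_eq_zero := fun x hx => ?_, antipode_mem := fun x hx => ?_ }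
    · rw [← CoalgHomClass.counit_comp_apply ψ x, (hmem x).1 hx, map_zero]
    · obtain ⟨sec, hsec⟩ := hψ.hasRightInverse
      have h1 : ∀ p, ψ p = 0 → Submodule.Quotient.mk (p := J.restrictScalars R) p = 0 := fun p hp =>
        (Submodule.Quotient.mk_eq_zero _).2 ((hmem p).2 hp)
      let g : C →ₗ[R] A ⧸ J.restrictScalars R :=
        { toFun := fun y => Submodule.Quotient.mk (sec y)
          map_add' := fun u v => by
            rw [← Submodule.Quotient.mk_add, ← sub_eq_zero, ← Submodule.Quotient.mk_sub]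
            exact h1 _ (by rw [map_sub, map_add, hsec, hsec, hsec, sub_self])
          map_smul' := fun a u => by
            rw [RingHom.id_apply, ← Submodule.Quotient.mk_smul, ← sub_eq_zero, ← Submodule.Quotient.mk_sub]
            exact h1 _ (by rw [map_sub, hsec, show ψ (a • sec u) = a • u from
              (map_smul (ψ : A →ₐ[R] C) a (sec u)).trans (congrArg (a • ·) (hsec u)), sub_self]) }
      have hg : (J.restrictScalars R).mkQ = g ∘ₗ (ψ : A →ₐ[R] C).toLinearMap := LinearMap.ext fun p => by
        show Submodule.Quotient.mk p = Submodule.Quotient.mk (sec (ψ p))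
        rw [← sub_eq_zero, ← Submodule.Quotient.mk_sub]
        exact h1 _ (by rw [map_sub, hsec, sub_self])
      rw [hg, TensorProduct.map_comp, LinearMap.comp_apply,
        show TensorProduct.map (ψ : A →ₐ[R] C).toLinearMap (ψ : A →ₐ[R] C).toLinearMap
          (Coalgebra.comul (R := R) x) = 0 from
          (CoalgHomClass.map_comp_comul_apply ψ x).trans (by rw [(hmem x).1 hx, map_zero]), map_zero]
    · exact (hmem _).2 (by rw [H19Mult.map_antipode, (hmem x).1 hx, map_zero])
  refine ⟨J, hH, ?_⟩
  let φ : (A ⧸ J) →ₐ[R] C := Ideal.Quotient.liftₐ _ (ψ : A →ₐ[R] C) fun x hx => (hmem x).1 hx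
  let Φ : (A ⧸ J) →ₐc[R] C := BialgHom.ofAlgHom φ
    (AlgHom.ext fun x => by
      obtain ⟨x, rfl⟩ := Ideal.Quotient.mk_surjective x
      exact CoalgHomClass.counit_comp_apply ψ x)
    (AlgHom.ext fun x => by
      obtain ⟨x, rfl⟩ := Ideal.Quotient.mk_surjective x
      show Algebra.TensorProduct.map φ φ (Algebra.TensorProduct.map (Ideal.Quotient.mkₐ R _) (Ideal.Quotient.mkₐ R _)
        (Coalgebra.comul (R := R) x)) = Coalgebra.comul (R := R) (ψ x)
      rw [← CoalgHomClass.map_comp_comul_apply ψ x]
      generalize Coalgebra.comul (R := R) x = z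
      induction z using TensorProduct.induction_on with
      | zero => simp
      | tmul p q => rfl
      | add u w hu hw => simp only [map_add, hu, hw])
  refine ⟨BialgEquiv.ofBijective Φ ⟨?_, fun y => ?_⟩⟩
  · intro x y h
    obtain ⟨x, rfl⟩ := Ideal.Quotient.mk_surjective x
    obtain ⟨y, rfl⟩ := Ideal.Quotient.mk_surjective y
    exact Ideal.Quotient.eq.2 ((hmem _).2 (by rw [map_sub]; exact sub_eq_zero.2 h))
  · obtain ⟨x, rfl⟩ := hψ y
    exact ⟨Ideal.Quotient.mk _ x, rfl⟩

/-- cocommutativity descends along surjections -/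
theorem isCocomm_of_surjective [Coalgebra.IsCocomm R A] (ψ : A →ₐc[R] C) (hψ : Function.Surjective ψ) :
    Coalgebra.IsCocomm R C := by
  refine ⟨LinearMap.ext fun c => ?_⟩
  obtain ⟨a, rfl⟩ := hψ c
  show TensorProduct.comm R C C (Coalgebra.comul (R := R) (ψ a)) = Coalgebra.comul (R := R) (ψ a)
  rw [← CoalgHomClass.map_comp_comul_apply ψ a]
  conv_rhs => rw [← Coalgebra.comm_comul (R := R) a]
  generalize Coalgebra.comul (R := R) a = z
  induction z using TensorProduct.induction_on with
  | zero => simp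
  | tmul p q => simp
  | add u w hu hw => simp only [map_add, hu, hw]

/-- a closed flat finitely presented subgroup of a group of multiplicative type, Hopf form -/
theorem isMultType_of_surjective (hA : Algebra.FiniteType R A) (h : SGA3b.IsMultType R A) (ψ : A →ₐc[R] C)
    (hψ : Function.Surjective ψ) [Module.Flat R C] (hC : Algebra.FinitePresentation R C) :
    SGA3b.IsMultType R C := by
  haveI := H19Mult.isCocomm_of_isMultType h
  haveI := isCocomm_of_surjective ψ hψ
  refine H19Mult.LocalCriterion.isMultType_of_torsion_finite hC (fun p _ => ?_) fun n hn => ?_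
  · let K := p.ResidueField
    let ψK : (K ⊗[R] A) →ₐc[K] (K ⊗[R] C) := Bialgebra.TensorProduct.map (BialgHom.id K K) ψ
    have hψK : Function.Surjective ψK := fun z => by
      induction z using TensorProduct.induction_on with
      | zero => exact ⟨0, map_zero _⟩
      | tmul r x => obtain ⟨a, rfl⟩ := hψ x; exact ⟨r ⊗ₜ a, rfl⟩
      | add u w hu hw =>
        obtain ⟨a, rfl⟩ := hu
        obtain ⟨b, rfl⟩ := hw
        exact ⟨a + b, map_add _ _ _⟩
    obtain ⟨J, _, ⟨e⟩⟩ := exists_ker_hopfIdeal ψK hψK
    exact H19Mult.LocalDescent.isMultType_congr e.symm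
      (H19Mult.isMultType_quotient_field (H19Mult.isMultType_baseChange h K) J)
  · haveI := H19Mult.isHopfIdeal_torsion (R := R) (A := A) n
    haveI := H19Mult.finite_torsion hA h n hn _ rfl
    have hle : SGA3b.torsionIdeal R A n ≤ (SGA3b.torsionIdeal R C n).comap (ψ : A →ₐ[R] C).toRingHom :=
      Ideal.map_le_iff_le_comap.2 fun b hb => by
        show ψ (SGA3b.powConv R A n b) ∈ SGA3b.torsionIdeal R C n
        rw [H19Mult.SubgroupLocal.powConv_comp]
        refine Ideal.mem_map_of_mem _ ?_
        show Coalgebra.counit (R := R) (ψ b) = 0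
        rw [CoalgHomClass.counit_comp_apply]
        exact hb
    let g : (A ⧸ SGA3b.torsionIdeal R A n) →ₐ[R] C ⧸ SGA3b.torsionIdeal R C n :=
      Ideal.Quotient.liftₐ _ ((Ideal.Quotient.mkₐ R _).comp (ψ : A →ₐ[R] C))
        fun x hx => Ideal.Quotient.eq_zero_iff_mem.2 (hle hx)
    exact Module.Finite.of_surjective (R := R) g.toLinearMap fun y => by
      obtain ⟨y, rfl⟩ := Ideal.Quotient.mk_surjective y
      obtain ⟨a, rfl⟩ := hψ y
      exact ⟨Ideal.Quotient.mk _ a, rfl⟩

/-- homomorphisms of affine groups come from bialgebra maps -/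
theorem exists_bialgHom_of_hom (f : specGrp R C ⟶ specGrp R A) [IsMonHom f] :
    ∃ ψ : A →ₐc[R] C, f.left = Spec.map (CommRingCat.ofHom (ψ : A →ₐ[R] C).toRingHom) := by
  let F := hopfSpec (CommRingCat.of R)
  let g : F.obj (Opposite.op (CommHopfAlgCat.of R C)) ⟶ F.obj (Opposite.op (CommHopfAlgCat.of R A)) :=
    (Grp.homMk f : Grp.mk (specGrp R C) ⟶ Grp.mk (specGrp R A))
  let q := (hopfSpec.fullyFaithful (R := CommRingCat.of R)).preimage g
  refine ⟨q.unop.hom, ?_⟩
  have h := (hopfSpec.fullyFaithful (R := CommRingCat.of R)).map_preimage g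
  exact ((congrArg (fun z => z.hom.hom.left) h).symm : g.hom.hom.left = _)

/-- a closed flat finitely presented subgroup of a group of multiplicative type -/
theorem isMultTypeFT_of_closed {S : Scheme.{u}} {H H' : Over S} [GrpObj H] [GrpObj H']
    (hH' : SGA3x.IsMultTypeFT H') (i : H ⟶ H') [IsMonHom i] [IsClosedImmersion i.left] [Flat H.hom]
    [LocallyOfFinitePresentation H.hom] : SGA3x.IsMultTypeFT H := by
  have := H21Diag.isAffineHom_of_multTypeFT hH'
  have hlft := H21Diag.lft_of_multTypeFT hH'
  have : IsAffineHom H.hom := by rw [← Over.w i]; infer_instance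
  refine isMultTypeFT_of_models H fun R _ j _ C _ _ _ _ eC => ?_
  have : IsAffineHom (Red.bc j H').hom := MorphismProperty.pullback_snd (P := @IsAffineHom) _ _ ‹_›
  obtain ⟨A, _, _, ⟨eA⟩, -, -⟩ := exists_model (R := R) (Red.bc j H')
  have hA := isMultTypeFT_of_iso (H21Diag.isMultTypeFT_bc hH' j) eA
  have hft : Algebra.FiniteType R A := by
    have h : LocallyOfFiniteType (Spec.map (CommRingCat.ofHom (algebraMap R A))) := H21Diag.lft_of_multTypeFT hA
    rw [HasRingHomProperty.Spec_iff (P := @LocallyOfFiniteType)] at h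
    exact RingHom.finiteType_algebraMap.mp h
  let ib : Red.bc j H ⟶ Red.bc j H' := (Over.pullback j).map i
  have hi : IsClosedImmersion ib.left :=
    MorphismProperty.overPullbackMap (P := @IsClosedImmersion) j i ‹_›
  let f : specGrp R C ⟶ specGrp R A := eC.inv.hom.hom ≫ ib ≫ eA.hom.hom.hom
  haveI : IsMonHom ib := inferInstanceAs (IsMonHom ((Over.pullback j).map i))
  haveI : IsMonHom f := inferInstanceAs (IsMonHom (eC.inv.hom.hom ≫ ib ≫ eA.hom.hom.hom))
  obtain ⟨ψ, hψ⟩ := exists_bialgHom_of_hom f
  have : IsIso eC.inv.hom.hom.left :=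
    ⟨⟨eC.hom.hom.hom.left, congrArg (fun z => z.hom.hom.left) eC.inv_hom_id,
      congrArg (fun z => z.hom.hom.left) eC.hom_inv_id⟩⟩
  have : IsIso eA.hom.hom.hom.left :=
    ⟨⟨eA.inv.hom.hom.left, congrArg (fun z => z.hom.hom.left) eA.hom_inv_id,
      congrArg (fun z => z.hom.hom.left) eA.inv_hom_id⟩⟩
  have : IsClosedImmersion (Spec.map (CommRingCat.ofHom (ψ : A →ₐ[R] C).toRingHom)) := by
    rw [← hψ]
    exact (inferInstance : IsClosedImmersion (eC.inv.hom.hom.left ≫ ib.left ≫ eA.hom.hom.hom.left))
  refine isMultType_of_surjective hft (isMultType_of_specGrp hA) ψ (fun y => ?_) inferInstance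
  have h2 := (HasAffineProperty.iff_of_isAffine (P := @IsClosedImmersion)).mp this
  have h4 : Function.Surjective (CommRingCat.ofHom (ψ : A →ₐ[R] C).toRingHom).hom := by
    have := h2.2
    exact (RingHom.surjective_respectsIso.arrow_mk_iso_iff (arrowIsoΓSpecOfIsAffine _)).mpr this
  exact h4 y

end Groth.Agent.H21Hom
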