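import Groth.Agent.H21Hom.Bridge
import Groth.Agent.H12AlgSp.UnivInj
import Groth.Agent.H19Mult.SubgroupLocal
import Mathlib.AlgebraicGeometry.Morphisms.LocalFlatDescent
import Mathlib.AlgebraicGeometry.Morphisms.FlatRank

/-!
Groups of multiplicative type are detected by their fibres and the orders of their torsion.
-/

set_option autoImplicit false
set_option maxHeartbeats 1000000
set_option linter.style.haveILetI false
set_option backward.isDefEq.respectTransparency false
set_option synthInstance.maxHeartbeats 400000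

universe u

open CategoryTheory MonoidalCategory CartesianMonoidalCategory MonObj GrpObj AlgebraicGeometry
open TensorProduct WithConv

namespace Groth.Agent.H21Hom

section hopf

/-- over an algebraically closed field multiplicative type is diagonalisable -/
theorem exists_chart_algClosed {K : Type u} [Field K] [IsAlgClosed K] {A : Type u} [CommRing A] [HopfAlgebra K A]
    (hft : Algebra.FiniteType K A) (h : SGA3b.IsMultType K A) :
    ∃ (N : Type u) (_ : CommGroup N), Group.FG N ∧ Nonempty (A ≃ₐc[K] MonoidAlgebra K N) := by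
  obtain ⟨k', _, _, _, hsep, N, _, hN, ⟨e⟩⟩ := H19Mult.exists_split_separable (k := K) (A := A) hft h
  let eι : K ≃+* k' := RingEquiv.ofBijective (algebraMap K k')
    ⟨(algebraMap K k').injective, IsAlgClosed.algebraMap_bijective_of_isIntegral.2⟩
  letI : Algebra k' K := eι.symm.toRingHom.toAlgebra
  haveI : IsScalarTower K k' K := IsScalarTower.of_algebraMap_eq fun x => (eι.symm_apply_apply x).symm
  obtain ⟨eK⟩ := H19Mult.isDiag_baseChange e K
  exact ⟨N, inferInstance, hN, ⟨(Bialgebra.TensorProduct.lid K A).symm.trans eK⟩⟩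

/-- order of the torsion of a diagonalisable group over a field -/
theorem finrank_torsion_chart {K : Type u} [Field K] {A : Type u} [CommRing A] [HopfAlgebra K A]
    {N : Type u} [CommGroup N] [Group.FG N] (e : A ≃ₐc[K] MonoidAlgebra K N) {n : ℕ} (hn : 0 < n) :
    Module.Finite K (A ⧸ SGA3b.torsionIdeal K A n) ∧
      Module.finrank K (A ⧸ SGA3b.torsionIdeal K A n) = Nat.card (N ⧸ (powMonoidHom n : N →* N).range) := by
  classical
  let H := (powMonoidHom n : N →* N).range
  let q := MonoidAlgebra.mapDomainAlgHom K K (QuotientGroup.mk' H)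
  let ρ : A →ₐ[K] MonoidAlgebra K (N ⧸ H) := q.comp (e : A →ₐ[K] MonoidAlgebra K N)
  have hsurj : Function.Surjective ρ := fun z => by
    obtain ⟨x, hx⟩ : ∃ x, q x = z := by
      induction z using MonoidAlgebra.induction_linear with
      | zero => exact ⟨0, map_zero _⟩
      | add u w hu hw =>
        obtain ⟨a, rfl⟩ := hu
        obtain ⟨b, rfl⟩ := hw
        exact ⟨a + b, map_add _ _ _⟩
      | single m r =>
        obtain ⟨m, rfl⟩ := QuotientGroup.mk'_surjective H m
        exact ⟨MonoidAlgebra.single m r, by simp [q]⟩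
    obtain ⟨w, rfl⟩ := EquivLike.surjective e x
    exact ⟨w, hx⟩
  have hker : RingHom.ker ρ = SGA3b.torsionIdeal K A n := by
    have h2 : Ideal.map (e : A →ₐ[K] MonoidAlgebra K N).toRingHom (SGA3b.torsionIdeal K A n) =
        RingHom.ker q := by
      have hcomp : (e : A →ₐ[K] MonoidAlgebra K N).toRingHom.comp (SGA3b.powConv K A n).toRingHom =
          (SGA3b.powConv K (MonoidAlgebra K N) n).toRingHom.comp (e : A →ₐ[K] MonoidAlgebra K N).toRingHom :=
        RingHom.ext fun a => H19Mult.SubgroupLocal.powConv_comp (e : A →ₐc[K] MonoidAlgebra K N) n a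
      have haug : Ideal.map (e : A →ₐ[K] MonoidAlgebra K N).toRingHom (RingHom.ker (Bialgebra.counitAlgHom K A)) =
          RingHom.ker (Bialgebra.counitAlgHom K (MonoidAlgebra K N)) := by
        refine le_antisymm (Ideal.map_le_iff_le_comap.2 fun a ha => ?_) fun x hx => ?_
        · show Coalgebra.counit (R := K) (e a) = 0
          rw [CoalgHomClass.counit_comp_apply]
          exact ha
        · obtain ⟨z, rfl⟩ := EquivLike.surjective e x
          refine Ideal.mem_map_of_mem (e : A →ₐ[K] MonoidAlgebra K N).toRingHom ?_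
          show Coalgebra.counit (R := K) z = 0
          rw [← CoalgHomClass.counit_comp_apply e z]
          exact hx
      show Ideal.map _ (Ideal.map (SGA3b.powConv K A n).toRingHom (RingHom.ker (Bialgebra.counitAlgHom K A))) = _
      rw [Ideal.map_map, hcomp, ← Ideal.map_map, haug, H19Mult.aug_monoidAlgebra, Ideal.map_span,
        show RingHom.ker q = _ from H19Mult.ker_mapDomain H]
      congr 1
      ext x
      simp only [Set.mem_image, Set.mem_range, SetLike.mem_coe, H, MonoidHom.mem_range, powMonoidHom_apply,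
        exists_exists_eq_and]
      refine exists_congr fun m => ?_
      show (SGA3b.powConv K (MonoidAlgebra K N) n) (MonoidAlgebra.single m 1 - 1) = x ↔ _
      rw [map_sub, map_one, H19Mult.powConv_single]
    refine Eq.trans ?_ (Ideal.comap_map_of_bijective (e : A →ₐ[K] MonoidAlgebra K N).toRingHom
      (EquivLike.bijective e))
    rw [h2]
    rfl
  let E := ((Ideal.quotientEquivAlgOfEq K hker.symm).trans
    (Ideal.quotientKerAlgEquivOfSurjective hsurj)).toLinearEquiv
  haveI := H19Mult.finite_quotient_range_pow (M := N) hn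
  haveI : Fintype (N ⧸ H) := Fintype.ofFinite _
  haveI : Module.Finite K (MonoidAlgebra K (N ⧸ H)) := inferInstance
  refine ⟨Module.Finite.equiv E.symm, E.finrank_eq.trans ?_⟩
  exact Module.finrank_eq_nat_card_basis (MonoidAlgebra.basis (N ⧸ H) K)

/-- nothing non-trivial is divisible by every integer in a finitely generated group -/
theorem eq_one_of_forall_mem_range_pow {N : Type u} [CommGroup N] [Group.FG N] (k : N)
    (h : ∀ n : ℕ, 0 < n → k ∈ (powMonoidHom n : N →* N).range) : k = 1 := by
  classical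
  obtain ⟨r, ι', _, p, hp, e, ⟨f⟩⟩ := AddCommGroup.equiv_free_prod_directSum_zmod (G := Additive N)
  have hdiv : ∀ n : ℕ, 0 < n → ∃ y, f (Additive.ofMul k) = n • y := fun n hn => by
    obtain ⟨m, hm⟩ := h n hn
    exact ⟨f (Additive.ofMul m), by rw [← map_nsmul, ← hm]; rfl⟩
  suffices f (Additive.ofMul k) = 0 from Additive.ofMul.injective ((map_eq_zero_iff f f.injective).1 this)
  refine Prod.ext (Finsupp.ext fun i => ?_) (DFinsupp.ext fun i => ?_)
  · obtain ⟨y, hy⟩ := hdiv (((f (Additive.ofMul k)).1 i).natAbs + 1) (Nat.succ_pos _)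
    have h1 : (f (Additive.ofMul k)).1 i = ((((f (Additive.ofMul k)).1 i).natAbs + 1 : ℕ) : ℤ) * y.1 i := by
      conv_lhs => rw [hy]
      simp
    exact Int.eq_zero_of_dvd_of_natAbs_lt_natAbs ⟨_, h1⟩ (by omega)
  · obtain ⟨y, hy⟩ := hdiv (p i ^ e i) (pow_pos (hp i).pos _)
    rw [hy]
    show (p i ^ e i) • (y.2 i) = 0
    rw [nsmul_eq_mul, ZMod.natCast_self, zero_mul]

/-- a surjection with the same indices is injective -/
theorem injective_of_card_eq {N M : Type u} [CommGroup N] [CommGroup M] [Group.FG N] (θ : N →* M)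
    (hθ : Function.Surjective θ)
    (h : ∀ n : ℕ, 0 < n → Nat.card (N ⧸ (powMonoidHom n : N →* N).range) =
      Nat.card (M ⧸ (powMonoidHom n : M →* M).range)) : Function.Injective θ := by
  refine (injective_iff_map_eq_one θ).2 fun k hk => ?_
  have hdiv : ∀ n : ℕ, 0 < n → k ∈ (powMonoidHom n : N →* N).range := fun n hn => by
    haveI := H19Mult.finite_quotient_range_pow (M := N) hn
    let f : N ⧸ (powMonoidHom n : N →* N).range →* M ⧸ (powMonoidHom n : M →* M).range :=
      QuotientGroup.map _ _ θ (by rintro _ ⟨m, rfl⟩; exact ⟨θ m, (map_pow θ m n).symm⟩)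
    have hf : Function.Surjective f := fun y => by
      obtain ⟨m, rfl⟩ := QuotientGroup.mk'_surjective _ y
      obtain ⟨l, rfl⟩ := hθ m
      exact ⟨QuotientGroup.mk' _ l, rfl⟩
    haveI : Finite (M ⧸ (powMonoidHom n : M →* M).range) := Finite.of_surjective f hf
    have hbij := (Nat.bijective_iff_surjective_and_card f).2 ⟨hf, h n hn⟩
    refine (QuotientGroup.eq_one_iff k).1 (hbij.1 ?_)
    rw [map_one]
    show QuotientGroup.mk' _ (θ k) = 1
    rw [hk, map_one]
  exact eq_one_of_forall_mem_range_pow k hdiv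

end hopf

section geometry

/-- the kernel of a power of the identity, on spectra -/
theorem isPullback_torsion {K : Type u} [CommRing K] (A : Type u) [CommRing A] [HopfAlgebra K A] (n : ℕ) :
    IsPullback (Spec.map (CommRingCat.ofHom (algebraMap K (A ⧸ SGA3b.torsionIdeal K A n))))
      (Spec.map (CommRingCat.ofHom (Ideal.Quotient.mk (SGA3b.torsionIdeal K A n))))
      (Spec.map (CommRingCat.ofHom (Bialgebra.counitAlgHom K A).toRingHom))
      (Spec.map (CommRingCat.ofHom (SGA3b.powConv K A n).toRingHom)) := by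
  let J := SGA3b.torsionIdeal K A n
  have hw : CommRingCat.ofHom (Bialgebra.counitAlgHom K A).toRingHom ≫ CommRingCat.ofHom (algebraMap K (A ⧸ J)) =
      CommRingCat.ofHom (SGA3b.powConv K A n).toRingHom ≫ CommRingCat.ofHom (Ideal.Quotient.mk J) := by
    refine CommRingCat.hom_ext (RingHom.ext fun a => ?_)
    show algebraMap K (A ⧸ J) (Coalgebra.counit (R := K) a) = Ideal.Quotient.mk J (SGA3b.powConv K A n a)
    rw [IsScalarTower.algebraMap_apply K A (A ⧸ J), Ideal.Quotient.algebraMap_eq, Ideal.Quotient.eq,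
      ← (SGA3b.powConv K A n).commutes, ← map_sub]
    refine Ideal.mem_map_of_mem _ ?_
    show Coalgebra.counit (R := K) (algebraMap K A (Coalgebra.counit (R := K) a) - a) = 0
    rw [map_sub, Bialgebra.counit_algebraMap, sub_self]
  refine isPullback_SpecMap_of_isPushout _ _ _ _ ⟨⟨hw⟩, ⟨?_⟩⟩
  have hle : ∀ s : Limits.PushoutCocone (CommRingCat.ofHom (Bialgebra.counitAlgHom K A).toRingHom)
      (CommRingCat.ofHom (SGA3b.powConv K A n).toRingHom), ∀ a ∈ J, s.inr.hom a = 0 := fun s a ha => by
    have hle : J ≤ RingHom.ker s.inr.hom := Ideal.map_le_iff_le_comap.2 fun b hb => by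
      show s.inr.hom (SGA3b.powConv K A n b) = 0
      have h := RingHom.congr_fun (congrArg CommRingCat.Hom.hom s.condition) b
      refine (show s.inr.hom (SGA3b.powConv K A n b) = s.inl.hom (Coalgebra.counit (R := K) b) from h.symm).trans ?_
      rw [show Coalgebra.counit (R := K) b = 0 from hb]
      exact map_zero _
    exact hle ha
  refine Limits.PushoutCocone.IsColimit.mk _
    (fun s => CommRingCat.ofHom (Ideal.Quotient.lift J s.inr.hom (hle s))) (fun s => ?_) (fun s => ?_)
    fun s m h₁ h₂ => CommRingCat.hom_ext (Ideal.Quotient.ringHom_ext (RingHom.ext fun a => ?_))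
  · refine CommRingCat.hom_ext (RingHom.ext fun r => ?_)
    show Ideal.Quotient.lift J s.inr.hom (hle s) (algebraMap K (A ⧸ J) r) = s.inl.hom r
    rw [IsScalarTower.algebraMap_apply K A (A ⧸ J), Ideal.Quotient.algebraMap_eq, Ideal.Quotient.lift_mk]
    have h := RingHom.congr_fun (congrArg CommRingCat.Hom.hom s.condition) (algebraMap K A r)
    change s.inl.hom (Coalgebra.counit (R := K) (algebraMap K A r)) =
      s.inr.hom (SGA3b.powConv K A n (algebraMap K A r)) at h
    rw [Bialgebra.counit_algebraMap, AlgHom.commutes] at h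
    exact h.symm
  · exact CommRingCat.hom_ext (RingHom.ext fun a => rfl)
  · exact RingHom.congr_fun (congrArg CommRingCat.Hom.hom h₂) a

variable {K : Type u} [CommRing K] {A : Type u} [CommRing A] [HopfAlgebra K A]

/-- powers of the identity of an affine group -/
theorem pow_id_left (n : ℕ) :
    ((𝟙 (specGrp K A)) ^ n : specGrp K A ⟶ specGrp K A).left =
      Spec.map (CommRingCat.ofHom (SGA3b.powConv K A n).toRingHom) := by
  have h1 : Spec.mapMulEquiv (toConv (AlgHom.id K A)) = 𝟙 (specGrp K A) := Over.OverMorphism.ext (by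
    show Spec.map (CommRingCat.ofHom (RingHom.id A)) = 𝟙 _
    exact Spec.map_id _)
  rw [← h1]
  exact congrArg (fun z : specGrp K A ⟶ specGrp K A => z.left)
    (map_pow Spec.mapMulEquiv (toConv (AlgHom.id K A)) n).symm

theorem isPullback_over {S : Scheme.{u}} {W X Y Z : Over S} {f : W ⟶ X} {g : W ⟶ Y} {h : X ⟶ Z} {k : Y ⟶ Z}
    (hp : IsPullback f.left g.left h.left k.left) : IsPullback f g h k :=
  IsPullback.of_map (Over.forget S) (Over.OverMorphism.ext hp.w) hp

/-- the torsion subscheme at a point with values in a ring with an affine model -/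
theorem isPullback_torsion_bc {S : Scheme.{u}} (H : Over S) [GrpObj H] (x : Spec (CommRingCat.of K) ⟶ S)
    (e : Grp.mk (Red.bc x H) ≅ Grp.mk (specGrp K A)) (n : ℕ) :
    ∃ fst, IsPullback fst (Spec.map (CommRingCat.ofHom (algebraMap K (A ⧸ SGA3b.torsionIdeal K A n))))
      (Limits.pullback.snd η[H].left ((𝟙 H : H ⟶ H) ^ n).left ≫ H.hom) x := by
  let J := SGA3b.torsionIdeal K A n
  let f : specGrp K A ⟶ Red.bc x H := e.inv.hom.hom
  haveI : IsMonHom f := inferInstanceAs (IsMonHom e.inv.hom.hom)
  let g : Red.bc x H ⟶ specGrp K A := e.hom.hom.hom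
  have hfg : f ≫ g = 𝟙 _ := congrArg (fun z => z.hom.hom) e.inv_hom_id
  have hgf : g ≫ f = 𝟙 _ := congrArg (fun z => z.hom.hom) e.hom_inv_id
  haveI : IsMonHom g := inferInstanceAs (IsMonHom e.hom.hom.hom)
  let W : Over (Spec (CommRingCat.of K)) := Over.mk (Spec.map (CommRingCat.ofHom (algebraMap K (A ⧸ J))))
  let w₁ : W ⟶ 𝟙_ (Over (Spec (CommRingCat.of K))) := toUnit W
  let w₂ : W ⟶ specGrp K A := Over.homMk (Spec.map (CommRingCat.ofHom (Ideal.Quotient.mk J))) (by
    exact (Spec.map_comp _ _).symm.trans rfl)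
  have hK : IsPullback w₁ w₂ η[specGrp K A] ((𝟙 (specGrp K A)) ^ n) := by
    refine isPullback_over ?_
    rw [pow_id_left, one_spec_asOver_spec_left]
    exact isPullback_torsion A n
  -- transport to the base change
  have hB : IsPullback w₁ (w₂ ≫ f) η[Red.bc x H] ((𝟙 (Red.bc x H)) ^ n) := by
    let E : specGrp K A ≅ Red.bc x H := ⟨f, g, hfg, hgf⟩
    refine hK.of_iso (Iso.refl _) (Iso.refl _) E E ?_ ?_ ?_ ?_
    · simp
    · simp [E]
    · simp only [E, Iso.refl_hom, Category.id_comp]; exact (IsMonHom.one_hom f)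
    · show ((𝟙 (specGrp K A)) ^ n) ≫ f = f ≫ (𝟙 (Red.bc x H)) ^ n
      rw [MonObj.pow_comp, MonObj.comp_pow, Category.comp_id, Category.id_comp]
  -- the universal property
  let P := Limits.pullback η[H].left ((𝟙 H : H ⟶ H) ^ n).left
  let t : (Over.map x).obj W ⟶ H := (H21Diag.bcEquiv x H W).symm (w₂ ≫ f)
  have hone : ∀ {T : Over (Spec (CommRingCat.of K))}, H21Diag.bcEquiv x H T 1 = 1 := fun {T} =>
    (MonoidHom.mk' (H21Diag.bcEquiv x H T) (H21Diag.bcEquiv_mul x H T)).map_one
  have hpow : ∀ {T : Over (Spec (CommRingCat.of K))} (a : (Over.map x).obj T ⟶ H),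
      H21Diag.bcEquiv x H T (a ^ n) = (H21Diag.bcEquiv x H T a) ^ n := fun {T} a => by
    exact map_pow (MonoidHom.mk' (H21Diag.bcEquiv x H T) (H21Diag.bcEquiv_mul x H T)) a n
  have key : ∀ {T : Over (Spec (CommRingCat.of K))} (a : (Over.map x).obj T ⟶ H),
      a ^ n = 1 ↔ ∃ b : T ⟶ W, b ≫ w₂ ≫ f = H21Diag.bcEquiv x H T a := fun {T} a => by
    rw [← (H21Diag.bcEquiv x H T).injective.eq_iff, hpow, hone]
    constructor
    · intro h
      refine ⟨hB.lift (toUnit T) (H21Diag.bcEquiv x H T a) ?_, hB.lift_snd _ _ _⟩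
      rw [MonObj.comp_pow, Category.comp_id, h]
      rfl
    · rintro ⟨b, hb⟩
      have h := congrArg (fun z => b ≫ z) hB.w
      rw [← Category.assoc b (w₂ ≫ f), hb, MonObj.comp_pow, Category.comp_id, ← Category.assoc] at h
      rw [← h, toUnit_unique (b ≫ w₁) (toUnit T)]
      rfl
  have ht : t ^ n = 1 := (key t).2 ⟨𝟙 W, by rw [Category.id_comp]; exact ((H21Diag.bcEquiv x H W).apply_symm_apply _).symm⟩
  have htl : (toUnit ((Over.map x).obj W)).left ≫ η[H].left = t.left ≫ ((𝟙 H : H ⟶ H) ^ n).left := by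
    refine congrArg (fun z : (Over.map x).obj W ⟶ H => z.left)
      (?_ : toUnit ((Over.map x).obj W) ≫ η[H] = t ≫ (𝟙 H : H ⟶ H) ^ n)
    rw [MonObj.comp_pow, Category.comp_id, ht]
    rfl
  let fst : W.left ⟶ P := Limits.pullback.lift (toUnit ((Over.map x).obj W)).left t.left htl
  have hfst : fst ≫ Limits.pullback.snd η[H].left ((𝟙 H : H ⟶ H) ^ n).left = t.left :=
    Limits.pullback.lift_snd _ _ _
  refine ⟨fst, ⟨⟨?_⟩, ⟨?_⟩⟩⟩
  · rw [← Category.assoc, hfst]
    exact Over.w t
  · -- lifts
    have lifts : ∀ (c : Limits.PullbackCone (Limits.pullback.snd η[H].left ((𝟙 H : H ⟶ H) ^ n).left ≫ H.hom) x),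
        ∃ l : c.pt ⟶ W.left, l ≫ fst = c.fst ∧ l ≫ W.hom = c.snd := fun c => by
      let T : Over (Spec (CommRingCat.of K)) := Over.mk c.snd
      let a : (Over.map x).obj T ⟶ H := Over.homMk (c.fst ≫ Limits.pullback.snd _ _)
        ((Category.assoc _ _ _).trans c.condition)
      have hc1 : c.fst ≫ Limits.pullback.fst η[H].left ((𝟙 H : H ⟶ H) ^ n).left =
          (toUnit ((Over.map x).obj T)).left := by
        have h := congrArg (fun z => c.fst ≫ z ≫ H.hom) (Limits.pullback.condition
          (f := η[H].left) (g := ((𝟙 H : H ⟶ H) ^ n).left))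
        simp only [Category.assoc, Over.w] at h
        refine ((Category.comp_id _).symm.trans ?_).trans (Over.w (toUnit ((Over.map x).obj T))).symm
        exact h.trans c.condition
      have ha : a ^ n = 1 := by
        have h : a ≫ (𝟙 H : H ⟶ H) ^ n = toUnit _ ≫ η[H] := Over.OverMorphism.ext (by
          show (c.fst ≫ Limits.pullback.snd _ _) ≫ _ = _ ≫ _
          rw [Category.assoc, ← Limits.pullback.condition, ← Category.assoc, hc1])
        rw [MonObj.comp_pow, Category.comp_id] at h
        exact h.trans rfl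
      obtain ⟨b, hb⟩ := (key a).1 ha
      refine ⟨b.left, ?_, Over.w b⟩
      have hta : (Over.map x).map b ≫ t = a := by
        apply (H21Diag.bcEquiv x H T).injective
        rw [← hb, H21Diag.bcEquiv, Adjunction.homEquiv_naturality_left]
        exact congrArg (b ≫ ·) ((H21Diag.bcEquiv x H W).apply_symm_apply _)
      refine Limits.pullback.hom_ext ?_ ?_
      · rw [Category.assoc, Limits.pullback.lift_fst, hc1]
        exact congrArg (fun z => z.left) (toUnit_unique ((Over.map x).map b ≫ toUnit _) (toUnit _))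
      · rw [Category.assoc, hfst]
        exact congrArg (fun z : (Over.map x).obj T ⟶ H => z.left) hta
    choose l hl₁ hl₂ using lifts
    refine Limits.PullbackCone.IsLimit.mk _ l hl₁ hl₂ fun c m h₁ h₂ => ?_
    have hmono : Mono w₂.left := by
      haveI : IsClosedImmersion (Spec.map (CommRingCat.ofHom (Ideal.Quotient.mk J))) :=
        IsClosedImmersion.spec_of_surjective _ Ideal.Quotient.mk_surjective
      exact (inferInstance : Mono (Spec.map (CommRingCat.ofHom (Ideal.Quotient.mk J))))
    have htb : t.left = (w₂ ≫ f).left ≫ Limits.pullback.fst H.hom x := by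
      have h := H21Diag.bcEquiv_left_fst x H W t
      rw [(H21Diag.bcEquiv x H W).apply_symm_apply] at h
      exact h.symm
    have hEq : ∀ {Z : Scheme.{u}} (p q : Z ⟶ W.left), p ≫ fst = q ≫ fst → p ≫ W.hom = q ≫ W.hom → p = q := by
      intro Z p q hp hq
      haveI : IsIso f.left := ⟨⟨g.left, congrArg (fun z => z.left) hfg, congrArg (fun z => z.left) hgf⟩⟩
      rw [← cancel_mono w₂.left, ← cancel_mono f.left]
      refine Limits.pullback.hom_ext ?_ ?_
      · have h := congrArg (fun z => z ≫ Limits.pullback.snd η[H].left ((𝟙 H : H ⟶ H) ^ n).left) hp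
        simp only [Category.assoc, hfst, htb] at h
        simpa [Category.assoc] using h
      · have h : (w₂.left ≫ f.left) ≫ Limits.pullback.snd H.hom x = W.hom := Over.w (w₂ ≫ f)
        simp only [Category.assoc] at h ⊢
        rw [h]
        exact hq
    exact hEq _ _ (h₁.trans (hl₁ c).symm) (h₂.trans (hl₂ c).symm)

/-- the degree of a fibre computed over an extension field -/
theorem finrank_fibre_eq {X S : Scheme.{u}} (q : X ⟶ S) [IsAffineHom q] {L : Type u} [Field L]
    (x : Spec (CommRingCat.of L) ⟶ S) (B : Type u) [CommRing B] [Algebra L B] [Module.Finite L B]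
    (fst : Spec (CommRingCat.of B) ⟶ X)
    (hp : IsPullback fst (Spec.map (CommRingCat.ofHom (algebraMap L B))) q x)
    (z : ↥(Spec (S.residueField (x.base (IsLocalRing.closedPoint L))))) :
    (q.fiberToSpecResidueField (x.base (IsLocalRing.closedPoint L))).finrank z = Module.finrank L B := by
  let s := x.base (IsLocalRing.closedPoint L)
  let g := q.fiberToSpecResidueField s
  obtain ⟨φ, hφ⟩ : ∃ φ : Spec (CommRingCat.of L) ⟶ Spec (S.residueField s),
      φ ≫ S.fromSpecResidueField s = x := ⟨Spec.map (S.descResidueField (Scheme.stalkClosedPointTo x)),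
      Scheme.descResidueField_stalkClosedPointTo_fromSpecResidueField L S x⟩
  have hsq : IsPullback (q.fiberι s) g q (S.fromSpecResidueField s) := IsPullback.of_hasPullback _ _
  let u := hsq.lift fst (Spec.map (CommRingCat.ofHom (algebraMap L B)) ≫ φ) (by rw [Category.assoc, hφ]; exact hp.w)
  have hu : IsPullback u (Spec.map (CommRingCat.ofHom (algebraMap L B))) g φ := by
    refine IsPullback.of_right ?_ (hsq.lift_snd _ _ _) hsq
    rw [hsq.lift_fst, hφ]
    exact hp
  haveI : IsAffineHom g := MorphismProperty.of_isPullback hsq ‹_›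
  haveI : Flat g := H12AlgSp.flat_to_field (K := S.residueField s) g
  haveI : Flat φ := H12AlgSp.flat_to_field (K := S.residueField s) φ
  haveI : Surjective φ := ⟨fun p => ⟨default, Subsingleton.elim _ _⟩⟩
  haveI hfin : IsFinite (Spec.map (CommRingCat.ofHom (algebraMap L B))) :=
    (IsFinite.SpecMap_iff _).2 (RingHom.finite_algebraMap.2 ‹_›)
  have hQ : (@Surjective ⊓ @Flat ⊓ @QuasiCompact : MorphismProperty Scheme.{u}) φ :=
    ⟨⟨‹_›, ‹_›⟩, inferInstance⟩
  have h1 : UniversallyClosed g := MorphismProperty.of_isPullback_of_descendsAlong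
    (P := @UniversallyClosed) (Q := @Surjective ⊓ @Flat ⊓ @QuasiCompact) hu.flip hQ inferInstance
  have h2 : LocallyOfFiniteType g := MorphismProperty.of_isPullback_of_descendsAlong
    (P := @LocallyOfFiniteType) (Q := @Surjective ⊓ @Flat ⊓ @QuasiCompact) hu.flip hQ inferInstance
  haveI : IsFinite g := (IsFinite.iff_isIntegralHom_and_locallyOfFiniteType g).2
    ⟨IsIntegralHom.iff_universallyClosed_and_isAffineHom.2 ⟨h1, ‹_›⟩, h2⟩
  have h3 := Scheme.Hom.finrank_of_isPullback _ _ g φ hu default
  rw [show φ.base default = z from Subsingleton.elim _ _] at h3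
  refine h3.symm.trans ?_
  rw [Scheme.Hom.finrank_SpecMap_algebraMap, Module.rankAtStalk_eq_finrank_of_free]
  rfl

end geometry

end Groth.Agent.H21Hom
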