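import Groth.Agent.H21Hom.Bridge
import Groth.Agent.H21Hom.MultSub
import Groth.Agent.H21Hom.TorsionOrder
import Groth.Agent.H21Diag.Iso
import Groth.Agent.H19Mult.SubgroupLocal
import Groth.Agent.H19Mult.LocalCriterion
import Groth.Agent.H19Mult.TorsionFill

/-!
A clopen subgroup of multiplicative type of an extension containing the closed fibre is everything.
-/

set_option autoImplicit false
set_option maxHeartbeats 1000000
set_option linter.style.haveILetI false
set_option backward.isDefEq.respectTransparency false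
set_option synthInstance.maxHeartbeats 400000

universe u

open CategoryTheory MonoidalCategory CartesianMonoidalCategory MonObj GrpObj AlgebraicGeometry
open TensorProduct WithConv

namespace Groth.Agent.H21Hom

variable {T : Type u} [CommRing T] [IsLocalRing T]

/-- idempotents of a group algebra vanishing on the closed fibre -/
theorem idem_monoidAlgebra_eq_zero {M : Type u} [CommGroup M] [Group.FG M] (v : MonoidAlgebra T M)
    (hv : IsIdempotentElem v)
    (hm : v ∈ (IsLocalRing.maximalIdeal T).map (algebraMap T (MonoidAlgebra T M))) : v = 0 := by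
  classical
  by_contra hne
  obtain ⟨m, hm0⟩ : ∃ m, v.coeff m ≠ 0 := by
    by_contra hc
    push Not at hc
    exact hne (MonoidAlgebra.coeff_eq_zero.1 (Finsupp.ext hc))
  have hsep : ∀ l : M, l ≠ m → ∃ n : ℕ, 0 < n ∧ l * m⁻¹ ∉ (powMonoidHom n : M →* M).range := fun l hl => by
    by_contra hc
    push Not at hc
    exact hl (mul_inv_eq_one.1 (eq_one_of_forall_mem_range_pow (l * m⁻¹) hc))
  choose! f hf0 hf using hsep
  let S := v.coeff.support.erase m
  let n := ∏ l ∈ S, f l
  have hn : 0 < n := Finset.prod_pos fun l hl => hf0 l (Finset.mem_erase.1 hl).1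
  let H := (powMonoidHom n : M →* M).range
  let q := MonoidAlgebra.mapDomainAlgHom T T (QuotientGroup.mk' H)
  haveI := H19Mult.finite_quotient_range_pow (M := M) hn
  haveI : Module.Finite T (MonoidAlgebra T (M ⧸ H)) := inferInstance
  have hq : q v = 0 := by
    refine H19Mult.idem_eq_of_jacobson (hv.map q).eq (zero_mul _) ?_
    rw [sub_zero]
    have h1 := Ideal.mem_map_of_mem q.toRingHom hm
    rw [Ideal.map_map, AlgHom.toRingHom_eq_coe, AlgHom.comp_algebraMap] at h1
    refine Ideal.mem_sInf.2 fun {P} hP => (Ideal.map_le_iff_le_comap.2 fun a ha => ?_) h1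
    haveI : P.IsMaximal := hP.2
    haveI : (P.comap (algebraMap T (MonoidAlgebra T (M ⧸ H)))).IsMaximal :=
      Ideal.isMaximal_comap_of_isIntegral_of_isMaximal P
    rw [IsLocalRing.eq_maximalIdeal (I := P.comap (algebraMap T (MonoidAlgebra T (M ⧸ H)))) inferInstance]
    exact ha
  have h2 : (q v).coeff (QuotientGroup.mk' H m) = v.coeff m := by
    show (MonoidAlgebra.mapDomain (QuotientGroup.mk' H) v).coeff (QuotientGroup.mk' H m) = v.coeff m
    simp only [MonoidAlgebra.coeff_mapDomain, Finsupp.mapDomain, Finsupp.sum_apply]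
    refine (Finset.sum_eq_single m (fun l hl hlm => ?_) fun h => absurd (Finsupp.mem_support_iff.2 hm0) h).trans
      Finsupp.single_eq_same
    refine Finsupp.single_eq_of_ne fun heq => ?_
    obtain ⟨d, hd⟩ := Finset.dvd_prod_of_mem f (Finset.mem_erase.2 ⟨hlm, hl⟩ : l ∈ S)
    obtain ⟨r, hr⟩ := (QuotientGroup.eq (s := H)).1 heq
    refine hf l hlm ⟨(r ^ d), ?_⟩
    show (r ^ d) ^ f l = l * m⁻¹
    rw [← pow_mul, mul_comm d, ← hd]
    refine hr.trans ?_
    rw [mul_comm]
  rw [hq] at h2
  exact hm0 h2.symm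

/-- idempotents of a group of multiplicative type vanishing on the closed fibre -/
theorem idem_multType_eq_zero {A : Type u} [CommRing A] [HopfAlgebra T A] (hft : Algebra.FiniteType T A)
    (h : SGA3b.IsMultType T A) (v : A) (hv : IsIdempotentElem v)
    (hm : v ∈ (IsLocalRing.maximalIdeal T).map (algebraMap T A)) : v = 0 := by
  obtain ⟨T', _, _, hT', hff, hle, M, _, hM, ⟨e⟩⟩ := H19Mult.SubgroupLocal.exists_local_chart hft h
  haveI := hT'
  haveI := hff
  haveI := hM
  let g : A →ₐ[T] MonoidAlgebra T' M :=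
    ((e : (T' ⊗[T] A) →ₐ[T'] MonoidAlgebra T' M).restrictScalars T).comp Algebra.TensorProduct.includeRight
  have h0 : g v = 0 := by
    refine idem_monoidAlgebra_eq_zero _ (hv.map g) ?_
    have h1 := Ideal.mem_map_of_mem g.toRingHom hm
    rw [Ideal.map_map, AlgHom.toRingHom_eq_coe, AlgHom.comp_algebraMap,
      IsScalarTower.algebraMap_eq T T' (MonoidAlgebra T' M), ← Ideal.map_map] at h1
    exact Ideal.map_mono hle h1
  have h1 : (1 : T') ⊗ₜ[T] v = 0 := (map_eq_zero_iff e (EquivLike.injective e)).1 h0
  refine Module.FaithfullyFlat.tensorProduct_mk_injective (A := T) (B := T') A ?_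
  show (1 : T') ⊗ₜ[T] v = (1 : T') ⊗ₜ[T] (0 : A)
  rw [h1, TensorProduct.tmul_zero]

/-- homomorphisms of affine groups from bialgebra maps -/
theorem exists_hom_of_bialgHom {R A B : Type u} [CommRing R] [CommRing A] [HopfAlgebra R A] [CommRing B]
    [HopfAlgebra R B] (ψ : A →ₐc[R] B) :
    ∃ f : specGrp R B ⟶ specGrp R A, IsMonHom f ∧
      f.left = Spec.map (CommRingCat.ofHom (ψ : A →ₐ[R] B).toRingHom) :=
  let g : Grp.mk (specGrp R B) ⟶ Grp.mk (specGrp R A) :=
    (hopfSpec (CommRingCat.of R)).map (CommHopfAlgCat.ofHom ψ).op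
  ⟨g.hom.hom, inferInstanceAs (IsMonHom g.hom.hom), rfl⟩

variable {C : Type u} [CommRing C] [HopfAlgebra T C] {A'' : Type u} [CommRing A''] [HopfAlgebra T A'']
  {M : Type u} [CommGroup M]

/-- the clopen subgroup surjects onto the quotient -/
theorem surjective_chart_comp [Group.FG M] (hft : Algebra.FiniteType T A'') (h'' : SGA3b.IsMultType T A'')
    (π : A'' →ₐc[T] C) (hflat : (π : A'' →ₐ[T] C).toRingHom.Flat)
    (hsurj : Function.Surjective (PrimeSpectrum.comap (π : A'' →ₐ[T] C).toRingHom))
    (φ : C →ₐc[T] MonoidAlgebra T M) (hφ : Function.Surjective φ) (e : C) (he : IsIdempotentElem e)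
    (hem : e ∈ (IsLocalRing.maximalIdeal T).map (algebraMap T C))
    (hker : RingHom.ker (φ : C →ₐ[T] MonoidAlgebra T M).toRingHom = Ideal.span {e}) :
    Function.Surjective (PrimeSpectrum.comap
      ((φ : C →ₐ[T] MonoidAlgebra T M).toRingHom.comp (π : A'' →ₐ[T] C).toRingHom)) := by
  classical
  obtain ⟨fp, hfp, hp⟩ := exists_hom_of_bialgHom π
  obtain ⟨fj, hfj, hj⟩ := exists_hom_of_bialgHom φ
  haveI := hfp
  haveI := hfj
  let f := fj ≫ fp
  have hG : SGA3x.IsMultTypeFT (specGrp T (MonoidAlgebra T M)) := by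
    haveI : Monoid.FG M := Group.fg_iff_monoid_fg.1 ‹_›
    exact isMultTypeFT_specGrp inferInstance (H19Mult.isMultType_of_charts (R := T) (fun _ : Fin 1 => T)
      (fun q => ⟨0, q, by simp⟩) fun _ => ⟨M, inferInstance, ⟨H19Mult.scalarBialgEquiv T T M⟩⟩)
  have hH := isMultTypeFT_specGrp hft h''
  obtain ⟨U, -, hU, -, hUs⟩ := H21Diag.exists_flat_surjective_locus f hG hH
  let s : ↥(Spec (CommRingCat.of T)) := IsLocalRing.closedPoint T
  let r := (Spec (CommRingCat.of T)).fromSpecResidueField s
  haveI : Flat fp.left := by rw [hp]; exact Flat.SpecMap_iff.mpr hflat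
  haveI : Surjective fp.left := by rw [hp]; exact ⟨hsurj⟩
  -- the chart is flat
  have hjfl : (φ : C →ₐ[T] MonoidAlgebra T M).toRingHom.Flat := by
    letI : Algebra C (MonoidAlgebra T M) := (φ : C →ₐ[T] MonoidAlgebra T M).toRingHom.toAlgebra
    haveI : IsLocalization.Away (1 - e) (MonoidAlgebra T M) := IsLocalization.away_of_isIdempotentElem he.one_sub
      (by
        show RingHom.ker (φ : C →ₐ[T] MonoidAlgebra T M).toRingHom = Ideal.span {1 - (1 - e)}
        rw [sub_sub_cancel]; exact hker) hφ
    exact (IsLocalization.flat (MonoidAlgebra T M) (Submonoid.powers (1 - e)) : Module.Flat C (MonoidAlgebra T M))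
  haveI : Flat fj.left := by rw [hj]; exact Flat.SpecMap_iff.mpr hjfl
  have hs : s ∈ U := by
    rw [hU]
    let jr := (Over.pullback r).map fj
    let pr := (Over.pullback r).map fp
    haveI : Flat jr.left := MorphismProperty.overPullbackMap (P := @Flat) r fj ‹_›
    haveI : Flat pr.left := MorphismProperty.overPullbackMap (P := @Flat) r fp ‹_›
    haveI : Surjective pr.left := MorphismProperty.overPullbackMap (P := @Surjective) r fp ‹_›
    haveI : Surjective jr.left := by
      refine ⟨fun z => ?_⟩
      let x := (Limits.pullback.fst (specGrp T C).hom r).base z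
      have hx : (specGrp T C).hom.base x = s := by
        show (Limits.pullback.fst (specGrp T C).hom r ≫ (specGrp T C).hom).base z = s
        rw [Limits.pullback.condition, Scheme.Hom.comp_apply]
        exact Scheme.fromSpecResidueField_apply s _
      have hex : e ∈ (x : PrimeSpectrum C).asIdeal := by
        refine (Ideal.map_le_iff_le_comap.2 (fun a ha => ?_)) hem
        have : a ∈ (PrimeSpectrum.comap (algebraMap T C) x).asIdeal := by
          rw [show PrimeSpectrum.comap (algebraMap T C) x = IsLocalRing.closedPoint T from hx]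
          exact ha
        exact this
      obtain ⟨y, hy⟩ : x ∈ Set.range fj.left.base := by
        rw [hj]
        show x ∈ Set.range (PrimeSpectrum.comap (φ : C →ₐ[T] MonoidAlgebra T M).toRingHom)
        rw [range_comap_of_surjective _ _ hφ]
        show ((RingHom.ker (φ : C →ₐ[T] MonoidAlgebra T M).toRingHom : Ideal C) : Set C) ⊆ _
        rw [hker]
        exact (Ideal.span_singleton_le_iff_mem _).2 hex
      have hsq : IsPullback (Limits.pullback.fst (specGrp T (MonoidAlgebra T M)).hom r) jr.left fj.left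
          (Limits.pullback.fst (specGrp T C).hom r) := by
        refine IsPullback.of_bot ?_ ?_ (IsPullback.of_hasPullback (specGrp T C).hom r)
        · rw [show fj.left ≫ (specGrp T C).hom = (specGrp T (MonoidAlgebra T M)).hom from Over.w fj,
            show jr.left ≫ Limits.pullback.snd (specGrp T C).hom r = Limits.pullback.snd _ r from Over.w jr]
          exact IsPullback.of_hasPullback _ _
        · exact (Limits.pullback.lift_fst _ _ _).symm
      obtain ⟨w, hw1, hw2⟩ := Scheme.Pullback.exists_preimage_pullback y z hy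
      refine ⟨hsq.isoPullback.inv.base w, ?_⟩
      rw [← hw2, ← IsPullback.isoPullback_inv_snd hsq]
      rfl
    have hfr : ((Over.pullback r).map f).left = jr.left ≫ pr.left :=
      congrArg (fun z => z.left) ((Over.pullback r).map_comp fj fp)
    show Flat ((Over.pullback r).map f).left ∧ Surjective ((Over.pullback r).map f).left
    rw [hfr]
    exact ⟨inferInstance, inferInstance⟩
  have htop : U = ⊤ := (IsLocalRing.closed_point_mem_iff (U := U)).1 hs
  subst htop
  have hsurjf : Surjective f.left := by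
    refine ⟨fun z => ?_⟩
    let π₁ := Limits.pullback.fst (specGrp T A'').hom (⊤ : (Spec (CommRingCat.of T)).Opens).ι
    obtain ⟨z', hz'⟩ : z ∈ Set.range π₁.base := by
      rw [Scheme.Pullback.range_fst, Scheme.Opens.range_ι]
      trivial
    obtain ⟨w, hw⟩ := hUs.surj z'
    refine ⟨(Limits.pullback.fst (specGrp T (MonoidAlgebra T M)).hom (⊤ : (Spec (CommRingCat.of T)).Opens).ι).base w, ?_⟩
    rw [← hz', ← hw]
    let P := (Over.pullback (⊤ : (Spec (CommRingCat.of T)).Opens).ι).map f
    have h : P.left ≫ π₁ = Limits.pullback.fst (specGrp T (MonoidAlgebra T M)).hom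
        (⊤ : (Spec (CommRingCat.of T)).Opens).ι ≫ f.left := Limits.pullback.lift_fst _ _ _
    show (Limits.pullback.fst (specGrp T (MonoidAlgebra T M)).hom
        (⊤ : (Spec (CommRingCat.of T)).Opens).ι ≫ f.left).base w = (P.left ≫ π₁).base w
    exact (congrArg (fun q : _ ⟶ (specGrp T A'').left => q.base w) h).symm
  intro q
  obtain ⟨w, hw⟩ := hsurjf.surj q
  refine ⟨w, ?_⟩
  have hfl : f.left = Spec.map (CommRingCat.ofHom
      ((φ : C →ₐ[T] MonoidAlgebra T M).toRingHom.comp (π : A'' →ₐ[T] C).toRingHom)) := by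
    rw [CommRingCat.ofHom_comp, Spec.map_comp, ← hp, ← hj]
    rfl
  rw [hfl] at hw
  exact hw

/-- the idempotent of the clopen subgroup vanishes -/
theorem idem_eq_zero_of_extension {A' : Type u} [CommRing A'] [HopfAlgebra T A'] [Algebra.FiniteType T C]
    (hft' : Algebra.FiniteType T A') (h' : SGA3b.IsMultType T A')
    (hft : Algebra.FiniteType T A'') (h'' : SGA3b.IsMultType T A'')
    (π : A'' →ₐc[T] C) (ψ : C →ₐc[T] A')
    (hflat : (π : A'' →ₐ[T] C).toRingHom.Flat)
    (hsurj : Function.Surjective (PrimeSpectrum.comap (π : A'' →ₐ[T] C).toRingHom))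
    (hkerp : ∀ (D : Type u) [CommRing D] [Algebra T D] (x : C →ₐ[T] D),
      toConv (x.comp (π : A'' →ₐ[T] C)) = 1 → ∃ h : A' →ₐ[T] D, h.comp (ψ : C →ₐ[T] A') = x)
    (φ : C →ₐc[T] MonoidAlgebra T M) (hφ : Function.Surjective φ) (e : C) (he : IsIdempotentElem e)
    (hem : e ∈ (IsLocalRing.maximalIdeal T).map (algebraMap T C))
    (hker : RingHom.ker (φ : C →ₐ[T] MonoidAlgebra T M).toRingHom = Ideal.span {e}) : e = 0 := by
  haveI : Group.FG M := (MonoidAlgebra.finiteType_iff_group_fg (R := T)).1
    ((inferInstance : Algebra.FiniteType T C).of_surjective (φ : C →ₐ[T] MonoidAlgebra T M) hφ)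
  obtain ⟨hH, -⟩ := H19Mult.exists_quot_equiv φ hφ e hker
  haveI := hH
  have hψe : ψ e = 0 := by
    refine idem_multType_eq_zero hft' h' _ (he.map ψ) ?_
    have h1 := Ideal.mem_map_of_mem (ψ : C →ₐ[T] A').toRingHom hem
    rw [Ideal.map_map, AlgHom.toRingHom_eq_coe, AlgHom.comp_algebraMap] at h1
    exact h1
  have hsur := surjective_chart_comp hft h'' π hflat hsurj φ hφ e he hem hker
  refine he.eq_zero_of_isNilpotent (mem_nilradical.1 ?_)
  rw [nilradical_eq_sInf, Ideal.mem_sInf]
  intro P hP
  haveI : P.IsPrime := hP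
  letI : Algebra A'' C := (π : A'' →ₐ[T] C).toRingHom.toAlgebra
  obtain ⟨w, hw⟩ := hsur (PrimeSpectrum.comap (algebraMap A'' C) ⟨P, hP⟩)
  let Q : PrimeSpectrum C := PrimeSpectrum.comap (φ : C →ₐ[T] MonoidAlgebra T M).toRingHom w
  have hQ : e ∈ Q.asIdeal := by
    show φ e ∈ w.asIdeal
    have : φ e = 0 := RingHom.mem_ker.1 (hker ▸ Ideal.mem_span_singleton_self e)
    rw [this]
    exact zero_mem _
  obtain ⟨K, _, gP, gQ, hcomp, hkP, hkQ⟩ := H19Mult.exists_field_of_points (R := A'') (⟨P, hP⟩ : PrimeSpectrum C) Q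
    hw.symm
  letI : Algebra T K := (gP.comp (algebraMap T C)).toAlgebra
  let x : C →ₐ[T] K := { toRingHom := gP, commutes' := fun _ => rfl }
  let y : C →ₐ[T] K :=
    { toRingHom := gQ
      commutes' := fun t => by
        show gQ (algebraMap T C t) = gP (algebraMap T C t)
        rw [← (π : A'' →ₐ[T] C).commutes t]
        exact (RingHom.congr_fun hcomp _).symm }
  let yi : WithConv (C →ₐ[T] K) := toConv (y.comp (HopfAlgebra.antipodeAlgHom T C))
  have hyi : yi * toConv y = 1 := by
    refine WithConv.ofConv_injective ?_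
    have h1 := AlgHom.comp_convMul_distrib y (toConv (HopfAlgebra.antipodeAlgHom T C)) (toConv (AlgHom.id T C))
    rw [AlgHom.antipode_id_cancel] at h1
    refine h1.symm.trans (AlgHom.ext fun c => ?_)
    show y (algebraMap T C (Coalgebra.counit (R := T) c)) = algebraMap T K (Coalgebra.counit (R := T) c)
    exact y.commutes _
  have hyi' : toConv y * yi = 1 := by
    have hid : toConv (AlgHom.id T C) * toConv (HopfAlgebra.antipodeAlgHom T C) = 1 := by
      apply WithConv.ofConv_injective
      apply AlgHom.toLinearMap_injective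
      apply WithConv.toConv_injective
      rw [AlgHom.toLinearMap_convMul, AlgHom.toLinearMap_convOne]
      simp [LinearMap.id_mul_antipode]
    refine WithConv.ofConv_injective ?_
    have h1 := AlgHom.comp_convMul_distrib y (toConv (AlgHom.id T C)) (toConv (HopfAlgebra.antipodeAlgHom T C))
    rw [hid] at h1
    refine h1.symm.trans (AlgHom.ext fun c => ?_)
    show y (algebraMap T C (Coalgebra.counit (R := T) c)) = algebraMap T K (Coalgebra.counit (R := T) c)
    exact y.commutes _
  let z : WithConv (C →ₐ[T] K) := toConv x * yi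
  have hzπ : toConv (z.ofConv.comp (π : A'' →ₐ[T] C)) = 1 := by
    have h1 := AlgHom.convMul_comp_bialgHom_distrib (toConv x) yi π
    have h2 := AlgHom.convMul_comp_bialgHom_distrib (toConv y) yi π
    rw [hyi'] at h2
    have h1' := congrArg toConv h1
    have h2' := congrArg toConv h2
    rw [toConv_ofConv] at h1' h2'
    refine h1'.trans ?_
    have h3 : toConv ((toConv x).ofConv.comp (π : A'' →ₐ[T] C)) = toConv ((toConv y).ofConv.comp (π : A'' →ₐ[T] C)) :=
      congrArg toConv (AlgHom.ext fun b => RingHom.congr_fun hcomp b)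
    rw [h3]
    refine h2'.symm.trans ?_
    refine WithConv.ofConv_injective (AlgHom.ext fun c => ?_)
    show algebraMap T K (Coalgebra.counit (R := T) (π c)) = algebraMap T K (Coalgebra.counit (R := T) c)
    rw [CoalgHomClass.counit_comp_apply]
  obtain ⟨h, hh⟩ := hkerp K z.ofConv hzπ
  have hz : z.ofConv e = 0 := by
    rw [← hh]
    show h (ψ e) = 0
    rw [hψe, map_zero]
  have hy : (toConv y).ofConv e = 0 := by
    show gQ e = 0
    rw [← RingHom.mem_ker, hkQ]
    exact hQ
  have hxz : z * toConv y = toConv x := by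
    show toConv x * yi * toConv y = toConv x
    rw [_root_.mul_assoc, hyi, _root_.mul_one]
  have hx : (toConv x).ofConv e = 0 := by
    rw [← hxz]
    exact H19Mult.mul_apply_eq_zero hz hy
  have : e ∈ RingHom.ker gP := RingHom.mem_ker.2 hx
  rwa [hkP] at this

end Groth.Agent.H21Hom
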