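import Groth.Agent.H21Hom.ExtensionField
import Groth.Agent.H21Hom.ExtensionLocal
import Groth.Agent.H21Diag.TransporterSub

/-!
Commutative extensions of groups of multiplicative type are of multiplicative type.
-/

set_option autoImplicit false
set_option maxHeartbeats 1000000
set_option linter.style.haveILetI false
set_option backward.isDefEq.respectTransparency false
set_option synthInstance.maxHeartbeats 400000

universe u

open CategoryTheory MonoidalCategory CartesianMonoidalCategory MonObj GrpObj AlgebraicGeometry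
open TensorProduct WithConv

namespace Groth.Agent.H21Hom

/-- cocommutativity from commutation of points -/
theorem isCocomm_of_comm_points {R C : Type u} [CommRing R] [CommRing C] [HopfAlgebra R C]
    (h : ∀ (D : Type u) [CommRing D] [Algebra R D] (a b : WithConv (C →ₐ[R] D)), a * b = b * a) :
    Coalgebra.IsCocomm R C := by
  refine ⟨LinearMap.ext fun c => ?_⟩
  let il : C →ₐ[R] C ⊗[R] C := Algebra.TensorProduct.includeLeft
  let ir : C →ₐ[R] C ⊗[R] C := Algebra.TensorProduct.includeRight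
  have h1 := congrArg (fun f : WithConv (C →ₐ[R] C ⊗[R] C) => f.ofConv c) (h (C ⊗[R] C) (toConv ir) (toConv il))
  change (toConv ir * toConv il) c = (toConv il * toConv ir) c at h1
  rw [AlgHom.convMul_apply, AlgHom.convMul_apply] at h1
  show TensorProduct.comm R C C (Coalgebra.comul (R := R) c) = Coalgebra.comul (R := R) c
  refine Eq.trans ?_ (h1.trans ?_)
  · generalize Coalgebra.comul (R := R) c = w
    induction w using TensorProduct.induction_on with
    | zero => simp
    | tmul a b => simp [il, ir]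
    | add u v hu hv => simp only [map_add, hu, hv]
  · generalize Coalgebra.comul (R := R) c = w
    induction w using TensorProduct.induction_on with
    | zero => simp
    | tmul a b => simp [il, ir]
    | add u v hu hv => simp only [map_add, hu, hv]

/-- the extension of an ideal, through an algebra map -/
theorem algHom_mem_map {L T X Y : Type u} [CommRing L] [CommRing T] [CommRing X] [CommRing Y] [Algebra L T]
    [Algebra L X] [Algebra T X] [IsScalarTower L T X] [Algebra T Y] (ρ : X →ₐ[T] Y) {I : Ideal L} {J : Ideal T}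
    (hle : I.map (algebraMap L T) ≤ J) {e : X} (he : e ∈ I.map (algebraMap L X)) : ρ e ∈ J.map (algebraMap T Y) := by
  rw [IsScalarTower.algebraMap_eq L T X, ← Ideal.map_map] at he
  have h := Ideal.mem_map_of_mem ρ.toRingHom (Ideal.map_mono hle he)
  rw [Ideal.map_map, AlgHom.toRingHom_eq_coe, AlgHom.comp_algebraMap] at h
  exact h

variable {S : Scheme.{u}} {H' H H'' : Over S} [GrpObj H'] [GrpObj H] [GrpObj H'']

/-- an affine extension over an affine base, in Hopf algebra form -/
theorem exists_algebra_data [IsAffineHom H.hom] [Flat H.hom] [LocallyOfFinitePresentation H.hom]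
    (p : H ⟶ H'') [IsMonHom p] [Surjective p.left] [Flat p.left] (i : H' ⟶ H) [IsMonHom i]
    (hker : AlgGrp.IsKernel i p) (hH' : SGA3x.IsMultTypeFT H') (hH'' : SGA3x.IsMultTypeFT H'')
    (hcomm : ∀ {T : Over S} (a b : T ⟶ H), a * b = b * a)
    {R : Type u} [CommRing R] (x : Spec (CommRingCat.of R) ⟶ S) :
    ∃ (C A' A'' : Type u) (_ : CommRing C) (_ : HopfAlgebra R C) (_ : CommRing A') (_ : HopfAlgebra R A')
      (_ : CommRing A'') (_ : HopfAlgebra R A'') (π : A'' →ₐc[R] C) (ψ : C →ₐc[R] A'),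
      Nonempty (Grp.mk (Red.bc x H) ≅ Grp.mk (specGrp R C)) ∧ Coalgebra.IsCocomm R C ∧
      Algebra.FiniteType R C ∧ Algebra.FiniteType R A' ∧ SGA3b.IsMultType R A' ∧
      Algebra.FiniteType R A'' ∧ SGA3b.IsMultType R A'' ∧
      (π : A'' →ₐ[R] C).toRingHom.Flat ∧
      Function.Surjective (PrimeSpectrum.comap (π : A'' →ₐ[R] C).toRingHom) ∧
      ∀ (D : Type u) [CommRing D] [Algebra R D] (y : C →ₐ[R] D),
        toConv (y.comp (π : A'' →ₐ[R] C)) = 1 → ∃ h : A' →ₐ[R] D, h.comp (ψ : C →ₐ[R] A') = y := by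
  have := H21Diag.isAffineHom_of_multTypeFT hH'
  have := H21Diag.isAffineHom_of_multTypeFT hH''
  have hf' := H21Diag.lfp_of_multTypeFT hH'
  have hf'' := H21Diag.lfp_of_multTypeFT hH''
  haveI : IsAffineHom (Red.bc x H).hom := MorphismProperty.pullback_snd (P := @IsAffineHom) _ _ ‹_›
  haveI : IsAffineHom (Red.bc x H').hom := MorphismProperty.pullback_snd (P := @IsAffineHom) _ _ ‹_›
  haveI : IsAffineHom (Red.bc x H'').hom := MorphismProperty.pullback_snd (P := @IsAffineHom) _ _ ‹_›
  obtain ⟨C, _, _, ⟨eC⟩, -, hCfp⟩ := exists_model (R := R) (Red.bc x H)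
  obtain ⟨A', _, _, ⟨e'⟩, -, hfp'⟩ := exists_model (R := R) (Red.bc x H')
  obtain ⟨A'', _, _, ⟨e''⟩, -, hfp''⟩ := exists_model (R := R) (Red.bc x H'')
  haveI := hCfp (MorphismProperty.pullback_snd (P := @LocallyOfFinitePresentation) _ _ ‹_›)
  haveI := hfp' (MorphismProperty.pullback_snd (P := @LocallyOfFinitePresentation) _ _ hf')
  haveI := hfp'' (MorphismProperty.pullback_snd (P := @LocallyOfFinitePresentation) _ _ hf'')
  let pb : Red.bc x H ⟶ Red.bc x H'' := (Over.pullback x).map p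
  let ib : Red.bc x H' ⟶ Red.bc x H := (Over.pullback x).map i
  haveI : IsMonHom pb := inferInstanceAs (IsMonHom ((Over.pullback x).map p))
  haveI : IsMonHom ib := inferInstanceAs (IsMonHom ((Over.pullback x).map i))
  let f : specGrp R C ⟶ specGrp R A'' := eC.inv.hom.hom ≫ pb ≫ e''.hom.hom.hom
  let g : specGrp R A' ⟶ specGrp R C := e'.inv.hom.hom ≫ ib ≫ eC.hom.hom.hom
  haveI : IsMonHom f := inferInstanceAs (IsMonHom (eC.inv.hom.hom ≫ pb ≫ e''.hom.hom.hom))
  haveI : IsMonHom g := inferInstanceAs (IsMonHom (e'.inv.hom.hom ≫ ib ≫ eC.hom.hom.hom))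
  obtain ⟨π, hπ⟩ := exists_bialgHom_of_hom f
  obtain ⟨ψ, hψ⟩ := exists_bialgHom_of_hom g
  have e1 : eC.inv.hom.hom ≫ eC.hom.hom.hom = 𝟙 _ := congrArg (fun z => z.hom.hom) eC.inv_hom_id
  have e2 : eC.hom.hom.hom ≫ eC.inv.hom.hom = 𝟙 _ := congrArg (fun z => z.hom.hom) eC.hom_inv_id
  have e3 : e''.hom.hom.hom ≫ e''.inv.hom.hom = 𝟙 _ := congrArg (fun z => z.hom.hom) e''.hom_inv_id
  haveI : IsIso eC.inv.hom.hom.left :=
    ⟨⟨eC.hom.hom.hom.left, congrArg (fun z => z.left) e1, congrArg (fun z => z.left) e2⟩⟩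
  haveI : IsIso e''.hom.hom.hom.left :=
    ⟨⟨e''.inv.hom.hom.left, congrArg (fun z => z.left) e3,
      congrArg (fun z => z.hom.hom.left) e''.inv_hom_id⟩⟩
  haveI : Flat pb.left := MorphismProperty.overPullbackMap (P := @Flat) x p ‹_›
  haveI : Surjective pb.left := MorphismProperty.overPullbackMap (P := @Surjective) x p ‹_›
  have hfl : Flat f.left := (inferInstance : Flat (eC.inv.hom.hom.left ≫ pb.left ≫ e''.hom.hom.hom.left))
  have hsj : Surjective f.left := (inferInstance : Surjective (eC.inv.hom.hom.left ≫ pb.left ≫ e''.hom.hom.hom.left))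
  rw [hπ] at hfl hsj
  refine ⟨C, A', A'', inferInstance, inferInstance, inferInstance, inferInstance, inferInstance, inferInstance,
    π, ψ, ⟨eC⟩, ?_, inferInstance, inferInstance,
    isMultType_of_specGrp (isMultTypeFT_of_iso (H21Diag.isMultTypeFT_bc hH' x) e'), inferInstance,
    isMultType_of_specGrp (isMultTypeFT_of_iso (H21Diag.isMultTypeFT_bc hH'' x) e''),
    Flat.SpecMap_iff.mp hfl, hsj.surj, fun D _ _ y hy => ?_⟩
  · refine isCocomm_of_comm_points fun D _ _ a b => Spec.mapMulEquiv.injective ?_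
    rw [map_mul, map_mul]
    haveI : IsMonHom eC.inv.hom.hom := inferInstanceAs (IsMonHom eC.inv.hom.hom)
    haveI : Mono eC.inv.hom.hom := ⟨fun u v h => by
      have := congrArg (· ≫ eC.hom.hom.hom) h
      simpa only [Category.assoc, e1, Category.comp_id] using this⟩
    rw [← cancel_mono eC.inv.hom.hom, MonObj.mul_comp, MonObj.mul_comp]
    apply (H21Diag.bcEquiv x H _).symm.injective
    rw [H21Diag.bcEquiv_symm_mul, H21Diag.bcEquiv_symm_mul]
    exact hcomm _ _
  · let X : (Spec (CommRingCat.of D)).asOver (Spec (CommRingCat.of R)) ⟶ Red.bc x H :=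
      Spec.mapMulEquiv (toConv y) ≫ eC.inv.hom.hom
    have hXf : Spec.mapMulEquiv (toConv y) ≫ f = 1 := by
      have h1 : Spec.mapMulEquiv (toConv (y.comp (π : A'' →ₐ[R] C))) = Spec.mapMulEquiv (toConv y) ≫ f :=
        Over.OverMorphism.ext (by
          rw [Over.comp_left, hπ]
          show Spec.map (CommRingCat.ofHom (y.comp (π : A'' →ₐ[R] C)).toRingHom) =
            Spec.map (CommRingCat.ofHom y.toRingHom) ≫ Spec.map (CommRingCat.ofHom (π : A'' →ₐ[R] C).toRingHom)
          rw [← Spec.map_comp, ← CommRingCat.ofHom_comp]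
          rfl)
      rw [← h1, hy, map_one]
    have hXp : X ≫ pb = 1 := by
      have h := congrArg (· ≫ e''.inv.hom.hom) hXf
      simp only [f, Category.assoc, e3, Category.comp_id] at h
      haveI : IsMonHom e''.inv.hom.hom := inferInstanceAs (IsMonHom e''.inv.hom.hom)
      rw [MonObj.one_comp] at h
      show (Spec.mapMulEquiv (toConv y) ≫ eC.inv.hom.hom) ≫ pb = 1
      rw [Category.assoc]
      exact h
    let X₀ := (H21Diag.bcEquiv x H _).symm X
    have hX₀ : X₀ ≫ p = 1 := by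
      apply (H21Diag.bcEquiv x H'' _).injective
      rw [H21Diag.bcEquiv, Adjunction.homEquiv_naturality_right]
      refine ((congrArg (· ≫ pb) ((H21Diag.bcEquiv x H _).apply_symm_apply X)).trans hXp).trans ?_
      exact ((MonoidHom.mk' (H21Diag.bcEquiv x H'' _) (H21Diag.bcEquiv_mul x H'' _)).map_one).symm
    let h₀ := hker.lift X₀ (toUnit _) (by rw [hX₀, Hom.one_def])
    have hh₀ : h₀ ≫ i = X₀ := hker.lift_fst _ _ _
    let h₁ := H21Diag.bcEquiv x H' _ h₀
    have hh₁ : h₁ ≫ ib = X := by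
      refine ((Over.mapPullbackAdj x).homEquiv_naturality_right h₀ i).symm.trans ?_
      exact (congrArg _ hh₀).trans ((H21Diag.bcEquiv x H _).apply_symm_apply X)
    let w := Spec.mapMulEquiv.symm (h₁ ≫ e'.hom.hom.hom)
    refine ⟨w.ofConv, ?_⟩
    apply toConv_injective
    apply Spec.mapMulEquiv.injective
    have h1 : Spec.mapMulEquiv (toConv (w.ofConv.comp (ψ : C →ₐ[R] A'))) = Spec.mapMulEquiv w ≫ g :=
      Over.OverMorphism.ext (by
        rw [Over.comp_left, hψ]
        show Spec.map (CommRingCat.ofHom (w.ofConv.comp (ψ : C →ₐ[R] A')).toRingHom) =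
          Spec.map (CommRingCat.ofHom w.ofConv.toRingHom) ≫ Spec.map (CommRingCat.ofHom (ψ : C →ₐ[R] A').toRingHom)
        rw [← Spec.map_comp, ← CommRingCat.ofHom_comp]
        rfl)
    rw [h1]
    show Spec.mapMulEquiv (Spec.mapMulEquiv.symm (h₁ ≫ e'.hom.hom.hom)) ≫ g = _
    rw [MulEquiv.apply_symm_apply]
    show (h₁ ≫ e'.hom.hom.hom) ≫ e'.inv.hom.hom ≫ ib ≫ eC.hom.hom.hom = _
    rw [Category.assoc, ← Category.assoc e'.hom.hom.hom,
      show e'.hom.hom.hom ≫ e'.inv.hom.hom = 𝟙 _ from congrArg (fun z => z.hom.hom) e'.hom_inv_id,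
      Category.id_comp, ← Category.assoc, hh₁]
    show (Spec.mapMulEquiv (toConv y) ≫ eC.inv.hom.hom) ≫ eC.hom.hom.hom = _
    rw [Category.assoc, e1, Category.comp_id]

/-- commutative affine extensions of groups of multiplicative type -/
theorem isMultTypeFT_of_comm_extension [IsAffineHom H.hom] [Flat H.hom] [LocallyOfFinitePresentation H.hom]
    (p : H ⟶ H'') [IsMonHom p] [Surjective p.left] [Flat p.left] (i : H' ⟶ H) [IsMonHom i]
    (hker : AlgGrp.IsKernel i p) (hH' : SGA3x.IsMultTypeFT H') (hH'' : SGA3x.IsMultTypeFT H'')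
    (hcomm : ∀ {T : Over S} (a b : T ⟶ H), a * b = b * a) : SGA3x.IsMultTypeFT H := by
  refine isMultTypeFT_of_models H fun R _ j _ C _ _ _ hfp eC => ?_
  haveI := hfp
  refine H19Mult.isMultType_of_atPrime hfp fun ⟨P, hP⟩ => ?_
  haveI := hP
  let L := Localization.AtPrime P
  have hfib : SGA3b.IsMultType P.ResidueField (P.ResidueField ⊗[R] C) := by
    set x := Spec.map (CommRingCat.ofHom (algebraMap R P.ResidueField)) ≫ j with hx
    obtain ⟨Ck, A', A'', _, _, _, _, _, _, π, ψ, ⟨eCk⟩, hcc, -, -, h', -, h'', hfl, hsj, hkp⟩ :=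
      exists_algebra_data (R := P.ResidueField) p i hker hH' hH'' hcomm x
    haveI := hcc
    have hCk : SGA3b.IsMultType P.ResidueField Ck :=
      isMultType_of_no_primitive fun f hf => no_primitive_of_extension h' h'' π ψ hfl hsj hkp f hf
    obtain ⟨eK⟩ := nonempty_bc_model j eC P.ResidueField hx
    obtain ⟨E⟩ := nonempty_bialgEquiv_of_iso (eCk.symm ≪≫ eK)
    exact H19Mult.LocalDescent.isMultType_congr E hCk
  obtain ⟨hfl₁, hs₁⟩ := H19Mult.LocalCriterion.local_hyps P hfib
  obtain ⟨T, _, _, hT, hff, e, M, _, φ, he, hem, hsurj, hkerφ⟩ :=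
    H19Mult.LocalCriterion.exists_local_idem_chart L (L ⊗[R] C) (fun q _ _ => hfl₁ q) hs₁
  haveI := hT
  haveI := hff
  refine H19Mult.LocalCriterion.isMultType_of_idem_zero φ hsurj hkerφ ?_
  letI : Algebra R T := ((algebraMap L T).comp (algebraMap R L)).toAlgebra
  haveI : IsScalarTower R L T := IsScalarTower.of_algebraMap_eq' rfl
  set x := Spec.map (CommRingCat.ofHom (algebraMap R T)) ≫ j with hx
  obtain ⟨CT, A', A'', _, _, _, _, _, _, π, ψ, ⟨eCT⟩, -, hft, hft', h', hft'', h'', hfl, hsj, hkp⟩ :=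
    exists_algebra_data (R := T) p i hker hH' hH'' hcomm x
  haveI := hft
  obtain ⟨eT⟩ := nonempty_bc_model j eC T hx
  obtain ⟨E₀⟩ := nonempty_bialgEquiv_of_iso (eT.symm ≪≫ eCT)
  let Ψ : CT ≃ₐc[T] T ⊗[L] (L ⊗[R] C) := E₀.trans (H19Mult.cancelEquiv (R := R) (A := C) L T).symm
  obtain ⟨φ', hφ', hk'⟩ := H19Mult.LocalCriterion.transport_surj_ker Ψ
    (BialgEquiv.refl (R := T) (A := MonoidAlgebra T M)) φ hsurj hkerφ
  let ρ : (T ⊗[L] (L ⊗[R] C)) →ₐ[T] CT := (Ψ.symm : _ ≃ₐc[T] CT)
  have hle : (IsLocalRing.maximalIdeal L).map (algebraMap L T) ≤ IsLocalRing.maximalIdeal T :=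
    Ideal.map_le_iff_le_comap.2 fun a ha => (IsLocalRing.mem_maximalIdeal _).2 fun hu => by
      obtain ⟨Q, hQ⟩ := PrimeSpectrum.comap_surjective_of_faithfullyFlat (A := L) (B := T)
        ⟨IsLocalRing.maximalIdeal L, inferInstance⟩
      exact Q.isPrime.ne_top (Ideal.eq_top_of_isUnit_mem _
        ((Ideal.ext_iff.1 (congrArg PrimeSpectrum.asIdeal hQ) a).2 ha) hu)
  have h0 : Ψ.symm e = 0 := by
    refine idem_eq_zero_of_extension hft' h' hft'' h'' π ψ hfl hsj hkp φ' hφ' _ (he.map Ψ.symm) ?_ hk'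
    exact algHom_mem_map ρ hle hem
  exact (map_eq_zero_iff Ψ.symm (EquivLike.injective Ψ.symm)).1 h0

end Groth.Agent.H21Hom
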