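import Groth.Agent.H13Desc.Eff.Lqf
import Groth.Agent.H7Flat.IndQuasiAffine

/-!
Descent of separated ind-quasi-affine schemes along fppf coverings.
-/

set_option backward.isDefEq.respectTransparency false
set_option backward.isDefEq.respectTransparency.types false
set_option linter.style.haveILetI false

universe u

open CategoryTheory CategoryTheory.Limits AlgebraicGeometry
open Desc TopologicalSpace Groth.Agent.H13Desc Groth.Agent.H13Desc.Eff Groth.Agent.H7Flat

namespace Groth.Agent.H21Hom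

theorem isEffective_indQA_affine {X S : Scheme.{u}} [IsAffine X] [IsAffine S] (p : X ⟶ S) [Flat p]
    [Surjective p] [LocallyOfFinitePresentation p] (D : SchDD p) [IsSeparated D.obj.hom]
    (hD : MoreMor.IsIndQuasiAffineHom D.obj.hom) :
    ∃ Z : Over S, Nonempty ((toDD p).obj Z ≅ D) := by
  refine isEffective_of_charts fun v => ?_
  obtain ⟨_, ⟨U : D.obj.left.Opens, hU, rfl⟩, hvU, -⟩ :=
    D.obj.left.isBasis_affineOpens.exists_subset_of_mem_open (Set.mem_univ v) isOpen_univ
  have hO := saturated_sat (D := D) U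
  have hc : CompactSpace (sat D U).toScheme :=
    isCompact_iff_compactSpace.mp (isCompact_sat hU.isCompact)
  have hqa : ∀ {W : Scheme.{u}} (π : W ⟶ X), IsAffine W →
      (pullback (restrict hO).obj.hom π).IsQuasiAffine := by
    intro W π hW
    let f : (sat D U).toScheme ⟶ X := (sat D U).ι ≫ D.obj.hom
    have : QuasiCompact f := (quasiCompact_iff_compactSpace f).2 hc
    have : CompactSpace ↥(pullback f π) := (quasiCompact_iff_compactSpace (pullback.snd f π)).1 inferInstance
    have h1 := indQA_baseChange (IsPullback.of_hasPullback f π)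
      (indQA_comp (sat D U).ι D.obj.hom (indQA_of_isImmersion _) hD)
    have := (indQA_iff _).1 h1 ⊤ (isAffineOpen_top W) ⊤ CompactSpace.isCompact_univ le_top
    exact H11QAff.isQuasiAffine_of_iso (pullback f π).topIso.symm
  suffices h : ∃ Z : Over S, Nonempty ((toDD p).obj Z ≅ restrict hO) by
    obtain ⟨Z, ⟨e⟩⟩ := h
    obtain ⟨C, hC⟩ := exists_chart_of_restrict hO Z e
    exact ⟨C, hC.ge (le_sat U hvU)⟩
  refine isEffective_of_charts fun a => ?_
  obtain ⟨C, hC⟩ := exists_chart_of_affine_over (restrict hO) (isAffineOpen_top S) hqa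
  exact ⟨C, hC trivial⟩

/-- being ind-quasi-affine is local on the target -/
instance : IsZariskiLocalAtTarget (fun ⦃X Y : Scheme.{u}⦄ (f : X ⟶ Y) => MoreMor.IsIndQuasiAffineHom f) := by
  let P : MorphismProperty Scheme.{u} := fun ⦃X Y : Scheme.{u}⦄ (f : X ⟶ Y) => MoreMor.IsIndQuasiAffineHom f
  have : P.IsStableUnderBaseChange := ⟨fun hc h => indQA_baseChange hc h⟩
  refine IsZariskiLocalAtTarget.mk' (fun {X Y} f U h => indQA_baseChange (isPullback_morphismRestrict f U).flip h) ?_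
  intro X Y f ι U hU h
  rw [indQA_iff]
  intro V hV W hW hle
  obtain ⟨k, hk⟩ := exists_lift f hle
  have : IsAffine V.toScheme := hV
  have : CompactSpace W.toScheme := isCompact_iff_compactSpace.1 hW
  have : QuasiCompact k := (quasiCompact_iff_compactSpace k).2 inferInstance
  suffices hkqa : Mor2.IsQuasiAffine k from
    @H11QAff.isQuasiAffine_of_iso _ _ W.toScheme.topIso.symm (hkqa.2 ⊤ (isAffineOpen_top _))
  refine H11QAff.isQuasiAffine_of_cover k fun v => ?_
  obtain ⟨i, hi⟩ := TopologicalSpace.Opens.mem_iSup.1 (hU.ge (Set.mem_univ (V.ι v)))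
  obtain ⟨_, ⟨(D : V.toScheme.Opens), (hD : IsAffineOpen D), rfl⟩, hvD, hDsub⟩ :=
    V.toScheme.isBasis_affineOpens.exists_subset_of_mem_open (show v ∈ V.ι ⁻¹ᵁ U i from hi) (V.ι ⁻¹ᵁ U i).2
  refine ⟨D, hD, hvD, ?_⟩
  let D' : Y.Opens := V.ι ''ᵁ D
  have hD' : IsAffineOpen D' := hD.image_of_isOpenImmersion V.ι
  let W' : X.Opens := W.ι ''ᵁ (k ⁻¹ᵁ D)
  have hW' : IsCompact (W' : Set X) := (k.isCompact_preimage hD.isCompact).image W.ι.continuous
  have hWD : W' ≤ f ⁻¹ᵁ D' := by
    rintro _ ⟨z, hz, rfl⟩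
    exact ⟨k z, hz, congr($hk z)⟩
  have hDU : D' ≤ U i := by
    rintro _ ⟨z, hz, rfl⟩
    exact hDsub hz
  let g := f ∣_ U i
  let j := (f ⁻¹ᵁ U i).ι
  have hji : ∀ A : (f ⁻¹ᵁ U i).toScheme.Opens, IsCompact (j ''ᵁ A : Set X) → IsCompact (A : Set (f ⁻¹ᵁ U i).toScheme) :=
    fun A hA => j.isOpenEmbedding.isInducing.isCompact_iff.2 hA
  have e1 : j ''ᵁ (j ⁻¹ᵁ W') = W' := by
    rw [Scheme.Hom.image_preimage_eq_opensRange_inf, Scheme.Opens.opensRange_ι]
    exact inf_eq_right.2 (hWD.trans (f.preimage_mono hDU))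
  have := (indQA_iff g).1 (h i) ((U i).ι ⁻¹ᵁ D')
    (hD'.preimage_of_isOpenImmersion (U i).ι (by rw [Scheme.Opens.opensRange_ι]; exact hDU))
    (j ⁻¹ᵁ W') (hji _ (by rw [e1]; exact hW')) (by
      intro z hz
      change ((f ∣_ U i) ≫ (U i).ι) z ∈ D'
      rw [morphismRestrict_ι]
      exact hWD hz)
  have := H11QAff.isQuasiAffine_of_iso (X.isoOfEq e1.symm ≪≫ (j.isoImage (j ⁻¹ᵁ W')).symm)
  exact H11QAff.isQuasiAffine_of_iso (W.ι.isoImage (k ⁻¹ᵁ D))

/-- separated ind-quasi-affine schemes descend along fppf coverings -/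
theorem isEffective_indQA {X S : Scheme.{u}} (p : X ⟶ S) [Flat p]
    [Surjective p] [LocallyOfFinitePresentation p] (D : SchDD p) [IsSeparated D.obj.hom]
    (hD : MoreMor.IsIndQuasiAffineHom D.obj.hom) :
    ∃ Z : Over S, Nonempty ((toDD p).obj Z ≅ D) := by
  refine isEffective_of_charts fun a => ?_
  obtain ⟨_, ⟨W : S.Opens, hW, rfl⟩, haW, -⟩ := S.isBasis_affineOpens.exists_subset_of_mem_open
    (Set.mem_univ ((D.obj.hom ≫ p) a)) isOpen_univ
  obtain ⟨n, k, V, g, hV, hg, _, _, _⟩ := fpqc_exists_affine_refinement (IsCover.ofArrows p) W hW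
  have : ∀ l, IsAffine (V l).toScheme := hV
  have : IsAffine W.toScheme := hW
  have : ∀ l, LocallyOfFinitePresentation (g l) := fun l =>
    MorphismProperty.of_isPullback
      (show IsPullback (𝟙 _) (g l) ((V l).ι ≫ p) W.ι from
          ⟨⟨by rw [Category.id_comp, hg]⟩, ⟨PullbackCone.IsLimit.mk _ (fun s => s.fst)
            (fun s => Category.comp_id _)
            (fun s => (cancel_mono W.ι).mp (by rw [Category.assoc, hg]; exact s.condition))
            (fun s m h₁ _ => (Category.comp_id m).symm.trans h₁)⟩⟩)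
      (inferInstanceAs (LocallyOfFinitePresentation ((V l).ι ≫ p)))
  let π : (∐ fun l => (V l).toScheme) ⟶ X := Sigma.desc fun l => (V l).ι
  have hc : π ≫ p = Sigma.desc g ≫ W.ι := Sigma.hom_ext _ _ fun l => by simp [π, hg]
  have : LocallyOfFinitePresentation (Sigma.desc g) :=
    IsZariskiLocalAtSource.sigmaDesc fun l => inferInstance
  have h1 : IsSeparated (pullW D π (Sigma.desc g) hc).obj.hom :=
    inferInstanceAs (IsSeparated (pullback.snd D.obj.hom π))
  have h2 : MoreMor.IsIndQuasiAffineHom (pullW D π (Sigma.desc g) hc).obj.hom :=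
    indQA_baseChange (IsPullback.of_hasPullback D.obj.hom π) hD
  obtain ⟨Z, ⟨e⟩⟩ := isEffective_indQA_affine (Sigma.desc g) (pullW D π (Sigma.desc g) hc) h2
  obtain ⟨C, hC⟩ := exists_chart_of_refinement D π (Sigma.desc g) hc Z e
  exact ⟨C, hC haW⟩

end Groth.Agent.H21Hom
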