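import Groth.Agent.H21Hom.Smooth
import Groth.Agent.H21Hom.Effective
import Groth.Agent.H21Desc.HomLocal
import Groth.Agent.H18Descent.Basic
import Mathlib.AlgebraicGeometry.Morphisms.LocalFlatDescent

/-!
Homomorphisms from a group of multiplicative type into a smooth affine group form a smooth separated scheme.
-/

set_option autoImplicit false
set_option maxHeartbeats 1000000
set_option linter.style.haveILetI false
set_option backward.isDefEq.respectTransparency false
set_option backward.isDefEq.respectTransparency.types false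

universe u

open CategoryTheory MonoidalCategory CartesianMonoidalCategory MonObj GrpObj AlgebraicGeometry
open CategoryTheory.Limits Groth.Agent.H21Diag Groth.Agent.H21Desc

namespace Groth.Agent.H21Hom

variable {S : Scheme.{u}}

/-- the scheme of homomorphisms out of a group which is étale locally diagonalisable -/
theorem exists_representsHom_of_etale_diag (H G : Over S) [GrpObj H] [GrpObj G]
    (hH : ∀ s : S, ∃ (V : Scheme.{u}) (g : V ⟶ S), Etale g ∧ s ∈ Set.range g.base ∧
      ∃ (M : Type) (_ : AddCommGroup M), Nonempty (Grp.mk (Red.bc g H) ≅ Grp.mk (Red.DS V M)))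
    (hG : Smooth G.hom) (hGa : IsAffineHom G.hom) :
    ∃ (A : Over S) (υ : H ⊗ A ⟶ G), AutFam.RepresentsHom H G A υ ∧ Smooth A.hom ∧ IsSeparated A.hom := by
  have loc : ∀ s : S, ∃ (V : Scheme.{u}) (g : V ⟶ S) (A : Over V) (υ : Red.bc g H ⊗ A ⟶ Red.bc g G),
      Etale g ∧ s ∈ Set.range g ∧ AutFam.RepresentsHom (Red.bc g H) (Red.bc g G) A υ ∧
        Smooth A.hom ∧ IsSeparated A.hom ∧ MoreMor.IsIndQuasiAffineHom A.hom := by
    intro s
    obtain ⟨V, g, hg, ⟨v, hv⟩, M, _, ⟨e⟩⟩ := hH s
    obtain ⟨_, ⟨U : V.Opens, hU, rfl⟩, hvU, -⟩ :=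
      V.isBasis_affineOpens.exists_subset_of_mem_open (Set.mem_univ v) isOpen_univ
    let k : Spec Γ(V, U) ⟶ V := hU.fromSpec
    have hk : Etale (k ≫ g) := inferInstance
    have : IsAffine (Red.bc (k ≫ g) G).left := by
      have : IsAffineHom (Red.bc (k ≫ g) G).hom := MorphismProperty.pullback_snd (P := @IsAffineHom) _ _ hGa
      exact isAffine_of_isAffineHom (Red.bc (k ≫ g) G).hom
    obtain ⟨X, υ, hυ, h1, h2, h3⟩ := exists_representsHom_DS_smooth (M := M) (R := Γ(V, U)) (Red.bc (k ≫ g) G)
      (MorphismProperty.pullback_snd (P := @Smooth) _ _ hG)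
    refine ⟨_, k ≫ g, X, _, hk, ?_, representsHom_of_iso (chartComp k g e) (Iso.refl _) hυ, h1, h2, h3⟩
    obtain ⟨w, hw⟩ : v ∈ Set.range k := by rw [hU.range_fromSpec]; exact hvU
    exact ⟨w, by rw [Scheme.Hom.comp_apply, hw]; exact hv⟩
  choose V g A υ hg hs hυ h1 h2 h3 using loc
  have : ∀ s, Flat (g s) := fun s => by have := hg s; infer_instance
  have : ∀ s, LocallyOfFinitePresentation (g s) := fun s => by have := hg s; infer_instance
  obtain ⟨A₀, υ₀, hA₀, -, hP⟩ := exists_representsHom_of_cover (g := g) (A := A) (fun s => ⟨s, hs s⟩) hυ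
    (fun D hD => by
      have : Flat (Sigma.desc g) := IsZariskiLocalAtSource.sigmaDesc (P := @Flat) inferInstance
      have : LocallyOfFinitePresentation (Sigma.desc g) :=
        IsZariskiLocalAtSource.sigmaDesc (P := @LocallyOfFinitePresentation) inferInstance
      have : Surjective (Sigma.desc g) := ⟨fun s => by
        obtain ⟨y, hy⟩ := hs s
        exact ⟨Sigma.ι V s y, by rw [← Scheme.Hom.comp_apply, Sigma.ι_desc]; exact hy⟩⟩
      have : IsSeparated D.obj.hom := hD @IsSeparated h2
      exact isEffective_indQA (Sigma.desc g) D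
        (hD (fun ⦃X Y : Scheme.{u}⦄ (f : X ⟶ Y) => MoreMor.IsIndQuasiAffineHom f) h3))
  have : MorphismProperty.DescendsAlong @IsSeparated (@Surjective ⊓ @Flat ⊓ @QuasiCompact : MorphismProperty Scheme.{u}) :=
    H18Descent.isSeparated_descends_fpqc
  exact ⟨A₀, υ₀, hA₀, hP @Smooth h1, hP @IsSeparated h2⟩

end Groth.Agent.H21Hom
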