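import Groth.Agent.H21Hom.SpecGrp
import Groth.Agent.H21Diag.BaseChange
import Groth.Agent.H21Diag.FiniteType
import Groth.Agent.H19Mult.QuasiIso
import Groth.Agent.H19Mult.Charts

/-!
Groups of multiplicative type and finite type are diagonalisable locally for the étale topology.
-/

set_option autoImplicit false
set_option maxHeartbeats 1000000
set_option linter.style.haveILetI false
set_option backward.isDefEq.respectTransparency false

universe u

open CategoryTheory MonoidalCategory CartesianMonoidalCategory MonObj GrpObj AlgebraicGeometry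
open TensorProduct

namespace Groth.Agent.H21Hom

/-- over an affine base -/
theorem exists_etale_chart_affine {R : Type u} [CommRing R] (H : Over (Spec (CommRingCat.of R))) [GrpObj H]
    (hH : SGA3x.IsMultTypeFT H) (p : PrimeSpectrum R) :
    ∃ (T : Type u) (_ : CommRing T) (ψ : R →+* T), Etale (Spec.map (CommRingCat.ofHom ψ)) ∧
      p ∈ Set.range (Spec.map (CommRingCat.ofHom ψ)) ∧ ∃ (M : Type) (_ : AddCommGroup M), AddGroup.FG M ∧
        Nonempty (Grp.mk (Red.bc (Spec.map (CommRingCat.ofHom ψ)) H) ≅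
          Grp.mk (Red.DS (Spec (CommRingCat.of T)) M)) := by
  classical
  have := H21Diag.isAffineHom_of_multTypeFT hH
  have hlft := H21Diag.lft_of_multTypeFT hH
  have : IsAffine H.left := isAffine_of_isAffineHom H.hom
  obtain ⟨A, _, _, ⟨e₀⟩⟩ := exists_hopf_model H
  have hA : Algebra.FiniteType R A := by
    have : IsIso e₀.inv.hom.hom.left := by
      refine ⟨⟨e₀.hom.hom.hom.left, ?_, ?_⟩⟩
      · exact congrArg (fun z => z.hom.hom.left) e₀.inv_hom_id
      · exact congrArg (fun z => z.hom.hom.left) e₀.hom_inv_id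
    have h : LocallyOfFiniteType (e₀.inv.hom.hom.left ≫ H.hom) := inferInstance
    rw [Over.w e₀.inv.hom.hom] at h
    change LocallyOfFiniteType (Spec.map (CommRingCat.ofHom (algebraMap R A))) at h
    rw [HasRingHomProperty.Spec_iff (P := @LocallyOfFiniteType)] at h
    exact RingHom.finiteType_algebraMap.mp h
  have hmt : SGA3b.IsMultType R A := by
    obtain ⟨S', f, hf, hs, hqc, hloc⟩ := hH
    obtain ⟨W, hWc, hW⟩ := hqc ⊤ (isAffineOpen_top _)
    choose U hU M iM hM e using hloc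
    have haff : ∀ w : W, ∃ O : S'.Opens, IsAffineOpen O ∧ w.1 ∈ O ∧ O ≤ U w.1 := fun w => by
      obtain ⟨O, hO, hwO, hsub⟩ := exists_isAffineOpen_mem_and_subset (U := U w.1) (x := w.1) (hU w.1)
      exact ⟨O, hO, hwO, hsub⟩
    choose O hO hwO hOU using haff
    obtain ⟨t, ht⟩ := hWc.elim_finite_subcover (fun w : W => (O w : Set S')) (fun w => (O w).2)
      fun x hx => Set.mem_iUnion.2 ⟨⟨x, hx⟩, hwO _⟩
    let idx : Fin t.card → W := fun i => (t.equivFin.symm i).1
    let P : Fin t.card → Type u := fun i => Γ(S', O (idx i))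
    let φ : ∀ i, R →+* P i := fun i => (Spec.preimage ((hO (idx i)).fromSpec ≫ f)).hom
    have hφ : ∀ i, Spec.map (CommRingCat.ofHom (φ i)) = (hO (idx i)).fromSpec ≫ f := fun i => by
      rw [CommRingCat.ofHom_hom, Spec.map_preimage]
    letI : ∀ i, Algebra R (P i) := fun i => (φ i).toAlgebra
    haveI : ∀ i, Module.Flat R (P i) := fun i => by
      have : Flat (Spec.map (CommRingCat.ofHom (φ i))) := by rw [hφ i]; infer_instance
      exact (Flat.SpecMap_iff.mp this : (φ i).Flat)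
    refine H19Mult.isMultType_of_charts P (fun q => ?_) fun i => ?_
    · obtain ⟨x, hxW, hxq⟩ : q ∈ f.base '' (W : Set S') := by rw [hW]; trivial
      obtain ⟨w, hwt, hxw⟩ := Set.mem_iUnion₂.1 (ht hxW)
      have hi : idx (t.equivFin ⟨w, hwt⟩) = w := congrArg Subtype.val (t.equivFin.symm_apply_apply ⟨w, hwt⟩)
      obtain ⟨z, hz⟩ : x ∈ Set.range (hO (idx (t.equivFin ⟨w, hwt⟩))).fromSpec := by
        rw [IsAffineOpen.range_fromSpec, hi]; exact hxw
      refine ⟨t.equivFin ⟨w, hwt⟩, z, ?_⟩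
      change Spec.map (CommRingCat.ofHom (φ _)) z = q
      rw [hφ, Scheme.Hom.comp_apply]
      exact (congrArg f hz).trans hxq
    · let O' := O (idx i)
      have hr : Set.range (hO (idx i)).fromSpec ⊆ Set.range (U (idx i).1).ι := by
        rw [IsAffineOpen.range_fromSpec, Scheme.Opens.range_ι]; exact hOU (idx i)
      let k := IsOpenImmersion.lift (U (idx i).1).ι (hO (idx i)).fromSpec hr
      have hk : k ≫ (U (idx i).1).ι ≫ f = Spec.map (CommRingCat.ofHom (algebraMap R (P i))) := by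
        rw [← Category.assoc, IsOpenImmersion.lift_fac]; exact (hφ i).symm
      obtain ⟨b⟩ := nonempty_bc_specGrp (R := R) A (P i)
      exact isDiag_of_chart (b.symm ≪≫ H21Diag.bcMapIso _ e₀.symm ≪≫ H21Diag.bcCongrIso hk.symm H ≪≫
        H21Diag.bcCompIso k _ H ≪≫ H21Diag.bcMapIso k (e (idx i).1).some ≪≫ H21Diag.bcDSIso k (M (idx i).1))
  obtain ⟨T, _, _, het, ⟨q, hq⟩, hd⟩ := H19Mult.exists_etale_chart hA hmt p
  haveI := het
  haveI : Nontrivial T := nontrivial_iff.mpr ⟨1, 0, fun h => q.isPrime.ne_top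
    ((Ideal.eq_top_iff_one _).2 (by rw [h]; exact zero_mem _))⟩
  obtain ⟨M, _, hMfg, ⟨c⟩⟩ := exists_chart_of_isDiag (R := T) (A := T ⊗[R] A) hd
  obtain ⟨b⟩ := nonempty_bc_specGrp (R := R) A T
  refine ⟨T, inferInstance, algebraMap R T, ?_, ⟨q, hq⟩, M, inferInstance, hMfg,
    ⟨H21Diag.bcMapIso _ e₀ ≪≫ b ≪≫ c⟩⟩
  rw [HasRingHomProperty.Spec_iff (P := @Etale)]
  exact RingHom.etale_algebraMap.mpr het

/-- a group of multiplicative type and finite type is quasi-isotrivial -/
theorem exists_etale_chart_multTypeFT {S : Scheme.{u}} (H : Over S) [GrpObj H] (hH : SGA3x.IsMultTypeFT H) (s : S) :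
    ∃ (V : Scheme.{u}) (g : V ⟶ S), Etale g ∧ s ∈ Set.range g.base ∧
      ∃ (M : Type) (_ : AddCommGroup M), AddGroup.FG M ∧ Nonempty (Grp.mk (Red.bc g H) ≅ Grp.mk (Red.DS V M)) := by
  obtain ⟨O, hO, hsO, -⟩ := exists_isAffineOpen_mem_and_subset (U := (⊤ : S.Opens)) (x := s) trivial
  obtain ⟨x, hx⟩ : s ∈ Set.range hO.fromSpec := by rw [IsAffineOpen.range_fromSpec]; exact hsO
  obtain ⟨T, _, ψ, hψ, ⟨z, hz⟩, M, _, hM, ⟨c⟩⟩ :=
    exists_etale_chart_affine (R := Γ(S, O)) (Red.bc hO.fromSpec H) (H21Diag.isMultTypeFT_bc hH hO.fromSpec) x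
  refine ⟨_, Spec.map (CommRingCat.ofHom ψ) ≫ hO.fromSpec, inferInstance, ⟨z, ?_⟩, M, inferInstance, hM,
    ⟨H21Diag.bcCompIso _ _ H ≪≫ c⟩⟩
  rw [Scheme.Hom.comp_apply, hz]
  exact hx

end Groth.Agent.H21Hom
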