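import Groth.Agent.H21Hom.MultTypeEtale
import Groth.Agent.H21Diag.Cover
import Groth.Agent.H19Mult.GlobalCriterion

/-!
Dictionary between groups of multiplicative type (scheme form) and Hopf algebras of multiplicative type.
-/

set_option autoImplicit false
set_option maxHeartbeats 1000000
set_option linter.style.haveILetI false
set_option backward.isDefEq.respectTransparency false

universe u

open CategoryTheory MonoidalCategory CartesianMonoidalCategory MonObj GrpObj AlgebraicGeometry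
open TensorProduct

namespace Groth.Agent.H21Hom

variable {S : Scheme.{u}}

/-- etale charts give multiplicative type -/
theorem isMultTypeFT_of_etale_charts (H : Over S) [GrpObj H]
    (h : ∀ s : S, ∃ (V : Scheme.{u}) (g : V ⟶ S), Etale g ∧ s ∈ Set.range g.base ∧
      ∃ (M : Type) (_ : AddCommGroup M), AddGroup.FG M ∧ Nonempty (Grp.mk (Red.bc g H) ≅ Grp.mk (Red.DS V M))) :
    SGA3x.IsMultTypeFT H := by
  classical
  choose V g hg hs M iM hM e using h
  let f : (∐ V) ⟶ S := Limits.Sigma.desc g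
  have hι : ∀ i, Limits.Sigma.ι V i ≫ f = g i := fun i => Limits.Sigma.ι_desc g i
  have hfl : ∀ i, Flat (g i) := fun i => by haveI := hg i; infer_instance
  have hFlat : Flat f := IsZariskiLocalAtSource.sigmaDesc (P := @Flat) hfl
  have : LocallyOfFinitePresentation f :=
    have : IsZariskiLocalAtSource (@LocallyOfFinitePresentation : MorphismProperty Scheme.{u}) :=
      HasRingHomProperty.instIsZariskiLocalAtSource
    IsZariskiLocalAtSource.sigmaDesc (P := @LocallyOfFinitePresentation) fun i => by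
      haveI := hg i; infer_instance
  have hopen : IsOpenMap f.base := f.isOpenMap
  have hsurj : Function.Surjective f.base := fun s => by
    obtain ⟨x, hx⟩ := hs s
    exact ⟨(Limits.Sigma.ι V s).base x, by rw [← Scheme.Hom.comp_apply, hι]; exact hx⟩
  refine ⟨∐ V, f, hFlat, ⟨hsurj⟩, fun W hW => ?_, fun x => ?_⟩
  · choose A hA hxA hAW using fun x : (f ⁻¹ᵁ W : Set ↥(∐ V)) =>
      exists_isAffineOpen_mem_and_subset (U := f ⁻¹ᵁ W) (x := (x : ↥(∐ V))) x.2
    obtain ⟨t, ht⟩ := hW.isCompact.elim_finite_subcover (fun x => f.base '' (A x : Set ↥(∐ V)))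
      (fun x => hopen _ (A x).isOpen) fun w hw => by
        obtain ⟨x, rfl⟩ := hsurj w
        exact Set.mem_iUnion.mpr ⟨⟨x, hw⟩, x, hxA ⟨x, hw⟩, rfl⟩
    refine ⟨⨆ x ∈ t, A x, ?_, ?_⟩
    · simp only [TopologicalSpace.Opens.coe_iSup]
      exact t.isCompact_biUnion fun x _ => (hA x).isCompact
    · simp only [TopologicalSpace.Opens.coe_iSup, Set.image_iUnion]
      exact subset_antisymm (Set.iUnion₂_subset fun x _ => (Set.image_mono (hAW x)).trans
        (Set.image_preimage_subset _ _)) ht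
  · obtain ⟨i, y, rfl⟩ : ∃ i y, (Limits.Sigma.ι V i).base y = x := by
      obtain ⟨i, y, hy⟩ := (sigmaOpenCover V).exists_eq x
      exact ⟨i, y, hy⟩
    refine ⟨(Limits.Sigma.ι V i).opensRange, ⟨y, rfl⟩, M i, inferInstance, hM i, ⟨?_⟩⟩
    refine H21Diag.restrictChart (e i).some (Limits.Sigma.ι V i).isoOpensRange.inv ?_
    rw [← hι i, ← Category.assoc, Scheme.Hom.isoOpensRange_inv_comp]

/-- multiplicative type is invariant under isomorphism -/
theorem isMultTypeFT_of_iso {H H' : Over S} [GrpObj H] [GrpObj H'] (h : SGA3x.IsMultTypeFT H)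
    (e : Grp.mk H ≅ Grp.mk H') : SGA3x.IsMultTypeFT H' := by
  obtain ⟨S', f, hf, hs, hqc, hloc⟩ := h
  refine ⟨S', f, hf, hs, hqc, fun s' => ?_⟩
  obtain ⟨U, hU, M, _, hM, ⟨c⟩⟩ := hloc s'
  exact ⟨U, hU, M, inferInstance, hM, ⟨H21Diag.bcMapIso _ e.symm ≪≫ c⟩⟩

/-- multiplicative type is local on the base for the Zariski topology -/
theorem isMultTypeFT_of_opens (H : Over S) [GrpObj H]
    (h : ∀ s : S, ∃ (U : Scheme.{u}) (j : U ⟶ S), IsOpenImmersion j ∧ s ∈ Set.range j.base ∧
      SGA3x.IsMultTypeFT (Red.bc j H)) : SGA3x.IsMultTypeFT H := by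
  refine isMultTypeFT_of_etale_charts H fun s => ?_
  obtain ⟨U, j, hj, ⟨x, hx⟩, hU⟩ := h s
  obtain ⟨V, g, hg, ⟨y, hy⟩, M, _, hM, ⟨c⟩⟩ := exists_etale_chart_multTypeFT _ hU x
  exact ⟨V, g ≫ j, inferInstance, ⟨y, by rw [Scheme.Hom.comp_apply, hy, hx]⟩, M, inferInstance, hM,
    ⟨H21Diag.bcCompIso g j H ≪≫ c⟩⟩

variable {R : Type u} [CommRing R] {A : Type u} [CommRing A] [HopfAlgebra R A]

/-- the group of a Hopf algebra of multiplicative type and finite type -/
theorem isMultTypeFT_specGrp (hA : Algebra.FiniteType R A) (h : SGA3b.IsMultType R A) :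
    SGA3x.IsMultTypeFT (specGrp R A) := by
  refine isMultTypeFT_of_etale_charts _ fun p => ?_
  obtain ⟨T, _, _, het, ⟨q, hq⟩, hd⟩ := H19Mult.exists_etale_chart hA h p
  haveI := het
  haveI : Nontrivial T := nontrivial_iff.mpr ⟨1, 0, fun h => q.isPrime.ne_top
    ((Ideal.eq_top_iff_one _).2 (by rw [h]; exact zero_mem _))⟩
  obtain ⟨M, _, hMfg, ⟨c⟩⟩ := exists_chart_of_isDiag (R := T) (A := T ⊗[R] A) hd
  obtain ⟨b⟩ := nonempty_bc_specGrp (R := R) A T
  refine ⟨_, Spec.map (CommRingCat.ofHom (algebraMap R T)), ?_, ⟨q, hq⟩, M, inferInstance, hMfg, ⟨b ≪≫ c⟩⟩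
  rw [HasRingHomProperty.Spec_iff (P := @Etale)]
  exact RingHom.etale_algebraMap.mpr het

/-- the Hopf algebra of a group of multiplicative type -/
theorem isMultType_of_specGrp (h : SGA3x.IsMultTypeFT (specGrp R A)) : SGA3b.IsMultType R A := by
  classical
  choose T iT ψ het hp M iM hM c using fun p => exists_etale_chart_affine (specGrp R A) h p
  obtain ⟨t, ht⟩ := isCompact_univ.elim_finite_subcover
    (fun p => Set.range (Spec.map (CommRingCat.ofHom (ψ p))))
    (fun p => by haveI := het p; exact (Spec.map (CommRingCat.ofHom (ψ p))).isOpenMap.isOpen_range)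
    fun q _ => Set.mem_iUnion.2 ⟨q, hp q⟩
  let e := (Fintype.equivFin {p // p ∈ t}).symm
  letI : ∀ i, Algebra R (T (e i).1) := fun i => (ψ (e i).1).toAlgebra
  haveI : ∀ i, Module.Flat R (T (e i).1) := fun i => by
    haveI := het (e i).1
    exact (Flat.SpecMap_iff.mp (inferInstance : Flat (Spec.map (CommRingCat.ofHom (ψ (e i).1)))) : (ψ (e i).1).Flat)
  refine H19Mult.isMultType_of_charts (fun i => T (e i).1) (fun q => ?_) fun i => ?_
  · obtain ⟨p, hpt, hq⟩ := Set.mem_iUnion₂.1 (ht (Set.mem_univ q))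
    refine ⟨e.symm ⟨p, hpt⟩, ?_⟩
    change q ∈ Set.range (Spec.map (CommRingCat.ofHom (ψ (e (e.symm ⟨p, hpt⟩)).1)))
    rw [Equiv.apply_symm_apply]
    exact hq
  · obtain ⟨b⟩ := nonempty_bc_specGrp (R := R) A (T (e i).1)
    exact isDiag_of_chart (b.symm ≪≫ (c (e i).1).some)

theorem isMultTypeFT_specGrp_iff (hA : Algebra.FiniteType R A) :
    SGA3x.IsMultTypeFT (specGrp R A) ↔ SGA3b.IsMultType R A :=
  ⟨isMultType_of_specGrp, isMultTypeFT_specGrp hA⟩

/-- An affine model of an affine group over an affine base. -/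
theorem exists_model (H : Over (Spec (CommRingCat.of R))) [GrpObj H] [IsAffineHom H.hom] :
    ∃ (A : Type u) (_ : CommRing A) (_ : HopfAlgebra R A), Nonempty (Grp.mk H ≅ Grp.mk (specGrp R A)) ∧
      (Flat H.hom → Module.Flat R A) ∧ (LocallyOfFinitePresentation H.hom → Algebra.FinitePresentation R A) := by
  have : IsAffine H.left := isAffine_of_isAffineHom H.hom
  obtain ⟨A, _, _, ⟨e₀⟩⟩ := exists_hopf_model H
  have : IsIso e₀.inv.hom.hom.left := by
    refine ⟨⟨e₀.hom.hom.hom.left, ?_, ?_⟩⟩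
    · exact congrArg (fun z => z.hom.hom.left) e₀.inv_hom_id
    · exact congrArg (fun z => z.hom.hom.left) e₀.hom_inv_id
  have hw : e₀.inv.hom.hom.left ≫ H.hom = Spec.map (CommRingCat.ofHom (algebraMap R A)) := Over.w e₀.inv.hom.hom
  refine ⟨A, inferInstance, inferInstance, ⟨e₀⟩, fun hf => ?_, fun hf => ?_⟩
  · have : Flat (Spec.map (CommRingCat.ofHom (algebraMap R A))) := by rw [← hw]; infer_instance
    exact RingHom.flat_algebraMap_iff.mp (Flat.SpecMap_iff.mp this)
  · have : LocallyOfFinitePresentation (Spec.map (CommRingCat.ofHom (algebraMap R A))) := by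
      rw [← hw]; infer_instance
    rw [LocallyOfFinitePresentation.SpecMap_iff] at this
    exact RingHom.finitePresentation_algebraMap.mp this

/-- the model after base change -/
theorem nonempty_bc_model {H : Over S} [GrpObj H] (j : Spec (CommRingCat.of R) ⟶ S)
    (e : Grp.mk (Red.bc j H) ≅ Grp.mk (specGrp R A)) (T : Type u) [CommRing T] [Algebra R T]
    {x : Spec (CommRingCat.of T) ⟶ S} (hx : x = Spec.map (CommRingCat.ofHom (algebraMap R T)) ≫ j) :
    Nonempty (Grp.mk (Red.bc x H) ≅ Grp.mk (specGrp T (T ⊗[R] A))) := by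
  subst hx
  obtain ⟨b⟩ := nonempty_bc_specGrp (R := R) A T
  exact ⟨H21Diag.bcCompIso _ j H ≪≫ H21Diag.bcMapIso _ e ≪≫ b⟩

/-- Multiplicative type from the affine models over an open cover. -/
theorem isMultTypeFT_of_models (H : Over S) [GrpObj H] [IsAffineHom H.hom] [Flat H.hom]
    [LocallyOfFinitePresentation H.hom]
    (h : ∀ (R : Type u) [CommRing R] (j : Spec (CommRingCat.of R) ⟶ S) [IsOpenImmersion j]
      (A : Type u) [CommRing A] [HopfAlgebra R A] [Module.Flat R A] [Algebra.FinitePresentation R A]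
      (_ : Grp.mk (Red.bc j H) ≅ Grp.mk (specGrp R A)), SGA3b.IsMultType R A) :
    SGA3x.IsMultTypeFT H := by
  refine isMultTypeFT_of_opens H fun s => ?_
  obtain ⟨O, hO, hsO, -⟩ := exists_isAffineOpen_mem_and_subset (U := (⊤ : S.Opens)) (x := s) trivial
  refine ⟨_, hO.fromSpec, inferInstance, by rw [IsAffineOpen.range_fromSpec]; exact hsO, ?_⟩
  have : IsAffineHom (Red.bc hO.fromSpec H).hom := MorphismProperty.pullback_snd (P := @IsAffineHom) _ _ ‹_›
  obtain ⟨A, _, _, ⟨e⟩, hfl, hfp⟩ := exists_model (R := Γ(S, O)) (Red.bc hO.fromSpec H)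
  haveI := hfl (MorphismProperty.pullback_snd (P := @Flat) _ _ ‹_›)
  haveI := hfp (MorphismProperty.pullback_snd (P := @LocallyOfFinitePresentation) _ _ ‹_›)
  exact isMultTypeFT_of_iso (isMultTypeFT_specGrp inferInstance (h _ hO.fromSpec A e)) e.symm

end Groth.Agent.H21Hom
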