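import Groth.Agent.H21Diag.Conj
import Groth.Agent.H21Diag.FiniteType
import Groth.Agent.H21Diag.TransporterSub
import Groth.Agent.H21Rank1.CellExt
import Groth.Agent.H21Quot.Basic
import Groth.Agent.S4599

/-!
An extension of a group of multiplicative type by another one, with connected or commutative fibres, is
commutative.
-/

set_option autoImplicit false
set_option maxHeartbeats 1000000
set_option linter.style.haveILetI false
set_option backward.isDefEq.respectTransparency false
set_option synthInstance.maxHeartbeats 400000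

universe u

open CategoryTheory MonoidalCategory CartesianMonoidalCategory MonObj GrpObj AlgebraicGeometry

namespace Groth.Agent.H21Hom

variable {S : Scheme.{u}}

/-- a natural multiplicative family of points is a homomorphism over the parameter scheme -/
theorem exists_family_hom (X A K : Over S) [GrpObj A] [GrpObj K]
    (φ : ∀ {T : Over S}, (T ⟶ X) → (T ⟶ A) → (T ⟶ K))
    (hnat : ∀ {T' T : Over S} (q : T' ⟶ T) (t : T ⟶ X) (a : T ⟶ A), q ≫ φ t a = φ (q ≫ t) (q ≫ a))
    (hmul : ∀ {T : Over S} (t : T ⟶ X) (a b : T ⟶ A), φ t (a * b) = φ t a * φ t b) :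
    ∃ u : Red.bc X.hom A ⟶ Red.bc X.hom K, IsMonHom u ∧
      ∀ (T : Over X.left) (g : (Over.map X.hom).obj T ⟶ A),
        H21Diag.bcEquiv X.hom A T g ≫ u = H21Diag.bcEquiv X.hom K T (φ (Over.homMk T.hom rfl) g) := by
  let T₀ := Red.bc X.hom A
  let a₀ := (H21Diag.bcEquiv X.hom A T₀).symm (𝟙 T₀)
  let u : Red.bc X.hom A ⟶ Red.bc X.hom K := H21Diag.bcEquiv X.hom K T₀ (φ (Over.homMk T₀.hom rfl) a₀)
  have hu : ∀ (T : Over X.left) (g : (Over.map X.hom).obj T ⟶ A),
      H21Diag.bcEquiv X.hom A T g ≫ u = H21Diag.bcEquiv X.hom K T (φ (Over.homMk T.hom rfl) g) := by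
    intro T g
    set c := H21Diag.bcEquiv X.hom A T g
    have h1 : H21Diag.bcEquiv X.hom K T ((Over.map X.hom).map c ≫ φ (Over.homMk T₀.hom rfl) a₀) = c ≫ u :=
      (Over.mapPullbackAdj X.hom).homEquiv_naturality_left c _
    have h2 : (Over.map X.hom).map c ≫ a₀ = g := by
      apply (H21Diag.bcEquiv X.hom A T).injective
      rw [H21Diag.bcEquiv, Adjunction.homEquiv_naturality_left]
      exact (congrArg (c ≫ ·) ((H21Diag.bcEquiv X.hom A T₀).apply_symm_apply _)).trans (Category.comp_id c)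
    rw [← h1, hnat, h2]
    congr 2
    exact Over.OverMorphism.ext (Over.w c)
  refine ⟨u, H21Diag.isMonHom_of_mul u fun {T} a b => ?_, hu⟩
  obtain ⟨a, rfl⟩ := (H21Diag.bcEquiv X.hom A T).surjective a
  obtain ⟨b, rfl⟩ := (H21Diag.bcEquiv X.hom A T).surjective b
  rw [← H21Diag.bcEquiv_mul, hu, hu, hu, hmul, H21Diag.bcEquiv_mul]

theorem bcEquiv_one {U : Scheme.{u}} (h : U ⟶ S) (A : Over S) [GrpObj A] (T : Over U) :
    H21Diag.bcEquiv h A T 1 = 1 :=
  (MonoidHom.mk' (H21Diag.bcEquiv h A T) (H21Diag.bcEquiv_mul h A T)).map_one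

/-- the parameter is the unit section -/
theorem homMk_eq_one {H : Over S} [GrpObj H] (T : Over H.left) (l : T.left ⟶ S) (hl : T.hom = l ≫ η[H].left) :
    (Over.homMk T.hom rfl : (Over.map H.hom).obj T ⟶ H) = 1 := by
  have he : η[H].left ≫ H.hom = 𝟙 S := Over.w η[H]
  have h1 : (toUnit ((Over.map H.hom).obj T)).left = l := by
    refine ((Category.comp_id _).symm.trans (Over.w (toUnit ((Over.map H.hom).obj T)))).trans ?_
    show T.hom ≫ H.hom = l
    rw [hl, Category.assoc, he, Category.comp_id]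
  refine Over.OverMorphism.ext ?_
  rw [Hom.one_def, Over.comp_left, h1]
  exact hl

/-- a family of homomorphisms trivial at the unit of connected fibres, or all over the other fibres -/
theorem eq_one_of_trivAt {X : Over S} [GrpObj X] {G K : Over X.left} [GrpObj G] [GrpObj K]
    (hG : SGA3x.IsMultTypeFT G) [IsSeparated K.hom] [LocallyOfFinitePresentation K.hom]
    (u : G ⟶ K) [IsMonHom u]
    (h : ∀ s : S, (_root_.IsConnected (X.hom.base ⁻¹' {s}) ∧ H21Diag.TrivAt u (η[X].left.base s)) ∨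
      ∀ w : X.left, X.hom.base w = s → H21Diag.TrivAt u w) : u = 1 := by
  have : LocallyOfFinitePresentation (Limits.pullback.diagonal K.hom) := S4599.result K.hom
  obtain ⟨U, hUc, hU, h1⟩ := H21Diag.exists_trivial_locus u hG inferInstance
  have hall : ∀ w : X.left, w ∈ U := fun w => by
    rcases h (X.hom.base w) with ⟨hc, he⟩ | hc
    · refine hc.isPreconnected.subset_isClopen ⟨hUc, U.isOpen⟩ ⟨η[X].left.base (X.hom.base w), ?_, (hU _).mpr he⟩
        (show w ∈ X.hom.base ⁻¹' {X.hom.base w} from rfl)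
      show (η[X].left ≫ X.hom).base (X.hom.base w) = X.hom.base w
      rw [Over.w η[X]]
      rfl
    · exact (hU w).mpr (hc w rfl)
  have hr : Set.range G.hom.base ⊆ Set.range U.ι.base := fun w _ => ⟨⟨w, hall w⟩, rfl⟩
  let g₀ : Over.mk G.hom ⟶ G := Over.homMk (𝟙 _) (Category.id_comp _)
  have h3 : g₀ ≫ u = 1 := H21Diag.comp_eq_one_of_pullback U.ι u h1 (IsOpenImmersion.lift U.ι G.hom hr)
    (IsOpenImmersion.lift_fac _ _ _) g₀
  haveI : IsIso g₀.left := inferInstanceAs (IsIso (𝟙 G.left))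
  haveI : Epi g₀ := Over.epi_of_epi_left g₀
  rw [← cancel_epi g₀, h3, MonObj.comp_one]

section extension

variable {H' H H'' : Over S} [GrpObj H'] [GrpObj H] [GrpObj H''] {p : H ⟶ H''} [IsMonHom p] [Surjective p.left]
  [Flat p.left] [QuasiCompact p.left] {i : H' ⟶ H} [IsMonHom i]

/-- commutation for two points over a point of the base with commutative fibre -/
theorem commute_of_fibre {s : S}
    (hs : ∀ (X : Over (Spec (S.residueField s))) (a b : X ⟶ Red.bc (S.fromSpecResidueField s) H), a * b = b * a)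
    {T : Over S} (l : T.left ⟶ Spec (S.residueField s)) (hl : l ≫ S.fromSpecResidueField s = T.hom)
    (a b : T ⟶ H) : a * b = b * a := by
  let T' : Over (Spec (S.residueField s)) := Over.mk l
  let q : T ⟶ (Over.map (S.fromSpecResidueField s)).obj T' := Over.homMk (𝟙 _) ((Category.id_comp _).trans hl)
  let q' : (Over.map (S.fromSpecResidueField s)).obj T' ⟶ T := Over.homMk (𝟙 _) ((Category.id_comp _).trans hl.symm)
  have hqq : q ≫ q' = 𝟙 T := Over.OverMorphism.ext (Category.id_comp _)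
  have h : q' ≫ (a * b) = q' ≫ (b * a) := by
    apply (H21Diag.bcEquiv (S.fromSpecResidueField s) H T').injective
    rw [MonObj.comp_mul, MonObj.comp_mul, H21Diag.bcEquiv_mul, H21Diag.bcEquiv_mul]
    exact hs T' _ _
  have h2 := congrArg (q ≫ ·) h
  simpa only [← Category.assoc, hqq, Category.id_comp] using h2

omit [Surjective p.left] [Flat p.left] [QuasiCompact p.left] in
/-- the extension is central -/
theorem central_of_fibres (hker : AlgGrp.IsKernel i p)
    (hH' : SGA3x.IsMultTypeFT H')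
    (hfib : ∀ s : S, _root_.IsConnected (H.hom.base ⁻¹' {s}) ∨
      ∀ (X : Over (Spec (S.residueField s))) (a b : X ⟶ Red.bc (S.fromSpecResidueField s) H), a * b = b * a)
    {T : Over S} (t : T ⟶ H) (h : T ⟶ H') : t * (h ≫ i) = (h ≫ i) * t := by
  have hk1 : i ≫ p = 1 := by rw [hker.w, Hom.one_def]
  have hlift : ∀ {T : Over S} (e : T ⟶ H), e ≫ p = 1 → ∃ h : T ⟶ H', h ≫ i = e := fun {T} e he =>
    ⟨hker.lift e (toUnit T) (by rw [he, Hom.one_def]), hker.lift_fst _ _ _⟩
  have : Mono i := ⟨fun a b hab => hker.hom_ext hab (toUnit_unique _ _)⟩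
  have := H21Diag.isSeparated_of_multTypeFT hH'
  have := H21Diag.lfp_of_multTypeFT hH'
  haveI : IsSeparated (Red.bc H.hom H').hom := MorphismProperty.pullback_snd (P := @IsSeparated) _ _ ‹_›
  haveI : LocallyOfFinitePresentation (Red.bc H.hom H').hom :=
    MorphismProperty.pullback_snd (P := @LocallyOfFinitePresentation) _ _ ‹_›
  have hinj : ∀ {T : Over S} (a b : T ⟶ H'), a ≫ i = b ≫ i → a = b := fun a b h => (cancel_mono i).mp h
  -- first: the extension is central
  have hconj : ∀ {T : Over S} (t : T ⟶ H) (h : T ⟶ H'), ∃ h' : T ⟶ H', h' ≫ i = t * (h ≫ i) * t⁻¹ * (h ≫ i)⁻¹ :=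
    fun t h => hlift _ (by
      simp only [MonObj.mul_comp, GrpObj.inv_comp, Category.assoc, hk1, MonObj.comp_one]
      group)
  choose φ hφ using @hconj
  have hcentral : ∀ {T : Over S} (t : T ⟶ H) (h : T ⟶ H'), t * (h ≫ i) = (h ≫ i) * t := by
    obtain ⟨u, hum, hu⟩ := exists_family_hom H H' H' φ
      (fun q t a => hinj _ _ (by
        simp only [Category.assoc, hφ, MonObj.comp_mul, GrpObj.comp_inv]))
      (fun {T} t a b => hinj _ _ (by
        obtain ⟨c, hc⟩ : ∃ c : T ⟶ H', c ≫ i = t * (b ≫ i) * t⁻¹ := hlift _ (by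
          simp only [MonObj.mul_comp, GrpObj.inv_comp, Category.assoc, hk1, MonObj.comp_one]
          group)
        have hcm : c ≫ i * (a ≫ i)⁻¹ = (a ≫ i)⁻¹ * (c ≫ i) := by
          rw [← GrpObj.inv_comp, ← MonObj.mul_comp, ← MonObj.mul_comp, H21Diag.mult_comm hH']
        simp only [MonObj.mul_comp, hφ, MonObj.mul_comp, _root_.mul_inv_rev]
        rw [show (t * (a ≫ i * b ≫ i) * t⁻¹ * ((b ≫ i)⁻¹ * (a ≫ i)⁻¹)) =
          (t * (a ≫ i) * t⁻¹) * ((t * (b ≫ i) * t⁻¹) * (b ≫ i)⁻¹) * (a ≫ i)⁻¹ by group]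
        rw [← hφ t b, _root_.mul_assoc (t * (a ≫ i) * t⁻¹) (φ t b ≫ i), ← GrpObj.inv_comp,
          ← MonObj.mul_comp (φ t b), H21Diag.mult_comm hH', MonObj.mul_comp, GrpObj.inv_comp, hφ t b]
        group))
    haveI := hum
    have hu1 : u = 1 := by
      refine eq_one_of_trivAt (H21Diag.isMultTypeFT_bc hH' H.hom) u fun s => ?_
      rcases hfib s with hs | hs
      · refine Or.inl ⟨hs, ?_⟩
        have hz : (S.fromSpecResidueField s ≫ η[H].left).base (IsLocalRing.closedPoint _) = η[H].left.base s := by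
          rw [Scheme.Hom.comp_apply]; exact congrArg _ (Scheme.fromSpecResidueField_apply s _)
        rw [← hz]
        refine H21Diag.trivAt_of_field u _ fun Y q g => ?_
        obtain ⟨g, rfl⟩ := (H21Diag.bcEquiv H.hom H' _).surjective g
        rw [hu]
        refine (congrArg _ ?_).trans (bcEquiv_one H.hom H' _)
        refine hinj _ _ ?_
        rw [hφ, MonObj.one_comp]
        rw [homMk_eq_one (Over.mk (q ≫ S.fromSpecResidueField s ≫ η[H].left)) (q ≫ S.fromSpecResidueField s)
          (Category.assoc _ _ _).symm]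
        group
      · refine Or.inr fun w hw => H21Diag.trivAt_of_forall u fun T g => ?_
        obtain ⟨g, rfl⟩ := (H21Diag.bcEquiv H.hom H' _).surjective g
        rw [hu]
        refine (congrArg _ ?_).trans (bcEquiv_one H.hom H' _)
        refine hinj _ _ ?_
        rw [hφ, MonObj.one_comp]
        subst hw
        rw [commute_of_fibre hs (T := (Over.map H.hom).obj ((Over.map (H.left.fromSpecResidueField w)).obj T))
          (T.hom ≫ Spec.map (H.hom.residueFieldMap w))
          (by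
            simp only [Category.assoc, Scheme.Hom.SpecMap_residueFieldMap_fromSpecResidueField, Over.map_obj_hom])
          _ (g ≫ i)]
        group
    intro T t h
    have h1 := hu (Over.mk t.left) (Over.homMk (𝟙 T.left) ((Category.id_comp _).trans (Over.w t).symm) ≫ h)
    rw [hu1, MonObj.comp_one, ← bcEquiv_one H.hom H' (Over.mk t.left)] at h1
    have h2 := congrArg (fun z => z ≫ i) ((H21Diag.bcEquiv H.hom H' _).injective h1).symm
    simp only [hφ, MonObj.one_comp, mul_inv_eq_one] at h2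
    let q : T ⟶ (Over.map H.hom).obj (Over.mk t.left) := Over.homMk (𝟙 T.left) ((Category.id_comp _).trans (Over.w t))
    have h3 := congrArg (q ≫ ·) h2
    simp only [MonObj.comp_mul, GrpObj.comp_inv] at h3
    have e1 : q ≫ (Over.homMk (Over.mk t.left).hom rfl : (Over.map H.hom).obj (Over.mk t.left) ⟶ H) = t :=
      Over.OverMorphism.ext (Category.id_comp t.left)
    have e2 : q ≫ ((Over.homMk (𝟙 T.left) ((Category.id_comp _).trans (Over.w t).symm) :
        (Over.map H.hom).obj (Over.mk t.left) ⟶ T) ≫ h) ≫ i = h ≫ i :=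
      Over.OverMorphism.ext (by simp [q])
    rw [e1, e2, mul_inv_eq_iff_eq_mul] at h3
    exact h3
  exact hcentral t h

omit [IsMonHom i] [GrpObj H] [GrpObj H''] [IsMonHom p] [QuasiCompact p.left] in
/-- points lift after a cover -/
theorem exists_lift_cover {T : Over S} (a : T ⟶ H'') :
    ∃ (T' : Over S) (q : T' ⟶ T) (a' : T' ⟶ H), Epi q.left ∧ q ≫ a = a' ≫ p := by
  let π := Limits.pullback.fst a.left p.left
  haveI : Epi π := Flat.epi_of_flat_of_surjective _
  refine ⟨Over.mk (π ≫ T.hom), Over.homMk π rfl, Over.homMk (Limits.pullback.snd a.left p.left) ?_, ‹Epi π›,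
    Over.OverMorphism.ext Limits.pullback.condition⟩
  rw [← Over.w p, ← Category.assoc, ← Limits.pullback.condition, Category.assoc, Over.w a]
  rfl

/-- a central extension with commutative or connected quotient fibres is commutative -/
theorem comm_of_central (hker : AlgGrp.IsKernel i p)
    (hH' : SGA3x.IsMultTypeFT H') (hH'' : SGA3x.IsMultTypeFT H'')
    (hcentral : ∀ {T : Over S} (t : T ⟶ H) (h : T ⟶ H'), t * (h ≫ i) = (h ≫ i) * t)
    (hfib : ∀ s : S, _root_.IsConnected (H''.hom.base ⁻¹' {s}) ∨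
      ∀ (X : Over (Spec (S.residueField s))) (a b : X ⟶ Red.bc (S.fromSpecResidueField s) H), a * b = b * a)
    {T : Over S} (a b : T ⟶ H) : a * b = b * a := by
  have hk1 : i ≫ p = 1 := by rw [hker.w, Hom.one_def]
  have hlift : ∀ {T : Over S} (e : T ⟶ H), e ≫ p = 1 → ∃ h : T ⟶ H', h ≫ i = e := fun {T} e he =>
    ⟨hker.lift e (toUnit T) (by rw [he, Hom.one_def]), hker.lift_fst _ _ _⟩
  have : Mono i := ⟨fun a b hab => hker.hom_ext hab (toUnit_unique _ _)⟩
  have hinj : ∀ {T : Over S} (a b : T ⟶ H'), a ≫ i = b ≫ i → a = b := fun a b h => (cancel_mono i).mp h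
  have := H21Diag.isSeparated_of_multTypeFT hH'
  have := H21Diag.lfp_of_multTypeFT hH'
  haveI : IsSeparated (Red.bc H''.hom H').hom := MorphismProperty.pullback_snd (P := @IsSeparated) _ _ ‹_›
  haveI : LocallyOfFinitePresentation (Red.bc H''.hom H').hom :=
    MorphismProperty.pullback_snd (P := @LocallyOfFinitePresentation) _ _ ‹_›
  -- the commutator
  obtain ⟨c, hc⟩ : ∃ c : H ⊗ H ⟶ H', c ≫ i = fst H H * snd H H * (fst H H)⁻¹ * (snd H H)⁻¹ := hlift _ (by
    simp only [MonObj.mul_comp, GrpObj.inv_comp]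
    rw [H21Diag.mult_comm hH'' (fst H H ≫ p)]
    group)
  have hcp : ∀ {T : Over S} (t x : T ⟶ H), (lift t x ≫ c) ≫ i = t * x * t⁻¹ * x⁻¹ := fun t x => by
    rw [Category.assoc, hc]
    simp only [MonObj.comp_mul, GrpObj.comp_inv, lift_fst, lift_snd]
  haveI := H21Quot.flat_tensorHom p p
  haveI := H21Quot.surjective_tensorHom p p
  haveI : QuasiCompact (p ⊗ₘ p).left := by
    rw [Over.tensorHom_left]
    exact MorphismProperty.pullbackMap (P := @QuasiCompact) (inferInstanceAs (QuasiCompact p.left))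
      (inferInstanceAs (QuasiCompact p.left)) (Over.w p).symm (Over.w p).symm
  obtain ⟨c₂, hc₂⟩ := H21Rank1.exists_descend (p ⊗ₘ p) c fun Y u v huv => hinj _ _ (by
    have h1 := congrArg (fun z => z ≫ fst H'' H'') huv
    have h2 := congrArg (fun z => z ≫ snd H'' H'') huv
    simp only [Category.assoc, tensorHom_fst, tensorHom_snd] at h1 h2
    rw [← Category.assoc, ← Category.assoc] at h1 h2
    obtain ⟨n, hn⟩ := hlift ((u ≫ fst H H) * (v ≫ fst H H)⁻¹)
      (by rw [MonObj.mul_comp, GrpObj.inv_comp, h1, mul_inv_cancel])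
    obtain ⟨m, hm⟩ := hlift ((u ≫ snd H H) * (v ≫ snd H H)⁻¹)
      (by rw [MonObj.mul_comp, GrpObj.inv_comp, h2, mul_inv_cancel])
    have hu1 : u ≫ fst H H = (n ≫ i) * (v ≫ fst H H) := by rw [hn, inv_mul_cancel_right]
    have hu2 : u ≫ snd H H = (m ≫ i) * (v ≫ snd H H) := by rw [hm, inv_mul_cancel_right]
    simp only [Category.assoc, hc]
    simp only [MonObj.comp_mul, GrpObj.comp_inv, hu1, hu2]
    set n' := n ≫ i
    set m' := m ≫ i
    set x := v ≫ fst H H
    set y := v ≫ snd H H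
    have hn' : ∀ z : Y ⟶ H, Commute n' z := fun z => (hcentral z n).symm
    have hm' : ∀ z : Y ⟶ H, Commute m' z := fun z => (hcentral z m).symm
    calc n' * x * (m' * y) * (n' * x)⁻¹ * (m' * y)⁻¹
        = n' * (x * m') * y * x⁻¹ * n'⁻¹ * (y⁻¹ * m'⁻¹) := by group
      _ = n' * m' * (x * y * x⁻¹) * n'⁻¹ * (y⁻¹ * m'⁻¹) := by rw [← (hm' x).eq]; group
      _ = n' * m' * n'⁻¹ * (x * y * x⁻¹) * (y⁻¹ * m'⁻¹) := by
          rw [_root_.mul_assoc (n' * m'), ← ((hn' (x * y * x⁻¹)).inv_left).eq, ← _root_.mul_assoc (n' * m')]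
      _ = m' * (x * y * x⁻¹ * y⁻¹) * m'⁻¹ := by rw [(hn' m').eq]; group
      _ = x * y * x⁻¹ * y⁻¹ := by rw [(hm' (x * y * x⁻¹ * y⁻¹)).eq]; group)
  have hc₂p : ∀ {T T' : Over S} (q : T' ⟶ T) (t x : T ⟶ H'') (t' x' : T' ⟶ H),
      q ≫ t = t' ≫ p → q ≫ x = x' ≫ p → q ≫ lift t x ≫ c₂ = lift t' x' ≫ c := by
    intro T T' q t x t' x' ht hx
    rw [← hc₂, ← Category.assoc q, comp_lift, ht, hx, ← Category.assoc (lift t' x'), lift_map]
  obtain ⟨v, hvm, hv⟩ := exists_family_hom H'' H'' H' (fun {T} t x => lift t x ≫ c₂)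
    (fun q t x => by rw [← Category.assoc, comp_lift])
    (fun {T} t x y => by
      obtain ⟨T₁, q₁, t', hq₁, ht⟩ := exists_lift_cover (p := p) t
      obtain ⟨T₂, q₂, x', hq₂, hx⟩ := exists_lift_cover (p := p) (q₁ ≫ x)
      obtain ⟨T₃, q₃, y', hq₃, hy⟩ := exists_lift_cover (p := p) ((q₂ ≫ q₁) ≫ y)
      let q := (q₃ ≫ q₂) ≫ q₁
      haveI : Epi q.left := by
        haveI := hq₁; haveI := hq₂; haveI := hq₃
        change Epi ((q₃.left ≫ q₂.left) ≫ q₁.left)
        infer_instance
      haveI : Epi q := Over.epi_of_epi_left q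
      have e1 : q ≫ t = ((q₃ ≫ q₂) ≫ t') ≫ p := by simp only [q, Category.assoc]; rw [ht]
      have e2 : q ≫ x = (q₃ ≫ x') ≫ p := by simp only [q, Category.assoc]; rw [← hx]
      have e3 : q ≫ y = y' ≫ p := by simp only [q, Category.assoc] at hy ⊢; rw [← hy]
      have e23 : q ≫ (x * y) = ((q₃ ≫ x') * y') ≫ p := by rw [MonObj.comp_mul, e2, e3, MonObj.mul_comp]
      rw [← cancel_epi q, MonObj.comp_mul, hc₂p q t _ _ _ e1 e23, hc₂p q t x _ _ e1 e2, hc₂p q t y _ _ e1 e3]
      refine hinj _ _ ?_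
      rw [MonObj.mul_comp, hcp, hcp, hcp, _root_.mul_inv_rev]
      set u := (q₃ ≫ q₂) ≫ t'
      set x₁ := q₃ ≫ x'
      obtain ⟨n, hn⟩ : ∃ n : T₃ ⟶ H', n ≫ i = u * y' * u⁻¹ * y'⁻¹ := ⟨_, hcp u y'⟩
      rw [← hn, ← _root_.mul_assoc (u * (x₁ * y') * u⁻¹),
        show u * (x₁ * y') * u⁻¹ * y'⁻¹ = (u * x₁ * u⁻¹) * (n ≫ i) by rw [hn]; group,
        _root_.mul_assoc, ← hcentral x₁⁻¹ n, ← _root_.mul_assoc])
  haveI := hvm
  have hv1 : v = 1 := by
    refine eq_one_of_trivAt (H21Diag.isMultTypeFT_bc hH'' H''.hom) v fun s => ?_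
    rcases hfib s with hs | hs
    · refine Or.inl ⟨hs, ?_⟩
      have hz : (S.fromSpecResidueField s ≫ η[H''].left).base (IsLocalRing.closedPoint _) = η[H''].left.base s := by
        rw [Scheme.Hom.comp_apply]; exact congrArg _ (Scheme.fromSpecResidueField_apply s _)
      rw [← hz]
      refine H21Diag.trivAt_of_field v _ fun Y q g => ?_
      obtain ⟨g, rfl⟩ := (H21Diag.bcEquiv H''.hom H'' _).surjective g
      rw [hv, homMk_eq_one (Over.mk (q ≫ S.fromSpecResidueField s ≫ η[H''].left)) (q ≫ S.fromSpecResidueField s)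
        (Category.assoc _ _ _).symm]
      refine (congrArg _ ?_).trans (bcEquiv_one H''.hom H' _)
      obtain ⟨T', r, g', hr, hg'⟩ := exists_lift_cover (p := p) g
      haveI := hr
      haveI : Epi r := Over.epi_of_epi_left r
      rw [← cancel_epi r, hc₂p r 1 g 1 g' (by rw [MonObj.comp_one, MonObj.one_comp]) hg', MonObj.comp_one]
      refine hinj _ _ ?_
      rw [hcp, MonObj.one_comp]
      group
    · refine Or.inr fun w hw => H21Diag.trivAt_of_forall v fun Y g => ?_
      obtain ⟨g, rfl⟩ := (H21Diag.bcEquiv H''.hom H'' _).surjective g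
      rw [hv]
      refine (congrArg _ ?_).trans (bcEquiv_one H''.hom H' _)
      obtain ⟨T₁, r₁, t', hr₁, ht'⟩ := exists_lift_cover (p := p)
        (Over.homMk ((Over.map (H''.left.fromSpecResidueField w)).obj Y).hom rfl :
          (Over.map H''.hom).obj ((Over.map (H''.left.fromSpecResidueField w)).obj Y) ⟶ H'')
      obtain ⟨T₂, r₂, g', hr₂, hg'⟩ := exists_lift_cover (p := p) (r₁ ≫ g)
      let r := r₂ ≫ r₁
      haveI : Epi r.left := by
        haveI := hr₁; haveI := hr₂
        change Epi (r₂.left ≫ r₁.left)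
        infer_instance
      haveI : Epi r := Over.epi_of_epi_left r
      rw [← cancel_epi r, hc₂p r _ g (r₂ ≫ t') g' (by simp only [r, Category.assoc]; rw [ht'])
        (by simp only [r, Category.assoc] at hg' ⊢; rw [← hg']), MonObj.comp_one]
      refine hinj _ _ ?_
      rw [hcp, MonObj.one_comp]
      subst hw
      rw [commute_of_fibre hs (T := T₂) (r.left ≫ Y.hom ≫ Spec.map (H''.hom.residueFieldMap w))
        (by
          have h := Over.w r
          simp only [Over.map_obj_hom] at h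
          rw [← h]
          simp only [Category.assoc, Scheme.Hom.SpecMap_residueFieldMap_fromSpecResidueField]) _ g']
      group
  let t := a ≫ p
  let q : T ⟶ (Over.map H''.hom).obj (Over.mk t.left) := Over.homMk (𝟙 T.left) ((Category.id_comp _).trans (Over.w t))
  let q' : (Over.map H''.hom).obj (Over.mk t.left) ⟶ T :=
    Over.homMk (𝟙 T.left) ((Category.id_comp _).trans (Over.w t).symm)
  have h1 := hv (Over.mk t.left) (q' ≫ b ≫ p)
  rw [hv1, MonObj.comp_one, ← bcEquiv_one H''.hom H' (Over.mk t.left)] at h1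
  have h2 := congrArg (fun z => q ≫ z) ((H21Diag.bcEquiv H''.hom H' _).injective h1).symm
  simp only [MonObj.comp_one] at h2
  have e1 : q ≫ (Over.homMk (Over.mk t.left).hom rfl : (Over.map H''.hom).obj (Over.mk t.left) ⟶ H'') = t :=
    Over.OverMorphism.ext (Category.id_comp t.left)
  have e2 : q ≫ q' ≫ b ≫ p = b ≫ p := Over.OverMorphism.ext (by simp [q, q'])
  rw [← Category.assoc, comp_lift, e1, e2, ← Category.id_comp (lift t (b ≫ p) ≫ c₂),
    hc₂p (𝟙 T) t (b ≫ p) a b (Category.id_comp _) (Category.id_comp _)] at h2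
  have h3 := congrArg (fun z => z ≫ i) h2
  simp only [hcp, MonObj.one_comp, mul_inv_eq_iff_eq_mul, _root_.one_mul] at h3
  exact h3

end extension

end Groth.Agent.H21Hom
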