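import Groth.Agent.H21Hom.Family
import Mathlib.LinearAlgebra.Matrix.NonsingularInverse
import Mathlib.RingTheory.Localization.Away.Basic
import Mathlib.RingTheory.FinitePresentation

/-!
The universal rings of homomorphisms with weights in a finite set.
-/

set_option autoImplicit false
set_option maxHeartbeats 1000000
set_option linter.style.haveILetI false
set_option backward.isDefEq.respectTransparency false

universe u

open CategoryTheory AlgebraicGeometry
open Groth.Agent.H21Diag

namespace Groth.Agent.H21Hom

variable {R : Type u} [CommRing R] {G : Over (Spec (CommRingCat.of R))} [GrpObj G]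
  {M : Type} [AddCommGroup M] {n : ℕ} (L : LinCoord G n)

variable {A : Type u} [CommRing A]

theorem coeff_dg (x : GA M A) (m : Multiplicative M) : (dg x).coeff (m, m) = x.coeff m := by
  change (MonoidAlgebra.mapDomain _ x).coeff (m, m) = _
  exact Finsupp.mapDomain_apply (fun a b h => congrArg Prod.fst h) x.coeff m

theorem coeff_inc_mul (x y : GA M A) (a b : Multiplicative M) :
    (inc₁ x * inc₂ y).coeff (a, b) = x.coeff a * y.coeff b := by
  classical
  induction x using MonoidAlgebra.induction_linear with
  | zero => simp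
  | add x x' hx hx' => simp only [map_add, add_mul, MonoidAlgebra.coeff_add, Finsupp.add_apply, hx, hx']
  | single c r =>
    induction y using MonoidAlgebra.induction_linear with
    | zero => simp
    | add y y' hy hy' => simp only [map_add, mul_add, MonoidAlgebra.coeff_add, Finsupp.add_apply, hy, hy']
    | single d s =>
      simp only [MonoidAlgebra.mapDomainRingHom_apply, MonoidAlgebra.mapDomain_single, MonoidAlgebra.single_mul_single,
        MonoidHom.inl_apply, MonoidHom.inr_apply, Prod.mk_mul_mk, _root_.one_mul, _root_.mul_one,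
        MonoidAlgebra.coeff_single, Finsupp.single_apply, Prod.mk.injEq]
      split_ifs <;> simp_all

/-- the relations and the homomorphism equations -/
def Valid (g : R →+* A) (p : Fin n → GA M A) : Prop := Rel L g p ∧ Star L g p

/-- the coefficient of the matrix at a weight -/
noncomputable def wtMat (g : R →+* A) (p : Fin n → GA M A) (m : Multiplicative M) : Matrix (Fin n) (Fin n) A :=
  Matrix.of fun i j => (MvPolynomial.eval₂ (sc g) p (L.mat i j)).coeff m

/-- all the weights are in `F` -/
def InF (g : R →+* A) (p : Fin n → GA M A) (F : Finset (Multiplicative M)) : Prop :=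
  ∀ m ∉ F, IsUnit (1 - wtMat L g p m).det

theorem InF.mono {g : R →+* A} {p : Fin n → GA M A} {F F' : Finset (Multiplicative M)} (h : InF L g p F)
    (hF : F ≤ F') : InF L g p F' := fun m hm => h m fun hm' => hm (hF hm')

theorem InF.inter [DecidableEq (Multiplicative M)] {g : R →+* A} {p : Fin n → GA M A}
    {F F' : Finset (Multiplicative M)} (h : InF L g p F) (h' : InF L g p F') : InF L g p (F ∩ F') := fun m hm => by
  by_cases hmF : m ∈ F
  · exact h' m fun hm' => hm (Finset.mem_inter.2 ⟨hmF, hm'⟩)
  · exact h m hmF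

theorem exists_support (g : R →+* A) (p : Fin n → GA M A) :
    ∃ F : Finset (Multiplicative M), ∀ m ∉ F, (1 - wtMat L g p m).det = 1 := by
  classical
  refine ⟨Finset.univ.biUnion fun ij : Fin n × Fin n => (MvPolynomial.eval₂ (sc g) p (L.mat ij.1 ij.2)).coeff.support,
    fun m hm => ?_⟩
  have : wtMat L g p m = 0 := Matrix.ext fun i j => Finsupp.notMem_support_iff.mp fun h =>
    hm (Finset.mem_biUnion.2 ⟨(i, j), Finset.mem_univ _, h⟩)
  rw [this, sub_zero, Matrix.det_one]

theorem exists_inF (g : R →+* A) (p : Fin n → GA M A) : ∃ F, InF L g p F := by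
  obtain ⟨F, hF⟩ := exists_support L g p
  exact ⟨F, fun m hm => by rw [hF m hm]; exact isUnit_one⟩

theorem coeff_fixed (a : Fin n → Fin n → GA M A) (p : Fin n → GA M A)
    (h : ∀ i, dg (p i) = ∑ j, inc₁ (a i j) * inc₂ (p j)) (m : Multiplicative M) (i : Fin n) :
    ∑ j, (a i j).coeff m * (p j).coeff m = (p i).coeff m := by
  have h1 : (dg (p i)).coeff (m, m) = (∑ j, inc₁ (a i j) * inc₂ (p j)).coeff (m, m) := by rw [h i]
  rw [coeff_dg, MonoidAlgebra.coeff_sum, Finsupp.finsetSum_apply] at h1
  exact (Finset.sum_congr rfl fun j _ => (coeff_inc_mul (a i j) (p j) m m).symm).trans h1.symm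

theorem eq_zero_of_fixed (W : Matrix (Fin n) (Fin n) A) (v : Fin n → A) (h : W.mulVec v = v)
    (hu : IsUnit (1 - W).det) : v = 0 := by
  have h0 : (1 - W).mulVec v = (1 - W).mulVec 0 := by
    rw [Matrix.sub_mulVec, Matrix.one_mulVec, h, sub_self, Matrix.mulVec_zero]
  exact Matrix.mulVec_injective_of_isUnit ((Matrix.isUnit_iff_isUnit_det _).mpr hu) h0

/-- the weights are in `F` -/
theorem coeff_eq_zero {g : R →+* A} {p : Fin n → GA M A} {F : Finset (Multiplicative M)} (hp : Star L g p)
    (hF : InF L g p F) {m : Multiplicative M} (hm : m ∉ F) (i : Fin n) : (p i).coeff m = 0 := by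
  have h := coeff_fixed (A := A) (M := M) (n := n) (fun i j => MvPolynomial.eval₂ (sc g) p (L.mat i j)) p
  have h' := h (fun i => hp i) m
  have hfix : (wtMat L g p m).mulVec (fun i => (p i).coeff m) = fun i => (p i).coeff m := by
    funext i
    simp only [Matrix.mulVec, dotProduct, wtMat, Matrix.of_apply]
    exact h' i
  exact congrFun (eq_zero_of_fixed _ _ hfix (hF m hm)) i

section map

variable {A' : Type u} [CommRing A'] (f : A →+* A') {g : R →+* A} {g' : R →+* A'} (h : f.comp g = g')
  (p : Fin n → GA M A)

/-- coordinates after a change of ring -/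
noncomputable abbrev pmap : Fin n → GA M A' := fun i => MonoidAlgebra.mapRingHom _ f (p i)

include h in
theorem eval₂_pmap (P : MvPolynomial (Fin n) R) :
    MonoidAlgebra.mapRingHom _ f (MvPolynomial.eval₂ (sc g) p P) = MvPolynomial.eval₂ (sc g') (pmap f p) P := by
  subst h
  rw [MvPolynomial.eval₂_comp_left]
  congr 1
  exact RingHom.ext fun r => by simp

include h in
theorem wtMat_pmap (m : Multiplicative M) : wtMat L g' (pmap f p) m = f.mapMatrix (wtMat L g p m) := by
  refine Matrix.ext fun i j => ?_
  change _ = f ((MvPolynomial.eval₂ (sc g) p (L.mat i j)).coeff m)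
  rw [← MonoidAlgebra.coeff_mapRingHom, eval₂_pmap f h p]
  rfl

include h in
theorem det_pmap (m : Multiplicative M) :
    (1 - wtMat L g' (pmap f p) m).det = f (1 - wtMat L g p m).det := by
  rw [RingHom.map_det, map_sub, map_one, ← wtMat_pmap L f h p m]

include h in
theorem InF.map {F : Finset (Multiplicative M)} (hF : InF L g p F) : InF L g' (pmap f p) F := fun m hm => by
  rw [det_pmap L f h p m]
  exact (hF m hm).map f

include h in
theorem mapRingHom_starDiff (i : Fin n) :
    MonoidAlgebra.mapRingHom _ f (dg (p i) - ∑ j, inc₁ (MvPolynomial.eval₂ (sc g) p (L.mat i j)) * inc₂ (p j)) =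
      dg (pmap f p i) - ∑ j, inc₁ (MvPolynomial.eval₂ (sc g') (pmap f p) (L.mat i j)) * inc₂ (pmap f p j) := by
  have hc : ∀ (F : Multiplicative M →* Multiplicative M × Multiplicative M) (x : GA M A),
      MonoidAlgebra.mapRingHom _ f (MonoidAlgebra.mapDomainRingHom A F x) =
        MonoidAlgebra.mapDomainRingHom A' F (MonoidAlgebra.mapRingHom _ f x) := fun F =>
    RingHom.congr_fun (MonoidAlgebra.mapRingHom_comp_mapDomainRingHom f F)
  simp only [map_sub, map_sum, map_mul, hc, eval₂_pmap f h p]

include h in
theorem Valid.map (hv : Valid L g p) : Valid L g' (pmap f p) := by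
  refine ⟨fun k => ?_, fun i => ?_⟩
  · rw [← eval₂_pmap f h p, hv.1 k, map_zero]
  · rw [← sub_eq_zero, ← mapRingHom_starDiff L f h p i, sub_eq_zero.mpr (hv.2 i), map_zero]

end map

/-- the universal ring of homomorphisms with weights in `F` -/
structure Piece (F : Finset (Multiplicative M)) where
  B : Type u
  [instRing : CommRing B]
  g : R →+* B
  fp : g.FinitePresentation
  p : Fin n → GA M B
  valid : Valid L g p
  inF : InF L g p F
  universal : ∀ {A : Type u} [CommRing A] (k : R →+* A) (q : Fin n → GA M A), Valid L k q → InF L k q F →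
    ∃! f : B →+* A, f.comp g = k ∧ pmap f p = q

attribute [instance] Piece.instRing

theorem nonempty_piece (F : Finset (Multiplicative M)) : Nonempty (Piece L F) := by
  classical
  let P := MvPolynomial (Fin n × F) R
  let c : R →+* P := MvPolynomial.C
  let q : Fin n → GA M P := fun i => ∑ m : F, MonoidAlgebra.single m.1 (MvPolynomial.X (i, m))
  let st : Fin n → GA₂ M P := fun i => dg (q i) - ∑ j, inc₁ (MvPolynomial.eval₂ (sc c) q (L.mat i j)) * inc₂ (q j)
  let rl : Fin L.r → GA M P := fun k => MvPolynomial.eval₂ (sc c) q (L.rel k)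
  let s : Set P := (⋃ k, Set.range (rl k).coeff) ∪ ⋃ i, Set.range (st i).coeff
  have hs : s.Finite :=
    (Set.finite_iUnion fun k => Finsupp.finite_range _).union (Set.finite_iUnion fun i => Finsupp.finite_range _)
  let I := Ideal.span s
  let π := Ideal.Quotient.mk I
  let g₀ : R →+* P ⧸ I := π.comp c
  let p₀ := pmap π q
  obtain ⟨Fc, hFc⟩ := exists_support L g₀ p₀
  let d : P ⧸ I := ∏ m ∈ Fc \ F, (1 - wtMat L g₀ p₀ m).det
  let B := Localization.Away d
  let l : P ⧸ I →+* B := algebraMap _ _
  let gB : R →+* B := l.comp g₀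
  let pB := pmap l p₀
  have hI : ∀ x ∈ s, π x = 0 := fun x hx => Ideal.Quotient.eq_zero_iff_mem.mpr (Ideal.subset_span hx)
  have hv₀ : Valid L g₀ p₀ := by
    refine ⟨fun k => ?_, fun i => ?_⟩
    · rw [← eval₂_pmap π (g := c) rfl q]
      refine MonoidAlgebra.ext (Finsupp.ext fun m => ?_)
      rw [MonoidAlgebra.coeff_mapRingHom, MonoidAlgebra.coeff_zero, Finsupp.zero_apply]
      exact hI _ (Or.inl (Set.mem_iUnion.2 ⟨k, m, rfl⟩))
    · rw [← sub_eq_zero, ← mapRingHom_starDiff L π (g := c) rfl q i]
      refine MonoidAlgebra.ext (Finsupp.ext fun m => ?_)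
      rw [MonoidAlgebra.coeff_mapRingHom, MonoidAlgebra.coeff_zero, Finsupp.zero_apply]
      exact hI _ (Or.inr (Set.mem_iUnion.2 ⟨i, m, rfl⟩))
  have hunit : InF L gB pB F := fun m hm => by
    rw [det_pmap L l rfl p₀ m]
    by_cases hmc : m ∈ Fc
    · exact isUnit_of_dvd_unit (map_dvd l (Finset.dvd_prod_of_mem (fun m => (1 - wtMat L g₀ p₀ m).det) (Finset.mem_sdiff.2 ⟨hmc, hm⟩)))
        (IsLocalization.Away.algebraMap_isUnit d)
    · rw [hFc m hmc, map_one]; exact isUnit_one
  refine ⟨{ B := B, g := gB, fp := ?_, p := pB, valid := hv₀.map L l rfl p₀, inF := hunit, universal := ?_ }⟩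
  · have hc : c.FinitePresentation :=
      RingHom.finitePresentation_algebraMap.mpr (inferInstanceAs (Algebra.FinitePresentation R P))
    have hπ : π.FinitePresentation := RingHom.FinitePresentation.of_surjective π Ideal.Quotient.mk_surjective (by
      rw [Ideal.mk_ker]
      exact ⟨hs.toFinset, by rw [Set.Finite.coe_toFinset]⟩)
    have hl : l.FinitePresentation :=
      RingHom.finitePresentation_algebraMap.mpr (IsLocalization.Away.finitePresentation d)
    exact hl.comp (hπ.comp hc)
  · intro A _ k x hx hxF
    let ev : P →+* A := MvPolynomial.eval₂Hom k fun im => (x im.1).coeff im.2.1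
    have hevc : ev.comp c = k := RingHom.ext fun r => MvPolynomial.eval₂Hom_C _ _ r
    have hq : pmap ev q = x := funext fun i => MonoidAlgebra.ext (Finsupp.ext fun m => by
      simp only [pmap, q, map_sum, MonoidAlgebra.mapRingHom_single, MonoidAlgebra.coeff_sum,
        Finsupp.finsetSum_apply, MonoidAlgebra.coeff_single, Finsupp.single_apply, ev]
      by_cases hm : m ∈ F
      · rw [Finset.sum_eq_single ⟨m, hm⟩]
        · rw [if_pos rfl]; exact MvPolynomial.eval₂Hom_X' _ _ _
        · intro b _ hb
          exact if_neg fun h => hb (Subtype.ext h)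
        · intro h; exact absurd (Finset.mem_univ _) h
      · rw [coeff_eq_zero L hx.2 hxF hm i]
        exact Finset.sum_eq_zero fun b _ => if_neg fun (h : (b : Multiplicative M) = m) => hm (h ▸ b.2))
    have hker : I ≤ RingHom.ker ev := Ideal.span_le.mpr fun a ha => by
      rcases ha with ha | ha
      · obtain ⟨k', m, rfl⟩ := Set.mem_iUnion.1 ha
        have : MonoidAlgebra.mapRingHom _ ev (rl k') = 0 := by
          rw [eval₂_pmap ev hevc q, hq]; exact hx.1 k'
        exact (MonoidAlgebra.coeff_mapRingHom ev (rl k') m).symm.trans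
          (by rw [this]; rfl)
      · obtain ⟨i, m, rfl⟩ := Set.mem_iUnion.1 ha
        have : MonoidAlgebra.mapRingHom _ ev (st i) = 0 := by
          rw [mapRingHom_starDiff L ev hevc q i, hq]; exact sub_eq_zero.mpr (hx.2 i)
        exact (MonoidAlgebra.coeff_mapRingHom ev (st i) m).symm.trans
          (by rw [this]; rfl)
    let f₀ : P ⧸ I →+* A := Ideal.Quotient.lift I ev hker
    have hf₀ : f₀.comp π = ev := Ideal.Quotient.lift_comp_mk _ _ _
    have hp₀ : pmap f₀ p₀ = x := by
      rw [← hq]
      exact funext fun i => by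
        simp only [p₀, pmap, ← RingHom.comp_apply, ← MonoidAlgebra.mapRingHom_comp, hf₀]
    have hg₀ : f₀.comp g₀ = k := by rw [← RingHom.comp_assoc, hf₀, hevc]
    have hd : IsUnit (f₀ d) := by
      rw [map_prod]
      refine Finset.prod_induction _ IsUnit (fun _ _ => IsUnit.mul) isUnit_one fun m hm => ?_
      rw [← det_pmap L f₀ hg₀ p₀ m, hp₀]
      exact hxF m (Finset.mem_sdiff.1 hm).2
    let f : B →+* A := IsLocalization.Away.lift d hd
    have hfl : f.comp l = f₀ := IsLocalization.Away.lift_comp d hd
    refine ⟨f, ⟨by rw [← RingHom.comp_assoc, hfl, hg₀], ?_⟩, ?_⟩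
    · rw [← hp₀]
      exact funext fun i => by simp only [pB, pmap, ← RingHom.comp_apply, ← MonoidAlgebra.mapRingHom_comp, hfl]
    · rintro f' ⟨h1, h2⟩
      refine IsLocalization.ringHom_ext (Submonoid.powers d) ?_
      refine Eq.trans ?_ hfl.symm
      refine Ideal.Quotient.ringHom_ext ?_
      rw [hf₀]
      refine MvPolynomial.ringHom_ext (fun r => ?_) fun im => ?_
      · exact (RingHom.congr_fun h1 r).trans (RingHom.congr_fun hevc r).symm
      · have := congrArg (fun z => MonoidAlgebra.coeff z im.2.1) (congrFun h2 im.1)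
        simp only [pB, p₀, q, pmap, map_sum, MonoidAlgebra.mapRingHom_single, MonoidAlgebra.coeff_sum,
          Finsupp.finsetSum_apply, MonoidAlgebra.coeff_single, Finsupp.single_apply] at this
        rw [Finset.sum_eq_single im.2 (fun b _ hb => if_neg fun h => hb (Subtype.ext h))
          (fun h => absurd (Finset.mem_univ _) h), if_pos rfl] at this
        simpa [ev] using this

end Groth.Agent.H21Hom
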