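import Groth.Agent.H8Props.WeilRes.Glue
import Mathlib.AlgebraicGeometry.ResidueField

/-!
A Zariski sheaf which is a directed union of representable open subfunctors is representable.
-/

set_option autoImplicit false
set_option maxHeartbeats 1000000
set_option linter.style.haveILetI false
set_option backward.isDefEq.respectTransparency false

universe u

open CategoryTheory CategoryTheory.Limits AlgebraicGeometry Opposite TopologicalSpace
open Groth.Agent.H8Props.WeilRes

namespace Groth.Agent.H21Hom

variable {S : Scheme.{u}} (F : (Over S)ᵒᵖ ⥤ Type u)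

/-- a directed family of open pieces of a functor -/
structure Pieces (ι : Type u) [Preorder ι] where
  gluing : IsZariskiGluing F
  nonempty : Nonempty ι
  directed : ∀ i j : ι, ∃ k, i ≤ k ∧ j ≤ k
  W : ι → Over S
  sect : ∀ i, F.obj (op (W i))
  map : ∀ {i j : ι}, i ≤ j → (W i ⟶ W j)
  isOpenImmersion : ∀ {i j : ι} (h : i ≤ j), IsOpenImmersion (map h).left
  map_sect : ∀ {i j : ι} (h : i ≤ j), F.map (map h).op (sect j) = sect i
  inj : ∀ (i : ι) (T : Over S) [IsAffine T.left] (a b : T ⟶ W i),
    F.map a.op (sect i) = F.map b.op (sect i) → a = b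
  surj : ∀ (T : Over S) [IsAffine T.left] (s : F.obj (op T)), ∃ i, ∃ a : T ⟶ W i, F.map a.op (sect i) = s
  meet : ∀ (i j : ι) (T : Over S) [IsAffine T.left] (a : T ⟶ W i) (b : T ⟶ W j),
    F.map a.op (sect i) = F.map b.op (sect j) → ∃ k, ∃ (hi : k ≤ i) (_ : k ≤ j) (c : T ⟶ W k), c ≫ map hi = a

variable {F} {ι : Type u} [Preorder ι] (P : Pieces F ι)

theorem Pieces.map_map {T T' T'' : Over S} (a : T ⟶ T') (b : T' ⟶ T'') (x : F.obj (op T'')) :
    F.map a.op (F.map b.op x) = F.map (a ≫ b).op x := by
  rw [op_comp, Functor.map_comp]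
  rfl

theorem Pieces.inj' (i : ι) {T : Over S} (a b : T ⟶ P.W i) (h : F.map a.op (P.sect i) = F.map b.op (P.sect i)) :
    a = b := by
  refine Over.OverMorphism.ext (T.left.affineCover.hom_ext _ _ fun j => ?_)
  let U : Over S := Over.mk (T.left.affineCover.f j ≫ T.hom)
  let k : U ⟶ T := Over.homMk (T.left.affineCover.f j) rfl
  have : IsAffine U.left := inferInstanceAs (IsAffine (T.left.affineCover.X j))
  exact congrArg (fun z => z.left) (P.inj i U (k ≫ a) (k ≫ b) (by rw [← Pieces.map_map, h, Pieces.map_map]))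

theorem Pieces.map_refl (i : ι) : P.map (le_refl i) = 𝟙 _ :=
  P.inj' i _ _ (by rw [P.map_sect, op_id, CategoryTheory.Functor.map_id]; rfl)

theorem Pieces.map_trans {i j k : ι} (h : i ≤ j) (h' : j ≤ k) : P.map h ≫ P.map h' = P.map (h.trans h') :=
  P.inj' k _ _ (by rw [← Pieces.map_map, P.map_sect, P.map_sect, P.map_sect])

/-- the diagram of the pieces -/
noncomputable def Pieces.diag : ι ⥤ Scheme.{u} where
  obj i := (P.W i).left
  map h := (P.map (leOfHom h)).left
  map_id i := congrArg (fun z => z.left) (P.map_refl i)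
  map_comp h h' := (congrArg (fun z => z.left) (P.map_trans (leOfHom h) (leOfHom h')).symm).trans rfl

instance {i j : ι} (h : i ⟶ j) : IsOpenImmersion (P.diag.map h) := P.isOpenImmersion (leOfHom h)

instance : (P.diag ⋙ Scheme.forget).IsLocallyDirected := ⟨by
  intro i j k fi fj x y (hxy : (P.map (leOfHom fi)).left x = (P.map (leOfHom fj)).left y)
  have := P.isOpenImmersion (leOfHom fj)
  let T : Over S := Over.mk ((P.W i).left.fromSpecResidueField x ≫ (P.W i).hom)
  let a : T ⟶ P.W i := Over.homMk ((P.W i).left.fromSpecResidueField x) rfl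
  let z := (a ≫ P.map (leOfHom fi)).left
  have hz : Set.range z ⊆ Set.range (P.map (leOfHom fj)).left := by
    rintro _ ⟨q, rfl⟩
    refine ⟨y, ?_⟩
    rw [← hxy]
    change _ = (P.map (leOfHom fi)).left ((P.W i).left.fromSpecResidueField x q)
    rw [Scheme.fromSpecResidueField_apply]
  let b : T ⟶ P.W j := Over.homMk (IsOpenImmersion.lift (P.map (leOfHom fj)).left z hz) (by
    rw [← Over.w (P.map (leOfHom fj)), ← Category.assoc, IsOpenImmersion.lift_fac]
    exact Over.w (a ≫ P.map (leOfHom fi)))
  have hb : b ≫ P.map (leOfHom fj) = a ≫ P.map (leOfHom fi) :=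
    Over.OverMorphism.ext (IsOpenImmersion.lift_fac _ _ _)
  have : IsAffine T.left := inferInstanceAs (IsAffine (Spec _))
  obtain ⟨l, hli, hlj, c, hc⟩ := P.meet i j T a b (by
    rw [← P.map_sect (leOfHom fi), ← P.map_sect (leOfHom fj), Pieces.map_map, Pieces.map_map, hb])
  obtain ⟨q⟩ : Nonempty T.left := inferInstanceAs (Nonempty (Spec _))
  refine ⟨l, homOfLE hli, homOfLE hlj, c.left q, ?_, ?_⟩
  · change (P.map hli).left (c.left q) = x
    rw [← Scheme.Hom.comp_apply, ← Over.comp_left, hc]
    exact Scheme.fromSpecResidueField_apply _ _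
  · refine (P.map (leOfHom fj)).left.isOpenEmbedding.injective ?_
    change (P.map (leOfHom fj)).left ((P.map hlj).left (c.left q)) = _
    rw [← Scheme.Hom.comp_apply, ← Scheme.Hom.comp_apply, ← Over.comp_left, ← Over.comp_left, P.map_trans,
      ← hxy, ← P.map_trans hli (leOfHom fi), ← Category.assoc, hc]
    change (P.map (leOfHom fi)).left ((P.W i).left.fromSpecResidueField x q) = _
    rw [Scheme.fromSpecResidueField_apply]⟩

/-- the functor is represented by the union of the pieces -/
theorem Pieces.exists_rep :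
    ∃ (X : Over S) (υ : F.obj (op X)) (e : ∀ i, P.W i ⟶ X),
      (∀ T : Over S, Function.Bijective fun h : T ⟶ X => F.map h.op υ) ∧
      (∀ i, IsOpenImmersion (e i).left) ∧ (∀ i, F.map (e i).op υ = P.sect i) ∧
      (∀ {i j : ι} (h : i ≤ j), P.map h ≫ e j = e i) ∧ ∀ x : X.left, ∃ i, x ∈ Set.range (e i).left := by
  let π : colimit P.diag ⟶ S := colimit.desc P.diag
    { pt := S
      ι := { app := fun i => (P.W i).hom
             naturality := fun i j h => (Over.w (P.map (leOfHom h))).trans (Category.comp_id _).symm } }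
  let X : Over S := Over.mk π
  let e : ∀ i, P.W i ⟶ X := fun i => Over.homMk (colimit.ι P.diag i) (colimit.ι_desc _ _)
  have he : ∀ i, IsOpenImmersion (e i).left := fun i => inferInstanceAs (IsOpenImmersion (colimit.ι P.diag i))
  have hcompat : ∀ {i j : ι} (h : i ≤ j), P.map h ≫ e j = e i := fun h =>
    Over.OverMorphism.ext (colimit.w P.diag (homOfLE h))
  have hcov : ∀ x : X.left, ∃ i, x ∈ Set.range (e i).left := fun x => by
    obtain ⟨i, xi, hxi⟩ := Scheme.IsLocallyDirected.ι_jointly_surjective P.diag x
    exact ⟨i, xi, hxi⟩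
  obtain ⟨υ, hυ, -⟩ := P.gluing X ι P.W e he hcov P.sect fun i j Z a b hab => by
    obtain ⟨k, hik, hjk⟩ := P.directed i j
    have : a ≫ P.map hik = b ≫ P.map hjk := by
      have := he k
      refine Over.OverMorphism.ext ((cancel_mono (e k).left).mp ?_)
      rw [← Over.comp_left, ← Over.comp_left, Category.assoc, Category.assoc, hcompat, hcompat, hab]
    rw [← P.map_sect hik, ← P.map_sect hjk, Pieces.map_map, Pieces.map_map, this]
  have hsub : ∀ (T : Over S) [CompactSpace T.left] (h : T ⟶ X), ∃ i, ∃ a : T ⟶ P.W i, a ≫ e i = h := by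
    intro T _ h
    have hdir : Directed (fun a b => a ⊆ b) fun i => Set.range (e i).left := fun i j => by
      obtain ⟨k, hik, hjk⟩ := P.directed i j
      refine ⟨k, ?_, ?_⟩
      · rintro _ ⟨z, rfl⟩; exact ⟨(P.map hik).left z, by rw [← hcompat hik]; rfl⟩
      · rintro _ ⟨z, rfl⟩; exact ⟨(P.map hjk).left z, by rw [← hcompat hjk]; rfl⟩
    have := P.nonempty
    obtain ⟨i, hi⟩ := (isCompact_range h.left.continuous).elim_directed_cover (fun i => Set.range (e i).left)
      (fun i => (e i).left.isOpenEmbedding.isOpen_range) (fun x _ => Set.mem_iUnion.2 (hcov x)) hdir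
    have := he i
    exact ⟨i, Over.homMk (IsOpenImmersion.lift (e i).left h.left hi) (by
      rw [← Over.w (e i), IsOpenImmersion.lift_fac_assoc]; exact Over.w h),
      Over.OverMorphism.ext (IsOpenImmersion.lift_fac _ _ _)⟩
  have hval : ∀ (i : ι) {T : Over S} (a : T ⟶ P.W i), F.map (a ≫ e i).op υ = F.map a.op (P.sect i) := fun i T a => by
    rw [← hυ i, Pieces.map_map]
  have hinjA : ∀ (T : Over S) [IsAffine T.left] (h h' : T ⟶ X), F.map h.op υ = F.map h'.op υ → h = h' := by
    intro T _ h h' hh
    obtain ⟨i, a, rfl⟩ := hsub T h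
    obtain ⟨j, b, rfl⟩ := hsub T h'
    obtain ⟨k, hik, hjk⟩ := P.directed i j
    rw [← hcompat hik, ← hcompat hjk, ← Category.assoc, ← Category.assoc] at hh ⊢
    rw [hval, hval] at hh
    rw [P.inj k T _ _ hh]
  have hinj : ∀ (T : Over S) (h h' : T ⟶ X), F.map h.op υ = F.map h'.op υ → h = h' := by
    intro T h h' hh
    refine Over.OverMorphism.ext (T.left.affineCover.hom_ext _ _ fun j => ?_)
    let U : Over S := Over.mk (T.left.affineCover.f j ≫ T.hom)
    let k : U ⟶ T := Over.homMk (T.left.affineCover.f j) rfl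
    have : IsAffine U.left := inferInstanceAs (IsAffine (T.left.affineCover.X j))
    exact congrArg (fun z => z.left) (hinjA U (k ≫ h) (k ≫ h') (by rw [← Pieces.map_map, hh, Pieces.map_map]))
  refine ⟨X, υ, e, fun T => ⟨fun h h' hh => hinj T h h' hh, fun s => ?_⟩, he, hυ, hcompat, hcov⟩
  let C : T.left.affineCover.I₀ → Over S := fun j => Over.mk (T.left.affineCover.f j ≫ T.hom)
  let p : ∀ j, C j ⟶ T := fun j => Over.homMk (T.left.affineCover.f j) rfl
  have hC : ∀ j, IsAffine (C j).left := fun j => inferInstanceAs (IsAffine (T.left.affineCover.X j))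
  have hloc : ∀ j, ∃ hj : C j ⟶ X, F.map hj.op υ = F.map (p j).op s := fun j => by
    have := hC j
    obtain ⟨i, a, ha⟩ := P.surj (C j) (F.map (p j).op s)
    exact ⟨a ≫ e i, (hval i a).trans ha⟩
  choose hj hhj using hloc
  have hcovT : ∀ x : T.left, ∃ j, x ∈ Set.range (p j).left := fun x => T.left.affineCover.exists_eq x
  obtain ⟨h, hh, -⟩ := isZariskiGluing_yoneda X T T.left.affineCover.I₀ C p (fun j => inferInstanceAs
    (IsOpenImmersion (T.left.affineCover.f j))) hcovT hj fun i j Z a b hab => by
      refine hinj Z (a ≫ hj i) (b ≫ hj j) ?_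
      rw [← Pieces.map_map, ← Pieces.map_map, hhj, hhj, Pieces.map_map, Pieces.map_map, hab]
  refine ⟨h, ?_⟩
  obtain ⟨t, -, huniq⟩ := P.gluing T T.left.affineCover.I₀ C p (fun j => inferInstanceAs
    (IsOpenImmersion (T.left.affineCover.f j))) hcovT (fun j => F.map (p j).op s) fun i j Z a b hab => by
      rw [Pieces.map_map, Pieces.map_map, hab]
  refine (huniq _ fun j => ?_).trans (huniq s fun j => rfl).symm
  rw [Pieces.map_map, ← hhj j]
  exact congrArg (fun z => F.map (Quiver.Hom.op z) υ) (hh j)

/-- a union of a directed family of affine opens is separated over an affine base -/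
theorem isSeparated_of_directed_affine {X : Over S} [IsAffine S] (W : ι → Over S) (e : ∀ i, W i ⟶ X)
    (he : ∀ i, IsOpenImmersion (e i).left) (hW : ∀ i, IsAffine (W i).left)
    (hcov : ∀ x y : X.left, ∃ i, x ∈ Set.range (e i).left ∧ y ∈ Set.range (e i).left) : IsSeparated X.hom := by
  constructor
  let f := X.hom
  let m : ∀ i, pullback (W i).hom (W i).hom ⟶ pullback f f := fun i =>
    pullback.map _ _ _ _ (e i).left (e i).left (𝟙 S) (by rw [Category.comp_id]; exact (Over.w (e i)).symm)
      (by rw [Category.comp_id]; exact (Over.w (e i)).symm)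
  have hm : ∀ i, IsOpenImmersion (m i) := fun i => by have := he i; infer_instance
  let 𝒰 : (pullback f f).OpenCover :=
    { I₀ := ι
      X := fun i => pullback (W i).hom (W i).hom
      f := m
      mem₀ := by
        rw [Scheme.presieve₀_mem_precoverage_iff]
        refine ⟨fun z => ?_, hm⟩
        obtain ⟨i, hx, hy⟩ := hcov (pullback.fst f f z) (pullback.snd f f z)
        refine ⟨i, ?_⟩
        have hr : z ∈ Set.range (pullback.map (W i).hom (W i).hom f f (e i).left (e i).left (𝟙 S)
            (by rw [Category.comp_id]; exact (Over.w (e i)).symm)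
            (by rw [Category.comp_id]; exact (Over.w (e i)).symm)) := by
          rw [Scheme.Pullback.range_map]
          exact ⟨hx, hy⟩
        exact hr }
  refine IsZariskiLocalAtTarget.of_openCover (P := @IsClosedImmersion) 𝒰 fun i => ?_
  have := he i
  have := hW i
  have hsq : IsPullback (e i).left (pullback.diagonal (W i).hom) (pullback.diagonal f) (m i) := by
    refine ⟨⟨pullback.hom_ext (by simp [m, pullback.diagonal]; exact (Category.id_comp _).symm)
      (by simp [m, pullback.diagonal]; exact (Category.id_comp _).symm)⟩,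
      ⟨PullbackCone.IsLimit.mk _ (fun s => s.snd ≫ pullback.fst _ _) (fun s => ?_) (fun s => ?_)
        (fun s k _ h2 => ?_)⟩⟩
    · have := congrArg (· ≫ pullback.fst f f) s.condition
      simp only [m, pullback.diagonal, Category.assoc, pullback.lift_fst, Category.comp_id] at this
      rw [this]
      exact Category.assoc _ _ _
    · have h1 := congrArg (· ≫ pullback.fst f f) s.condition
      have h2 := congrArg (· ≫ pullback.snd f f) s.condition
      simp only [m, pullback.diagonal, Category.assoc, pullback.lift_fst, pullback.lift_snd, Category.comp_id] at h1 h2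
      have heq : s.snd ≫ pullback.fst _ _ = s.snd ≫ pullback.snd _ _ := by
        rw [← cancel_mono (e i).left, Category.assoc, Category.assoc, ← h1, ← h2]
      refine pullback.hom_ext (by simp [pullback.diagonal]) ?_
      simp [pullback.diagonal, heq]
    · rw [← h2]; simp [pullback.diagonal]
  have hsep : IsClosedImmersion (pullback.diagonal (W i).hom) := IsSeparated.isClosedImmersion_diagonal
  exact (MorphismProperty.cancel_left_of_respectsIso @IsClosedImmersion hsq.isoPullback.hom _).mp
    (by change IsClosedImmersion (hsq.isoPullback.hom ≫ pullback.snd _ _); rwa [hsq.isoPullback_hom_snd])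

end Groth.Agent.H21Hom
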