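import Groth.Agent.H21Hom.MultTypeEtale
import Groth.Agent.H21Desc.HomTwConst
import Groth.Agent.H21Desc.HomBaseChange
import Groth.Agent.H21Diag.Conj
import Groth.Agent.H21Diag.MonoLocus
import Groth.Agent.S5268
import Groth.Agent.S9812

/-!
Over a normal irreducible base, homomorphisms between groups of multiplicative type and finite type defined over a
non-empty open subset extend to the whole base.
-/

set_option autoImplicit false
set_option linter.style.haveILetI false
set_option backward.isDefEq.respectTransparency false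

universe u

open CategoryTheory MonoidalCategory CartesianMonoidalCategory MonObj GrpObj AlgebraicGeometry
open CategoryTheory.Limits
open Groth.Agent.H21Desc

namespace Groth.Agent.H21Hom

/-- connected components of etale schemes over geometrically unibranch schemes are irreducible -/
theorem isPreirreducible_connectedComponent {S P : Scheme.{u}} [IsLocallyNoetherian S] (f : P ⟶ S) [Etale f]
    (hS : ∀ s : S, CAlg2.IsGeomUnibranch (S.presheaf.stalk s)) (x : P) :
    IsPreirreducible (connectedComponent x) := by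
  haveI : IsLocallyNoetherian P := LocallyOfFiniteType.isLocallyNoetherian f
  have hdisj := (Groth.Agent.S2279.result P).mpr fun y => isPrime_nilradical_stalk f y (hS _)
  have hlf := Groth.Agent.H17.NagataNorm.locallyFinite_irreducibleComponents P
  let Z := irreducibleComponent x
  have hZ : Z ∈ irreducibleComponents P := irreducibleComponent_mem_irreducibleComponents x
  have hopen : IsOpen Z := by
    rw [← isClosed_compl_iff]
    have : Zᶜ = ⋃ W : {W : irreducibleComponents P // W.1 ≠ Z}, W.1.1 := by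
      ext y
      simp only [Set.mem_compl_iff, Set.mem_iUnion]
      constructor
      · intro hy
        exact ⟨⟨⟨irreducibleComponent y, irreducibleComponent_mem_irreducibleComponents y⟩,
          fun h => hy (h ▸ mem_irreducibleComponent)⟩, mem_irreducibleComponent⟩
      · rintro ⟨⟨W, hW⟩, hyW⟩ hy
        exact Set.disjoint_left.mp (hdisj W.2 hZ hW) hyW hy
    rw [this]
    exact (hlf.comp_injective Subtype.val_injective).isClosed_iUnion fun W =>
      isClosed_of_mem_irreducibleComponents _ W.1.2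
  have hcomp : connectedComponent x = Z :=
    Set.Subset.antisymm (IsClopen.connectedComponent_subset ⟨isClosed_irreducibleComponent, hopen⟩ mem_irreducibleComponent)
      (hZ.1.isConnected.subset_connectedComponent mem_irreducibleComponent)
  rw [hcomp]
  exact hZ.1.isPreirreducible

/-- a finite etale morphism to a connected scheme which is an isomorphism over a non-empty open is one -/
theorem isIso_of_finite_etale {C S : Scheme.{u}} (h : C ⟶ S) [IsFinite h] [Etale h] [PreconnectedSpace S]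
    (U : S.Opens) (hU : (U : Set S).Nonempty) [IsIso (h ∣_ U)] : IsIso h := by
  let p : pullback h h ⟶ S := pullback.fst h h ≫ h
  let Δ := pullback.diagonal h
  let Z : Set ↥(pullback h h) := (Set.range Δ)ᶜ
  have hZo : IsOpen Z := Δ.isClosedEmbedding.isClosed_range.isOpen_compl
  have hZc : IsClosed Z := Δ.isOpenEmbedding.isOpen_range.isClosed_compl
  have hZU : ∀ w ∈ Z, p w ∉ U := fun w hw hwU => by
    let W : (pullback h h).Opens := p ⁻¹ᵁ U
    have hr : ∀ q : pullback h h ⟶ C, q ≫ h = p → Set.range (W.ι ≫ q) ⊆ Set.range (h ⁻¹ᵁ U).ι := by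
      rintro q hq _ ⟨z, rfl⟩
      rw [Scheme.Opens.range_ι]
      change h (q (W.ι z)) ∈ U
      rw [← Scheme.Hom.comp_apply, hq]
      exact z.2
    let a := IsOpenImmersion.lift (h ⁻¹ᵁ U).ι (W.ι ≫ pullback.fst h h) (hr _ rfl)
    let b := IsOpenImmersion.lift (h ⁻¹ᵁ U).ι (W.ι ≫ pullback.snd h h) (hr _ pullback.condition.symm)
    have hab : a = b := by
      rw [← cancel_mono (h ∣_ U), ← cancel_mono U.ι]
      simp only [Category.assoc, morphismRestrict_ι, a, b, IsOpenImmersion.lift_fac_assoc, pullback.condition]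
    have e1 : W.ι ≫ pullback.fst h h = W.ι ≫ pullback.snd h h := by
      rw [← IsOpenImmersion.lift_fac (h ⁻¹ᵁ U).ι (W.ι ≫ pullback.fst h h) (hr _ rfl),
        ← IsOpenImmersion.lift_fac (h ⁻¹ᵁ U).ι (W.ι ≫ pullback.snd h h) (hr _ pullback.condition.symm)]
      exact congrArg (· ≫ _) hab
    have e2 : W.ι = (W.ι ≫ pullback.fst h h) ≫ Δ := by
      apply pullback.hom_ext <;> simp [Δ, e1]
    refine hw ⟨pullback.fst h h w, ?_⟩
    exact (congrArg (fun k : (W : Scheme.{u}) ⟶ pullback h h => k ⟨w, hwU⟩) e2).symm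
  obtain ⟨s₀, hs₀⟩ := hU
  have hpZ : p '' Z = ∅ := by
    have hcl : IsClopen (p '' Z) := ⟨p.isClosedMap _ hZc, p.isOpenMap _ hZo⟩
    rcases isClopen_iff.mp hcl with h0 | h0
    · exact h0
    · obtain ⟨w, hw, hws⟩ := h0 ▸ Set.mem_univ s₀
      exact absurd (hws ▸ hs₀) (hZU w hw)
  haveI : Surjective Δ := ⟨fun w => by
    by_contra hw
    have : p w ∈ p '' Z := ⟨w, hw, rfl⟩
    rw [hpZ] at this
    exact this⟩
  haveI : IsIso Δ := H21Diag.isIso_of_flat_surjective_mono Δ
  haveI : Mono h := (pullback.isIso_diagonal_iff h).mp ‹_›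
  haveI : Surjective h := ⟨Set.range_eq_univ.mp (by
    have hcl : IsClopen (Set.range h) := ⟨h.isClosedMap.isClosed_range, h.isOpenMap.isOpen_range⟩
    refine hcl.eq_univ ⟨s₀, ?_⟩
    obtain ⟨z, hz⟩ := (h ∣_ U).surjective ⟨s₀, hs₀⟩
    exact ⟨z.1, (Scheme.Hom.comp_apply (h ⁻¹ᵁ U).ι h z).symm.trans
      ((congrArg (fun k : (h ⁻¹ᵁ U : Scheme.{u}) ⟶ S => k z) (morphismRestrict_ι h U).symm).trans
        ((Scheme.Hom.comp_apply (h ∣_ U) U.ι z).trans (congrArg U.ι hz)))⟩)⟩
  exact H21Diag.isIso_of_flat_surjective_mono h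

variable {S : Scheme.{u}}

/-- sections over a non-empty open of twisted constant schemes extend over a normal irreducible base -/
theorem exists_section_extend [IsLocallyNoetherian S] [PreirreducibleSpace S]
    (hS : ∀ s : S, CAlg2.IsGeomUnibranch (S.presheaf.stalk s))
    (P : Over S) (hP : TwC.IsTwConst TwC.Topology.etale P) [IsSeparated P.hom] (U : S.Opens)
    (hU : (U : Set S).Nonempty) (σ : (U : Scheme.{u}) ⟶ P.left) (hσ : σ ≫ P.hom = U.ι) :
    ∃ τ : S ⟶ P.left, τ ≫ P.hom = 𝟙 S ∧ U.ι ≫ τ = σ := by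
  haveI : Etale P.hom := S5268.etale_of_isTwConst P hP
  obtain ⟨u₀, hu₀⟩ := hU
  let x := σ ⟨u₀, hu₀⟩
  obtain ⟨C, hC, hfin⟩ := S5268.result hS P hP x
  have hirr : IsPreirreducible (C : Set P.left) := hC ▸ isPreirreducible_connectedComponent P.hom hS x
  haveI : PreirreducibleSpace U := Subtype.preirreducibleSpace
    (PreirreducibleSpace.isPreirreducible_univ.open_subset U.2 (Set.subset_univ _))
  have hσC : Set.range σ ⊆ Set.range C.ι := by
    rw [Scheme.Opens.range_ι, hC]
    exact (isPreconnected_range σ.continuous).subset_connectedComponent ⟨_, rfl⟩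
  let s₁ := IsOpenImmersion.lift C.ι σ hσC
  have hs₁ : s₁ ≫ C.ι = σ := IsOpenImmersion.lift_fac _ _ _
  let h := C.ι ≫ P.hom
  haveI : IsFinite h := hfin
  haveI : Etale h := inferInstanceAs (Etale (C.ι ≫ P.hom))
  have hs₁h : s₁ ≫ h = U.ι := by rw [← hσ, ← hs₁, Category.assoc]
  have hs₁U : Set.range s₁ ⊆ Set.range (h ⁻¹ᵁ U).ι := by
    rintro _ ⟨z, rfl⟩
    rw [Scheme.Opens.range_ι]
    change h (s₁ z) ∈ U
    rw [← Scheme.Hom.comp_apply, hs₁h]
    exact z.2
  let s := IsOpenImmersion.lift (h ⁻¹ᵁ U).ι s₁ hs₁U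
  have hs : s ≫ (h ⁻¹ᵁ U).ι = s₁ := IsOpenImmersion.lift_fac _ _ _
  have hsh : s ≫ (h ∣_ U) = 𝟙 _ := by
    rw [← cancel_mono U.ι, Category.assoc, morphismRestrict_ι, reassoc_of% hs, hs₁h, Category.id_comp]
  haveI : Etale (h ∣_ U) := IsZariskiLocalAtTarget.restrict ‹Etale h› U
  haveI : Etale s := by
    haveI : Etale (s ≫ (h ∣_ U)) := by rw [hsh]; infer_instance
    exact Etale.of_comp s (h ∣_ U)
  haveI : IsClosedImmersion s := by
    haveI : IsClosedImmersion (s ≫ (h ∣_ U)) := by rw [hsh]; infer_instance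
    exact IsClosedImmersion.of_comp s (h ∣_ U)
  haveI : PreirreducibleSpace C := Subtype.preirreducibleSpace hirr
  haveI : PreirreducibleSpace (h ⁻¹ᵁ U) := Subtype.preirreducibleSpace
    (PreirreducibleSpace.isPreirreducible_univ.open_subset (h ⁻¹ᵁ U).2 (Set.subset_univ _))
  haveI : Surjective s := ⟨Set.range_eq_univ.mp
    (IsClopen.eq_univ ⟨s.isClosedEmbedding.isClosed_range, s.isOpenMap.isOpen_range⟩ ⟨_, ⟨u₀, hu₀⟩, rfl⟩)⟩
  haveI : Mono s := mono_of_mono_fac hsh
  haveI : IsIso s := H21Diag.isIso_of_flat_surjective_mono s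
  haveI : IsIso (s ≫ (h ∣_ U)) := by rw [hsh]; infer_instance
  haveI : IsIso (h ∣_ U) := IsIso.of_isIso_comp_left s (h ∣_ U)
  haveI : IsIso h := isIso_of_finite_etale h U ⟨u₀, hu₀⟩
  refine ⟨inv h ≫ C.ι, by rw [Category.assoc]; exact IsIso.inv_hom_id h, ?_⟩
  rw [← hs₁, ← Category.assoc]
  congr 1
  rw [← cancel_mono h, Category.assoc, IsIso.inv_hom_id, Category.comp_id, hs₁h]

/-- homomorphisms between groups of multiplicative type and finite type form a separated twisted constant scheme -/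
theorem exists_representsHom_multTypeFT (G T : Over S) [GrpObj G] [GrpObj T] (hG : SGA3x.IsMultTypeFT G)
    (hT : SGA3x.IsMultTypeFT T) :
    ∃ (A : Over S) (υ : G ⊗ A ⟶ T), AutFam.RepresentsHom G T A υ ∧ TwC.IsTwConst TwC.Topology.etale A ∧
      IsSeparated A.hom := by
  have key : ∀ s : S, ∃ (V : Scheme.{u}) (g : V ⟶ S) (I : Type u)
      (υ : Red.bc g G ⊗ TwC.const V I ⟶ Red.bc g T), Etale g ∧ s ∈ Set.range g.base ∧
        AutFam.RepresentsHom (Red.bc g G) (Red.bc g T) (TwC.const V I) υ := fun s => by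
    obtain ⟨V, g, hg, ⟨v, hv⟩, M, _, hM, ⟨e⟩⟩ := exists_etale_chart_multTypeFT G hG s
    obtain ⟨W, k, hk, ⟨w, hw⟩, M', _, hM', ⟨e'⟩⟩ := exists_etale_chart_multTypeFT T hT s
    haveI := hg
    haveI := hk
    haveI := hM'
    obtain ⟨z, hz, -⟩ := Scheme.Pullback.exists_preimage_pullback (f := g) (g := k) v w (hv.trans hw.symm)
    obtain ⟨ν, hν⟩ := exists_representsHom_chart (pullback.fst g k ≫ g) (chartComp (pullback.fst g k) g e)
      (H21Diag.bcCongrIso pullback.condition T ≪≫ chartComp (pullback.snd g k) k e')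
    exact ⟨_, pullback.fst g k ≫ g, _, ν, inferInstance,
      ⟨z, by rw [Scheme.Hom.comp_apply, hz]; exact hv⟩, hν⟩
  choose V g I υ hg hs hυ using key
  have : ∀ s, Flat (g s) := fun s => by have := hg s; infer_instance
  have : ∀ s, LocallyOfFinitePresentation (g s) := fun s => by have := hg s; infer_instance
  obtain ⟨A, υ₀, h₁, h₂, hP⟩ := exists_representsHom_of_cover (g := g) (A := fun s => TwC.const (V s) (I s))
    (fun s => ⟨s, hs s⟩) hυ (fun D hD => by
      have : Flat (Sigma.desc g) := IsZariskiLocalAtSource.sigmaDesc (P := @Flat) inferInstance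
      have : LocallyOfFinitePresentation (Sigma.desc g) :=
        IsZariskiLocalAtSource.sigmaDesc (P := @LocallyOfFinitePresentation) inferInstance
      have : Surjective (Sigma.desc g) := ⟨fun s => by
        obtain ⟨y, hy⟩ := hs s
        exact ⟨Sigma.ι V s y, by rw [← Scheme.Hom.comp_apply, Sigma.ι_desc]; exact hy⟩⟩
      have : Etale D.obj.hom := hD @Etale fun s => etale_const _ _
      have : IsSeparated D.obj.hom := hD @IsSeparated fun s => isSeparated_const _ _
      exact H13Desc.Eff.isEffective_lqf (Sigma.desc g) D)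
  have : MorphismProperty.DescendsAlong @IsSeparated (@Surjective ⊓ @Flat ⊓ @QuasiCompact : MorphismProperty Scheme.{u}) :=
    H18Descent.isSeparated_descends_fpqc
  exact ⟨A, υ₀, h₁, fun s => ⟨V s, g s, hg s, hs s, I s, h₂ s⟩, hP @IsSeparated fun s => isSeparated_const _ _⟩

/-- homomorphisms of groups of multiplicative type and finite type extend over a normal irreducible base -/
theorem exists_hom_extend_of_normal [IsLocallyNoetherian S] [PreirreducibleSpace S]
    (hS : ∀ s : S, CAlg2.IsGeomUnibranch (S.presheaf.stalk s))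
    (G T : Over S) [GrpObj G] [GrpObj T] (hG : SGA3x.IsMultTypeFT G) (hT : SGA3x.IsMultTypeFT T)
    (U : S.Opens) (hU : (U : Set S).Nonempty)
    (φ : Red.bc U.ι G ⟶ Red.bc U.ι T) [IsMonHom φ] :
    ∃ f : G ⟶ T, IsMonHom f ∧ (Over.pullback U.ι).map f = φ := by
  obtain ⟨A, υ, hυ, hA, hAs⟩ := exists_representsHom_multTypeFT G T hG hT
  have hbc := representsHom_bc (p := U.ι) hυ
  obtain ⟨a, ha, -⟩ := hbc.2 (𝟙_ (Over (U : Scheme.{u}))) (fst (Red.bc U.ι G) _ ≫ φ) fun X g₁ g₂ t => by
    simp only [lift_fst_assoc, MonObj.mul_comp]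
  obtain ⟨τ, hτ, hτU⟩ := exists_section_extend hS A hA U hU (tr a).left
    ((Over.w (tr a)).trans (Category.id_comp U.ι))
  let σ : 𝟙_ (Over S) ⟶ A := Over.homMk τ hτ
  let f : G ⟶ T := lift (𝟙 G) (toUnit G ≫ σ) ≫ υ
  have hf : ∀ {X : Over S} (g : X ⟶ G), g ≫ f = lift g (toUnit X ≫ σ) ≫ υ := fun g => by
    rw [comp_lift_assoc, Category.comp_id, ← Category.assoc, comp_toUnit]
  refine ⟨f, H21Diag.isMonHom_of_mul f fun g g' => by rw [hf, hf, hf]; exact hυ.1 _ _ _ _, ?_⟩
  have hφ : φ = lift (𝟙 (Red.bc U.ι G)) (toUnit _ ≫ a) ≫ bcFam U.ι υ := by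
    have := congrArg (lift (𝟙 (Red.bc U.ι G)) (toUnit _) ≫ ·) ha
    simp only [lift_whiskerLeft_assoc, lift_fst_assoc, Category.id_comp] at this
    exact this.symm
  rw [hφ]
  apply tr_injective
  have e : tr ((Over.pullback U.ι).map f) = tr (𝟙 (Red.bc U.ι G)) ≫ f := by
    conv_lhs => rw [← Category.id_comp ((Over.pullback U.ι).map f)]
    exact (Over.mapPullbackAdj U.ι).homEquiv_naturality_right_symm _ _
  rw [e, hf, tr_lift_bcFam, tr_comp]
  congr 2
  refine Over.OverMorphism.ext ?_
  change ((Over.map U.ι).obj (Red.bc U.ι G)).hom ≫ τ = (Red.bc U.ι G).hom ≫ (tr a).left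
  rw [← hτU]
  exact Category.assoc _ _ _

end Groth.Agent.H21Hom
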