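import Groth.Agent.H21Hom.Bridge
import Groth.Agent.H20Comod.Primitive
import Groth.Agent.H19Mult.TorsionFill

/-!
Commutative extensions of groups of multiplicative type over a field.
-/

set_option autoImplicit false
set_option maxHeartbeats 1000000
set_option linter.style.haveILetI false
set_option backward.isDefEq.respectTransparency false
set_option synthInstance.maxHeartbeats 400000

universe u

open TensorProduct WithConv

namespace Groth.Agent.H21Hom

variable {k : Type u} [Field k]

/-- group algebras over fields have no primitives -/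
theorem primitive_monoidAlgebra_eq_zero {N : Type u} [CommGroup N] (v : MonoidAlgebra k N)
    (h : Coalgebra.comul (R := k) v = v ⊗ₜ[k] (1 : MonoidAlgebra k N) + (1 : MonoidAlgebra k N) ⊗ₜ[k] v) :
    v = 0 := by
  classical
  let cf : N → (MonoidAlgebra k N →ₗ[k] k) := fun m => H19Mult.coefL m
  have hco : ∀ (m : N) (w : MonoidAlgebra k N),
      TensorProduct.lid k k (TensorProduct.map (cf m) (cf m) (Coalgebra.comul (R := k) w)) = cf m w := by
    intro m w
    induction w using MonoidAlgebra.induction_linear with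
    | zero => simp
    | add a b ha hb => simp only [map_add, ha, hb]
    | single l r =>
      rw [MonoidAlgebra.comul_single, CommSemiring.comul_apply]
      by_cases hl : l = m <;> simp [cf, H19Mult.coefL_single, hl]
  refine H19Mult.ext_coef fun m => ?_
  rw [map_zero]
  have h1 := congrArg (fun z => TensorProduct.lid k k (TensorProduct.map (cf m) (cf m) z)) h
  simp only [hco, map_add, TensorProduct.map_tmul, TensorProduct.lid_tmul, smul_eq_mul] at h1
  have hone : cf m (1 : MonoidAlgebra k N) = if (1 : N) = m then 1 else 0 := by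
    simp [cf, MonoidAlgebra.one_def, H19Mult.coefL_single, eq_comm]
  rw [hone] at h1
  by_cases hm : (1 : N) = m
  · simp only [if_pos hm, _root_.mul_one, _root_.one_mul] at h1
    exact add_eq_left.mp h1.symm
  · simpa [if_neg hm] using h1

variable {A : Type u} [CommRing A] [HopfAlgebra k A]

/-- groups of multiplicative type have no additive characters -/
theorem primitive_eq_zero_of_isMultType (h : SGA3b.IsMultType k A) (f : A)
    (hf : Coalgebra.comul (R := k) f = f ⊗ₜ[k] (1 : A) + (1 : A) ⊗ₜ[k] f) : f = 0 := by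
  obtain ⟨R', _, _, -, ⟨q, -⟩, M, _, ⟨e⟩⟩ := H19Mult.exists_chart h ⟨⊥, Ideal.isPrime_bot⟩
  obtain ⟨P, hP, -⟩ := Ideal.exists_le_maximal q.asIdeal q.isPrime.ne_top
  letI : Field (R' ⧸ P) := Ideal.Quotient.field P
  let K := R' ⧸ P
  obtain ⟨eK⟩ := H19Mult.isDiag_baseChange e K
  have h1 : eK ((1 : K) ⊗ₜ[k] f) = 0 := by
    refine primitive_monoidAlgebra_eq_zero _ ?_
    rw [← CoalgHomClass.map_comp_comul_apply eK, TensorProduct.comul_tmul, CommSemiring.comul_apply, hf,
      TensorProduct.tmul_add, map_add, map_add, TensorProduct.AlgebraTensorModule.tensorTensorTensorComm_tmul,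
      TensorProduct.AlgebraTensorModule.tensorTensorTensorComm_tmul]
    simp only [TensorProduct.map_tmul, ← Algebra.TensorProduct.one_def]
    show eK ((1 : K) ⊗ₜ[k] f) ⊗ₜ[K] eK (1 : K ⊗[k] A) + eK (1 : K ⊗[k] A) ⊗ₜ[K] eK ((1 : K) ⊗ₜ[k] f) = _
    rw [map_one]
  have h2 := (map_eq_zero_iff eK (EquivLike.injective eK)).1 h1
  refine (Algebra.TensorProduct.includeRight_injective (A := K) (B := A)
    (RingHom.injective (algebraMap k K))) ?_
  show (1 : K) ⊗ₜ[k] f = (1 : K) ⊗ₜ[k] (0 : A)
  rw [h2, TensorProduct.tmul_zero]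

/-- multiplicative type from the absence of additive characters -/
theorem isMultType_of_no_primitive [Coalgebra.IsCocomm k A]
    (hP : ∀ f : A, CoalgebraStruct.comul (R := k) f = f ⊗ₜ[k] (1 : A) + (1 : A) ⊗ₜ[k] f → f = 0) :
    SGA3b.IsMultType k A := by
  classical
  let K := AlgebraicClosure k
  have hD : HopfRep.IsDiagonalizable K (K ⊗[k] A) :=
    H20Comod.isDiagonalizable_of_forall_primitive (H20Comod.forall_primitive_baseChange hP)
  let B := K ⊗[k] A
  let N := GroupLike K B
  let g : MonoidAlgebra K N →ₐc[K] B := H19Mult.glHom (MonoidHom.id N)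
  have hg : Function.Bijective g := by
    refine ⟨?_, fun b => ?_⟩
    · have hli : LinearIndependent K (fun n : N => n.val) :=
        ((linearIndependent_equiv GroupLike.valEquiv).2 linearIndepOn_isGroupLikeElem : _)
      refine (injective_iff_map_eq_zero g).2 fun x hx => ?_
      have hsum : g x = Finsupp.linearCombination K (fun n : N => n.val) x.coeff := by
        clear hx
        induction x using MonoidAlgebra.induction_linear with
        | zero => simp
        | add a b ha hb => rw [map_add, MonoidAlgebra.coeff_add, map_add, ha, hb]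
        | single n r => simp [g, MonoidAlgebra.coeff_single]; rfl
      rw [hsum] at hx
      exact MonoidAlgebra.coeff_eq_zero.1 (linearIndependent_iff.1 hli _ hx)
    · have hb : b ∈ Submodule.span K {a : B | IsGroupLikeElem K a} := by rw [hD]; trivial
      induction hb using Submodule.span_induction with
      | mem a ha => exact ⟨MonoidAlgebra.single ⟨a, ha⟩ 1, by simp [g]; rfl⟩
      | zero => exact ⟨0, map_zero g⟩
      | add a c _ _ ha hc =>
        obtain ⟨a', rfl⟩ := ha
        obtain ⟨c', rfl⟩ := hc
        exact ⟨a' + c', map_add g _ _⟩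
      | smul r a _ ha =>
        obtain ⟨a', rfl⟩ := ha
        exact ⟨r • a', map_smul g r a'⟩
  refine H19Mult.isMultType_of_charts (R := k) (fun _ : Fin 1 => K) (fun q => ⟨0, default, Subsingleton.elim _ _⟩)
    fun _ => ⟨N, inferInstance, ⟨(BialgEquiv.ofBijective g hg).symm⟩⟩

/-- functions agreeing on both factors come from the base -/
theorem mem_range_of_tmul_eq {B C : Type u} [CommRing B] [CommRing C] [Algebra B C] [Module.FaithfullyFlat B C]
    (f : C) (hf : f ⊗ₜ[B] (1 : C) = (1 : C) ⊗ₜ[B] f) : f ∈ (algebraMap B C).range := by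
  let q := (LinearMap.range (Algebra.linearMap B C)).mkQ
  have h1 : (1 : C) ⊗ₜ[B] q f = 0 := by
    have h := congrArg (TensorProduct.map (LinearMap.id : C →ₗ[B] C) q) hf
    rw [TensorProduct.map_tmul, TensorProduct.map_tmul, LinearMap.id_apply, LinearMap.id_apply,
      show q 1 = 0 from (Submodule.Quotient.mk_eq_zero _).2 ⟨1, map_one (algebraMap B C)⟩,
      TensorProduct.tmul_zero] at h
    exact h.symm
  have h2 : q f = 0 := by
    refine (Module.FaithfullyFlat.tensorProduct_mk_injective (A := B) (B := C) _) ?_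
    show (1 : C) ⊗ₜ[B] q f = (1 : C) ⊗ₜ[B] (0 : C ⧸ LinearMap.range (Algebra.linearMap B C))
    rw [h1, TensorProduct.tmul_zero]
  exact (Submodule.Quotient.mk_eq_zero _).1 h2

variable {A' A'' : Type u} [CommRing A'] [HopfAlgebra k A'] [CommRing A''] [HopfAlgebra k A'']

/-- an extension of groups of multiplicative type has no additive characters -/
theorem no_primitive_of_extension (h' : SGA3b.IsMultType k A') (h'' : SGA3b.IsMultType k A'')
    (π : A'' →ₐc[k] A) (ψ : A →ₐc[k] A')
    (hflat : (π : A'' →ₐ[k] A).toRingHom.Flat)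
    (hsurj : Function.Surjective (PrimeSpectrum.comap (π : A'' →ₐ[k] A).toRingHom))
    (hker : ∀ (D : Type u) [CommRing D] [Algebra k D] (x : A →ₐ[k] D),
      toConv (x.comp (π : A'' →ₐ[k] A)) = 1 → ∃ h : A' →ₐ[k] D, h.comp (ψ : A →ₐ[k] A') = x)
    (f : A) (hf : Coalgebra.comul (R := k) f = f ⊗ₜ[k] (1 : A) + (1 : A) ⊗ₜ[k] f) : f = 0 := by
  letI : Algebra A'' A := (π : A'' →ₐ[k] A).toRingHom.toAlgebra
  haveI : IsScalarTower k A'' A := IsScalarTower.of_algebraMap_eq fun r => ((π : A'' →ₐ[k] A).commutes r).symm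
  haveI : Module.Flat A'' A := hflat
  haveI : Module.FaithfullyFlat A'' A := Module.FaithfullyFlat.of_comap_surjective hsurj
  let D := A ⊗[A''] A
  let x : A →ₐ[k] D := (Algebra.TensorProduct.includeLeft : A →ₐ[A''] D).restrictScalars k
  let y : A →ₐ[k] D := (Algebra.TensorProduct.includeRight : A →ₐ[A''] D).restrictScalars k
  have hxy : x.comp (π : A'' →ₐ[k] A) = y.comp (π : A'' →ₐ[k] A) := AlgHom.ext fun b =>
    Algebra.TensorProduct.tmul_one_eq_one_tmul (R := A'') (A := A) (B := A) b
  let xi : WithConv (A →ₐ[k] D) := toConv (x.comp (HopfAlgebra.antipodeAlgHom k A))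
  have hxi : xi * toConv x = 1 := by
    refine WithConv.ofConv_injective ?_
    have h1 := AlgHom.comp_convMul_distrib x (toConv (HopfAlgebra.antipodeAlgHom k A)) (toConv (AlgHom.id k A))
    rw [AlgHom.antipode_id_cancel] at h1
    refine h1.symm.trans (AlgHom.ext fun c => ?_)
    show x (algebraMap k A (Coalgebra.counit (R := k) c)) = algebraMap k D (Coalgebra.counit (R := k) c)
    exact x.commutes _
  have hxi' : toConv x * xi = 1 := by
    have hid : toConv (AlgHom.id k A) * toConv (HopfAlgebra.antipodeAlgHom k A) = 1 := by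
      apply WithConv.ofConv_injective
      apply AlgHom.toLinearMap_injective
      apply WithConv.toConv_injective
      rw [AlgHom.toLinearMap_convMul, AlgHom.toLinearMap_convOne]
      simp [LinearMap.id_mul_antipode]
    refine WithConv.ofConv_injective ?_
    have h1 := AlgHom.comp_convMul_distrib x (toConv (AlgHom.id k A)) (toConv (HopfAlgebra.antipodeAlgHom k A))
    rw [hid] at h1
    refine h1.symm.trans (AlgHom.ext fun c => ?_)
    show x (algebraMap k A (Coalgebra.counit (R := k) c)) = algebraMap k D (Coalgebra.counit (R := k) c)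
    exact x.commutes _
  let z : WithConv (A →ₐ[k] D) := toConv y * xi
  have hzπ : toConv (z.ofConv.comp (π : A'' →ₐ[k] A)) = 1 := by
    have h1 := AlgHom.convMul_comp_bialgHom_distrib (toConv y) xi π
    have h2 := AlgHom.convMul_comp_bialgHom_distrib (toConv x) xi π
    rw [hxi'] at h2
    have h1' := congrArg toConv h1
    have h2' := congrArg toConv h2
    rw [toConv_ofConv] at h1' h2'
    refine h1'.trans ?_
    have h3 : toConv ((toConv y).ofConv.comp (π : A'' →ₐ[k] A)) = toConv ((toConv x).ofConv.comp (π : A'' →ₐ[k] A)) :=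
      congrArg toConv hxy.symm
    rw [h3]
    show toConv ((toConv x).ofConv.comp (π : A'' →ₐ[k] A)) * toConv (xi.ofConv.comp (π : A'' →ₐ[k] A)) = 1
    refine h2'.symm.trans ?_
    refine WithConv.ofConv_injective (AlgHom.ext fun c => ?_)
    show algebraMap k D (Coalgebra.counit (R := k) (π c)) = algebraMap k D (Coalgebra.counit (R := k) c)
    rw [CoalgHomClass.counit_comp_apply]
  obtain ⟨h, hh⟩ := hker D z.ofConv hzπ
  have hψ : ψ f = 0 := primitive_eq_zero_of_isMultType h' (ψ f) (by
    rw [← CoalgHomClass.map_comp_comul_apply ψ f, hf, map_add, TensorProduct.map_tmul, TensorProduct.map_tmul]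
    show ψ f ⊗ₜ[k] ψ 1 + ψ 1 ⊗ₜ[k] ψ f = _
    rw [map_one])
  have hz0 : z.ofConv f = 0 := by
    rw [← hh]
    show h (ψ f) = 0
    rw [hψ, map_zero]
  have hyf : y f = x f := by
    have h1 : toConv y = z * toConv x := by
      show _ = toConv y * xi * toConv x
      rw [mul_assoc, hxi, mul_one]
    have h2 := congrArg (fun w : WithConv (A →ₐ[k] D) => w.ofConv f) h1
    refine h2.trans ?_
    show (z * toConv x) f = _
    rw [AlgHom.convMul_apply, hf]
    simp [hz0]
  obtain ⟨g, hg⟩ := mem_range_of_tmul_eq (B := A'') (C := A) f hyf.symm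
  have hinj : Function.Injective (π : A'' →ₐ[k] A) := FaithfulSMul.algebraMap_injective A'' A
  have hπ : π g = f := hg
  subst hπ
  have hgp : Coalgebra.comul (R := k) g = g ⊗ₜ[k] (1 : A'') + (1 : A'') ⊗ₜ[k] g := by
    refine TensorProduct.map_injective_of_flat_flat (R := k)
      ((π : A'' →ₐ[k] A).toLinearMap) ((π : A'' →ₐ[k] A).toLinearMap) hinj hinj ?_
    refine (CoalgHomClass.map_comp_comul_apply π g).trans ?_
    rw [hf, map_add, TensorProduct.map_tmul, TensorProduct.map_tmul]
    show _ = π g ⊗ₜ[k] π 1 + π 1 ⊗ₜ[k] π g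
    rw [map_one]
  rw [primitive_eq_zero_of_isMultType h'' g hgp, map_zero]

end Groth.Agent.H21Hom
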