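import Groth.Agent.H21Hom.LinCoord
import Groth.Agent.H21Diag.IntegrateHom
import Groth.Prelude.Def_AutFam

/-!
Families of homomorphisms of a diagonalisable group into a group with linear coordinates.
-/

set_option autoImplicit false
set_option maxHeartbeats 1000000
set_option backward.isDefEq.respectTransparency false

universe u

open CategoryTheory MonoidalCategory CartesianMonoidalCategory MonObj GrpObj AlgebraicGeometry
open CategoryTheory.Limits Groth.Agent.H21Diag

namespace Groth.Agent.H21Hom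

variable {R : Type u} [CommRing R] {H G : Over (Spec (CommRingCat.of R))} [GrpObj H] [GrpObj G]
  {M : Type} [AddCommGroup M] (Q : Pres H (RingHom.id R) M) {n : ℕ} (L : LinCoord G n)

/-- the point of a character -/
noncomputable def cpt {D : Type u} [CommRing D] (g : R →+* D) (χ : Multiplicative M →* D) : Tst g ⟶ H := Q.pt g χ

theorem tst_cpt {D D' : Type u} [CommRing D] [CommRing D'] (f : D →+* D') {g : R →+* D} {g' : R →+* D'}
    (h : f.comp g = g') (χ : Multiplicative M →* D) :
    tst f h ≫ cpt Q g χ = cpt Q g' (f.toMonoidHom.comp χ) := by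
  subst h
  exact Q.pt_nat f g χ

section alg

variable (A : Type u) [CommRing A] (M)

/-- the ring of functions on the group over `A` -/
abbrev GA := MonoidAlgebra A (Multiplicative M)

/-- the ring of functions on the square of the group over `A` -/
abbrev GA₂ := MonoidAlgebra A (Multiplicative M × Multiplicative M)

variable {M} {A}

/-- the comultiplication -/
noncomputable abbrev dg : GA M A →+* GA₂ M A :=
  MonoidAlgebra.mapDomainRingHom A ((MonoidHom.id (Multiplicative M)).prod (MonoidHom.id _))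

/-- the first inclusion -/
noncomputable abbrev inc₁ : GA M A →+* GA₂ M A :=
  MonoidAlgebra.mapDomainRingHom A (MonoidHom.inl (Multiplicative M) (Multiplicative M))

/-- the second inclusion -/
noncomputable abbrev inc₂ : GA M A →+* GA₂ M A :=
  MonoidAlgebra.mapDomainRingHom A (MonoidHom.inr (Multiplicative M) (Multiplicative M))

/-- the scalars -/
noncomputable abbrev sc (g : R →+* A) : R →+* GA M A := MonoidAlgebra.singleOneRingHom.comp g

/-- the scalars on the square -/
noncomputable abbrev sc₂ (g : R →+* A) : R →+* GA₂ M A := MonoidAlgebra.singleOneRingHom.comp g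

theorem mapDomain_comp_single {N N' : Type} [Monoid N] [Monoid N'] (F : N →* N') :
    (MonoidAlgebra.mapDomainRingHom A F).comp MonoidAlgebra.singleOneRingHom = MonoidAlgebra.singleOneRingHom :=
  RingHom.ext fun a => by simp

theorem mapDomain_comp_sc {N N' : Type} [Monoid N] [Monoid N'] (g : R →+* A) (F : N →* N') :
    (MonoidAlgebra.mapDomainRingHom A F).comp (MonoidAlgebra.singleOneRingHom.comp g) =
      MonoidAlgebra.singleOneRingHom.comp g := by
  rw [← RingHom.comp_assoc, mapDomain_comp_single]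

end alg

variable {A : Type u} [CommRing A]

/-- the universal point of the group over `A` -/
noncomputable def θ (g : R →+* A) : Tst (sc (M := M) g) ⟶ H ⊗ Tst g :=
  lift (cpt Q (sc g) (MonoidAlgebra.of A (Multiplicative M))) (tst MonoidAlgebra.singleOneRingHom rfl)

theorem tst_θ (g : R →+* A) {D : Type u} [CommRing D] {k : R →+* D} (f : GA M A →+* D) (h : f.comp (sc g) = k) :
    tst f h ≫ θ Q g = lift (cpt Q k (f.toMonoidHom.comp (MonoidAlgebra.of A (Multiplicative M))))
      (tst (f.comp MonoidAlgebra.singleOneRingHom) (by rw [RingHom.comp_assoc]; exact h)) := by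
  rw [θ, comp_lift, tst_cpt, tst_comp]

theorem exists_ev (g : R →+* A) {D : Type u} [CommRing D] {k : R →+* D} (a : Tst k ⟶ H) (t : Tst k ⟶ Tst g) :
    ∃ (m : A →+* D) (hm : m.comp g = k) (χ : Multiplicative M →* D), t = tst m hm ∧ a = cpt Q k χ := by
  obtain ⟨m, hm, ht⟩ := exists_tst_factor t
  obtain ⟨χ, hχ⟩ := Q.pt_surjective k a
  exact ⟨m, hm, χ, ht, hχ.symm⟩

theorem isIso_θ [IsAffineHom H.hom] (g : R →+* A) : IsIso (θ Q g) := by
  have : IsAffine (H ⊗ Tst g).left := by
    change IsAffine (pullback H.hom (Spec.map (CommRingCat.ofHom g)))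
    exact isAffine_of_isAffineHom (pullback.snd H.hom (Spec.map (CommRingCat.ofHom g)))
  obtain ⟨B, _, β, x, y, hyx, -⟩ := exists_affine_coord (X := H ⊗ Tst g)
  obtain ⟨m, hm, χ, hx2, hx1⟩ := exists_ev Q g (x ≫ fst _ _) (x ≫ snd _ _)
  let ev : GA M A →+* B := MonoidAlgebra.liftNCRingHom m χ fun _ _ => Commute.all _ _
  have h1 : ev.comp MonoidAlgebra.singleOneRingHom = m := RingHom.ext fun b => by simp [ev]
  have h2 : ev.toMonoidHom.comp (MonoidAlgebra.of A (Multiplicative M)) = χ := MonoidHom.ext fun m => by simp [ev]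
  have hev : ev.comp (sc g) = β := by rw [← RingHom.comp_assoc, h1, hm]
  have hxθ : tst ev hev ≫ θ Q g = x := by
    rw [tst_θ]
    refine CartesianMonoidalCategory.hom_ext _ _ ?_ ?_
    · rw [lift_fst, hx1, h2]
    · rw [lift_snd, hx2, tst_congr h1]
  let r := y ≫ tst ev hev
  have hrθ : r ≫ θ Q g = 𝟙 _ := by rw [Category.assoc, hxθ, hyx]
  refine ⟨r, ?_, hrθ⟩
  obtain ⟨e, he, hθr⟩ := exists_tst_factor (θ Q g ≫ r)
  have hθ : tst e he ≫ θ Q g = θ Q g := by rw [← hθr, Category.assoc, hrθ, Category.comp_id]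
  rw [tst_θ] at hθ
  have e1 : e.comp MonoidAlgebra.singleOneRingHom = MonoidAlgebra.singleOneRingHom := by
    have := congrArg (· ≫ snd _ _) hθ
    simp only [θ, lift_snd] at this
    exact congrArg CommRingCat.Hom.hom (Spec.map_injective (congrArg (fun z => z.left) this :))
  have e2 : e.toMonoidHom.comp (MonoidAlgebra.of A (Multiplicative M)) = MonoidAlgebra.of A (Multiplicative M) := by
    have := congrArg (· ≫ fst _ _) hθ
    simp only [θ, lift_fst] at this
    exact Q.pt_injective _ this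
  have : e = RingHom.id _ := MonoidAlgebra.ringHom_ext (fun b => RingHom.congr_fun e1 b)
    (fun m => DFunLike.congr_fun e2 m)
  rw [hθr, tst_congr this _ (RingHom.id_comp _), tst_id]

/-- the coordinates of a family -/
noncomputable def famCoord (g : R →+* A) (φ : H ⊗ Tst g ⟶ G) : Fin n → GA M A := L.coord (sc g) (θ Q g ≫ φ)

theorem famCoord_injective [IsAffineHom H.hom] (g : R →+* A) : Function.Injective (famCoord Q L g) := by
  intro φ φ' h
  have := isIso_θ Q g
  exact (cancel_epi (θ Q g)).mp (L.coord_injective _ h)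

/-- the relations of the group on coordinates -/
def Rel (g : R →+* A) (p : Fin n → GA M A) : Prop :=
  ∀ k, MvPolynomial.eval₂ (sc g) p (L.rel k) = 0

/-- the coordinates are those of a homomorphism -/
def Star (g : R →+* A) (p : Fin n → GA M A) : Prop :=
  ∀ i, dg (p i) = ∑ j, inc₁ (MvPolynomial.eval₂ (sc g) p (L.mat i j)) * inc₂ (p j)

theorem rel_famCoord (g : R →+* A) (φ : H ⊗ Tst g ⟶ G) : Rel L g (famCoord Q L g φ) := L.coord_rel _ _

theorem exists_famCoord [IsAffineHom H.hom] (g : R →+* A) {p : Fin n → GA M A} (hp : Rel L g p) :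
    ∃ φ, famCoord Q L g φ = p := by
  obtain ⟨a, ha⟩ := L.exists_pt _ p hp
  have := isIso_θ Q g
  exact ⟨inv (θ Q g) ≫ a, by rw [famCoord, IsIso.hom_inv_id_assoc, ha]⟩

theorem map_eval₂ {D D' : Type u} [CommRing D] [CommRing D'] (f : D →+* D') (g : R →+* D) (x : Fin n → D)
    (p : MvPolynomial (Fin n) R) : f (MvPolynomial.eval₂ g x p) = MvPolynomial.eval₂ (f.comp g) (fun i => f (x i)) p :=
  MvPolynomial.eval₂_comp_left f g x p

theorem coord_tst {D D' : Type u} [CommRing D] [CommRing D'] (f : D →+* D') {g : R →+* D} {g' : R →+* D'}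
    (h : f.comp g = g') (a : Tst g ⟶ G) : L.coord g' (tst f h ≫ a) = fun i => f (L.coord g a i) := by
  subst h
  exact funext (L.coord_nat f g a)

/-- coordinates of the family at a point -/
theorem coord_at (g : R →+* A) (φ : H ⊗ Tst g ⟶ G) {D : Type u} [CommRing D] {k : R →+* D} (f : GA M A →+* D)
    (h : f.comp (sc g) = k) {χ : Multiplicative M →* D} {m : A →+* D} (hm : m.comp g = k)
    (h1 : f.toMonoidHom.comp (MonoidAlgebra.of A (Multiplicative M)) = χ)
    (h2 : f.comp MonoidAlgebra.singleOneRingHom = m) :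
    L.coord k (lift (cpt Q k χ) (tst m hm) ≫ φ) = fun i => f (famCoord Q L g φ i) := by
  subst h1 h2
  rw [← tst_θ Q g f h, Category.assoc, coord_tst]
  rfl

theorem coord_hom (g : R →+* A) {φ : H ⊗ Tst g ⟶ G} (hφ : AutFam.IsHomFamily H G φ) {D : Type u} [CommRing D]
    (k : R →+* D) (m : A →+* D) (hm : m.comp g = k) (χ₁ χ₂ : Multiplicative M →* D) (i : Fin n) :
    L.coord k (lift (cpt Q k (χ₁ * χ₂)) (tst m hm) ≫ φ) i =
      ∑ j, MvPolynomial.eval₂ k (L.coord k (lift (cpt Q k χ₁) (tst m hm) ≫ φ)) (L.mat i j) *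
        L.coord k (lift (cpt Q k χ₂) (tst m hm) ≫ φ) j := by
  rw [← L.coord_mul, ← hφ]
  rw [show cpt Q k χ₁ * cpt Q k χ₂ = cpt Q k (χ₁ * χ₂) from (Q.pt_mul k χ₁ χ₂).symm]

theorem star_of_isHomFamily (g : R →+* A) {φ : H ⊗ Tst g ⟶ G} (hφ : AutFam.IsHomFamily H G φ) :
    Star L g (famCoord Q L g φ) := by
  intro i
  let p := famCoord Q L g φ
  let s₂ : A →+* GA₂ M A := MonoidAlgebra.singleOneRingHom
  let of₁ := (inc₁ (A := A)).toMonoidHom.comp (MonoidAlgebra.of A (Multiplicative M))
  let of₂ := (inc₂ (A := A)).toMonoidHom.comp (MonoidAlgebra.of A (Multiplicative M))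
  have hof : (dg (A := A)).toMonoidHom.comp (MonoidAlgebra.of A (Multiplicative M)) = of₁ * of₂ :=
    MonoidHom.ext fun m => by simp [of₁, of₂, MonoidAlgebra.single_mul_single]
  have h1 := coord_at Q L g φ dg (mapDomain_comp_sc g _) (m := s₂) rfl hof (mapDomain_comp_single _)
  have h2 := coord_at Q L g φ inc₁ (mapDomain_comp_sc g _) (χ := of₁) (m := s₂) rfl rfl (mapDomain_comp_single _)
  have h3 := coord_at Q L g φ inc₂ (mapDomain_comp_sc g _) (χ := of₂) (m := s₂) rfl rfl (mapDomain_comp_single _)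
  have e := coord_hom Q L g hφ (sc₂ g) s₂ rfl of₁ of₂ i
  rw [h1, h2, h3] at e
  refine e.trans (Finset.sum_congr rfl fun j _ => ?_)
  refine congrArg₂ (· * ·) ?_ rfl
  refine Eq.trans ?_ (map_eval₂ inc₁ (sc g) (famCoord Q L g φ) (L.mat i j)).symm
  rw [mapDomain_comp_sc g]

theorem isHomFamily_of_star (g : R →+* A) {φ : H ⊗ Tst g ⟶ G} (hp : Star L g (famCoord Q L g φ)) :
    AutFam.IsHomFamily H G φ := by
  have aff : ∀ (D : Type u) [CommRing D] (k : R →+* D) (a b : Tst k ⟶ H) (t : Tst k ⟶ Tst g),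
      lift (a * b) t ≫ φ = (lift a t ≫ φ) * (lift b t ≫ φ) := by
    intro D _ k a b t
    obtain ⟨m, hm, χ₁, rfl, rfl⟩ := exists_ev Q g a t
    obtain ⟨χ₂, rfl⟩ := Q.pt_surjective k b
    change lift (cpt Q k χ₁ * cpt Q k χ₂) (tst m hm) ≫ φ = (_ ≫ φ) * (lift (cpt Q k χ₂) (tst m hm) ≫ φ)
    rw [show cpt Q k χ₁ * cpt Q k χ₂ = cpt Q k (χ₁ * χ₂) from (Q.pt_mul _ _ _).symm]
    let e : GA₂ M A →+* D := MonoidAlgebra.liftNCRingHom m (MonoidHom.coprod χ₁ χ₂) fun _ _ => Commute.all _ _
    have es : e.comp MonoidAlgebra.singleOneRingHom = m := RingHom.ext fun b => by simp [e]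
    have eF : ∀ F : Multiplicative M →* Multiplicative M × Multiplicative M,
        (e.comp (MonoidAlgebra.mapDomainRingHom A F)).comp MonoidAlgebra.singleOneRingHom = m ∧
        (e.comp (MonoidAlgebra.mapDomainRingHom A F)).comp (sc g) = k := fun F => by
      refine ⟨by rw [RingHom.comp_assoc, mapDomain_comp_single, es], ?_⟩
      rw [RingHom.comp_assoc, mapDomain_comp_sc, ← RingHom.comp_assoc, es, hm]
    refine L.coord_injective k (funext fun i => ?_)
    rw [coord_at Q L g φ (e.comp dg) (eF _).2 hm (MonoidHom.ext fun x => by simp [e]) (eF _).1,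
      L.coord_mul, coord_at Q L g φ (e.comp inc₁) (eF _).2 hm (MonoidHom.ext fun x => by simp [e]) (eF _).1,
      coord_at Q L g φ (e.comp inc₂) (eF _).2 hm (MonoidHom.ext fun x => by simp [e]) (eF _).1]
    change e (dg _) = _
    rw [hp i, map_sum]
    refine Finset.sum_congr rfl fun j _ => ?_
    rw [map_mul, ← RingHom.comp_apply, map_eval₂ (e.comp inc₁), (eF _).2]
    rfl
  intro X a b t
  refine Over.OverMorphism.ext (Scheme.Cover.hom_ext X.left.affineCover _ _ fun j => ?_)
  let X' := X.left.affineCover.X j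
  let k := X'.isoSpec.inv ≫ X.left.affineCover.f j
  obtain ⟨β, hβ⟩ := Spec.map_surjective (k ≫ X.hom)
  let q : Tst β.hom ⟶ X := Over.homMk k hβ.symm
  have := congrArg (fun z => z.left) (show q ≫ lift (a * b) t ≫ φ = q ≫ ((lift a t ≫ φ) * (lift b t ≫ φ)) by
    rw [MonObj.comp_mul, ← Category.assoc, ← Category.assoc, ← Category.assoc, comp_lift, comp_lift, comp_lift,
      MonObj.comp_mul]
    exact aff _ _ _ _ _)
  rw [← cancel_epi X'.isoSpec.inv, ← Category.assoc, ← Category.assoc]
  exact this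

theorem isHomFamily_iff (g : R →+* A) (φ : H ⊗ Tst g ⟶ G) :
    AutFam.IsHomFamily H G φ ↔ Star L g (famCoord Q L g φ) :=
  ⟨star_of_isHomFamily Q L g, isHomFamily_of_star Q L g⟩

theorem famCoord_map {A' : Type u} [CommRing A'] (f : A →+* A') {g : R →+* A} {g' : R →+* A'}
    (h : f.comp g = g') (φ : H ⊗ Tst g ⟶ G) :
    famCoord Q L g' ((H ◁ tst f h) ≫ φ) = fun i => MonoidAlgebra.mapRingHom _ f (famCoord Q L g φ i) := by
  subst h
  let F : GA M A →+* GA M A' := MonoidAlgebra.mapRingHom _ f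
  have h2 : F.comp MonoidAlgebra.singleOneRingHom = MonoidAlgebra.singleOneRingHom.comp f :=
    RingHom.ext fun a => by simp [F]
  have h1 : F.toMonoidHom.comp (MonoidAlgebra.of A (Multiplicative M)) = MonoidAlgebra.of A' (Multiplicative M) :=
    MonoidHom.ext fun m => by simp [F]
  have hF : F.comp (sc g) = sc (f.comp g) := by rw [← RingHom.comp_assoc, h2, RingHom.comp_assoc]
  rw [famCoord, θ, ← Category.assoc, lift_whiskerLeft, tst_comp]
  exact coord_at Q L g φ F hF _ h1 h2

end Groth.Agent.H21Hom
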