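import Groth.Agent.H21Hom.StableGen
import Groth.Agent.H21Diag.Pres
import Groth.Agent.H19Grp.AffinePoints

/-!
Coordinates on a smooth affine group in which right translation is linear.
-/

set_option autoImplicit false
set_option maxHeartbeats 1000000
set_option linter.style.haveILetI false
set_option backward.isDefEq.respectTransparency false

universe u

open CategoryTheory MonoidalCategory CartesianMonoidalCategory MonObj GrpObj AlgebraicGeometry
open TensorProduct Groth.Agent.H21Diag

namespace Groth.Agent.H21Hom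

variable {R : Type u} [CommRing R]

/-- coordinates on the ring points of a group, the law linear in the second factor -/
structure LinCoord (G : Over (Spec (CommRingCat.of R))) [GrpObj G] (n : ℕ) where
  coord : ∀ {D : Type u} [CommRing D] (g : R →+* D), (Tst g ⟶ G) → Fin n → D
  coord_injective : ∀ {D : Type u} [CommRing D] (g : R →+* D), Function.Injective (coord g)
  coord_nat : ∀ {D D' : Type u} [CommRing D] [CommRing D'] (f : D →+* D') (g : R →+* D) (a : Tst g ⟶ G) (i : Fin n),
    coord (f.comp g) (tst f (g := g) (g' := f.comp g) rfl ≫ a) i = f (coord g a i)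
  r : ℕ
  rel : Fin r → MvPolynomial (Fin n) R
  coord_rel : ∀ {D : Type u} [CommRing D] (g : R →+* D) (a : Tst g ⟶ G) (k : Fin r),
    MvPolynomial.eval₂ g (coord g a) (rel k) = 0
  exists_pt : ∀ {D : Type u} [CommRing D] (g : R →+* D) (x : Fin n → D),
    (∀ k, MvPolynomial.eval₂ g x (rel k) = 0) → ∃ a : Tst g ⟶ G, coord g a = x
  mat : Fin n → Fin n → MvPolynomial (Fin n) R
  coord_mul : ∀ {D : Type u} [CommRing D] (g : R →+* D) (a b : Tst g ⟶ G) (i : Fin n),
    coord g (a * b) i = ∑ j, MvPolynomial.eval₂ g (coord g a) (mat i j) * coord g b j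

theorem convMul_apply_of_comul {C : Type u} [CommRing C] [Bialgebra R C] {D : Type u} [CommRing D] [Algebra R D]
    (f f' : C →ₐ[R] D) {n : ℕ} {v : Fin n → C} {c : Fin n → Fin n → C} (i : Fin n)
    (h : Coalgebra.comul (R := R) (v i) = ∑ j, c i j ⊗ₜ v j) :
    (WithConv.toConv f * WithConv.toConv f').ofConv (v i) = ∑ j, f (c i j) * f' (v j) := by
  simp only [AlgHom.convMul_def, WithConv.ofConv_toConv, AlgHom.comp_apply, Bialgebra.comulAlgHom_apply, h,
    map_sum]
  simp

set_option synthInstance.maxHeartbeats 400000 in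
/-- a smooth affine group has linear coordinates -/
theorem exists_linCoord (G : Over (Spec (CommRingCat.of R))) [GrpObj G] [Smooth G.hom] [IsAffine G.left] :
    ∃ n, Nonempty (LinCoord G n) := by
  let R' : CommRingCat.{u} := CommRingCat.of R
  letI oG : G.left.Over (Spec R') := ⟨G.hom⟩
  letI gG : GrpObj (G.left.asOver (Spec R')) := ‹GrpObj G›
  letI : HopfAlgebra R Γ(G.left, ⊤) := H19Grp.AffinePoints.hopfOf R' G.left
  let C := Γ(G.left, ⊤)
  have hs : Spec.map (CommRingCat.ofHom (algebraMap R C)) = G.left.isoSpec.inv ≫ G.hom :=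
    Spec.fullyFaithful.map_preimage _
  haveI : Algebra.Smooth R C := by
    have : Smooth (Spec.map (CommRingCat.ofHom (algebraMap R C))) := by rw [hs]; infer_instance
    rw [HasRingHomProperty.Spec_iff (P := @Smooth)] at this
    exact RingHom.smooth_algebraMap.mp this
  obtain ⟨n, v, c, hv, hvc⟩ := exists_stableGen R C
  have hsur : Function.Surjective (MvPolynomial.aeval (R := R) v) := by
    rw [← AlgHom.range_eq_top, ← Algebra.adjoin_range_eq_range_aeval, hv]
  obtain ⟨rels, hrels⟩ := Algebra.FinitePresentation.ker_fG_of_surjective _ hsur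
  choose mat hmat using fun i j => hsur (c i j)
  have hfac : ∀ {D : Type u} [CommRing D] (g : R →+* D) (φ : C →+* D), φ.comp (algebraMap R C) = g →
      ∀ p, φ (MvPolynomial.aeval v p) = MvPolynomial.eval₂ g (fun i => φ (v i)) p := by
    intro D _ g φ hφ p
    rw [MvPolynomial.aeval_def, MvPolynomial.eval₂_comp_left, hφ]
    rfl
  let φ : ∀ {D : Type u} [CommRing D] (g : R →+* D), (Tst g ⟶ G) → (C →+* D) := fun {D} _ g a =>
    (Spec.preimage (a.left ≫ G.left.isoSpec.hom)).hom
  have hφ : ∀ {D : Type u} [CommRing D] (g : R →+* D) (a : Tst g ⟶ G),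
      Spec.map (CommRingCat.ofHom (φ g a)) = a.left ≫ G.left.isoSpec.hom := fun g a => by
    rw [CommRingCat.ofHom_hom, Spec.map_preimage]
  have hφc : ∀ {D : Type u} [CommRing D] (g : R →+* D) (a : Tst g ⟶ G), (φ g a).comp (algebraMap R C) = g := by
    intro D _ g a
    refine congrArg CommRingCat.Hom.hom (Spec.map_injective ?_ :
      CommRingCat.ofHom ((φ g a).comp (algebraMap R C)) = CommRingCat.ofHom g)
    rw [CommRingCat.ofHom_comp, Spec.map_comp, hφ, hs, Category.assoc, Iso.hom_inv_id_assoc]
    exact Over.w a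
  refine ⟨n, ⟨{
    coord := fun g a i => φ g a (v i)
    coord_injective := fun {D} _ g a b h => ?_
    coord_nat := fun {D D'} _ _ f g a i => ?_
    r := rels.card
    rel := fun k => (rels.equivFin.symm k).1
    coord_rel := fun {D} _ g a k => ?_
    exists_pt := fun {D} _ g x hx => ?_
    mat := mat
    coord_mul := fun {D} _ g a b i => ?_ }⟩⟩
  · have hR : ∀ p, φ g a (MvPolynomial.aeval v p) = φ g b (MvPolynomial.aeval v p) := fun p => by
      rw [hfac g _ (hφc g a), hfac g _ (hφc g b)]
      exact congrArg (fun z => MvPolynomial.eval₂ g z p) h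
    have : φ g a = φ g b := RingHom.ext fun z => by obtain ⟨p, rfl⟩ := hsur z; exact hR p
    refine Over.OverMorphism.ext ((cancel_mono G.left.isoSpec.hom).mp ?_)
    rw [← hφ g a, ← hφ g b, this]
  · have : φ (f.comp g) (tst f (g := g) (g' := f.comp g) rfl ≫ a) = f.comp (φ g a) := by
      refine congrArg CommRingCat.Hom.hom (Spec.map_injective ?_ :
        CommRingCat.ofHom (φ (f.comp g) _) = CommRingCat.ofHom (f.comp (φ g a)))
      rw [hφ, CommRingCat.ofHom_comp, Spec.map_comp, hφ]
      exact Category.assoc _ _ _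
    exact RingHom.congr_fun this _
  · have h0 : MvPolynomial.aeval v (rels.equivFin.symm k).1 = 0 :=
      hrels.le (Ideal.subset_span (rels.equivFin.symm k).2)
    rw [← hfac g _ (hφc g a), h0, map_zero]
  · let ev := MvPolynomial.eval₂Hom g x
    have hker : RingHom.ker (MvPolynomial.aeval (R := R) v) ≤ RingHom.ker ev := by
      refine hrels.ge.trans (Ideal.span_le.mpr fun p hp => ?_)
      have := hx (rels.equivFin ⟨p, hp⟩)
      simpa [ev] using this
    let ψ : C →+* D := RingHom.liftOfSurjective (MvPolynomial.aeval (R := R) v).toRingHom hsur ⟨ev, hker⟩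
    have hψ : ∀ p, ψ (MvPolynomial.aeval v p) = ev p := fun p =>
      RingHom.congr_fun (RingHom.liftOfSurjective_comp _ _ ⟨ev, hker⟩) p
    have hψc : ψ.comp (algebraMap R C) = g := RingHom.ext fun r => by
      have := hψ (MvPolynomial.C r)
      simpa [ev] using this
    let a : Tst g ⟶ G := Over.homMk (Spec.map (CommRingCat.ofHom ψ) ≫ G.left.isoSpec.inv) (by
      change (Spec.map (CommRingCat.ofHom ψ) ≫ G.left.isoSpec.inv) ≫ G.hom = _
      rw [Category.assoc, ← hs, ← Spec.map_comp, ← CommRingCat.ofHom_comp, hψc]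
      rfl)
    refine ⟨a, funext fun i => ?_⟩
    have ha : φ g a = ψ := by
      refine congrArg CommRingCat.Hom.hom (Spec.map_injective ?_ :
        CommRingCat.ofHom (φ g a) = CommRingCat.ofHom ψ)
      rw [hφ]
      change (_ ≫ G.left.isoSpec.inv) ≫ G.left.isoSpec.hom = _
      rw [Category.assoc, Iso.inv_hom_id, Category.comp_id]
    rw [ha]
    simpa [ev] using hψ (MvPolynomial.X i)
  · letI : Algebra R D := g.toAlgebra
    let E := Spec.mapMulEquiv (R := R) (S := C) (T := D)
    let q : G.left.asOver (Spec R') ⟶ (Spec C).asOver (Spec R') := G.left.isoSpec.hom.asOver (Spec R')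
    haveI : IsMonHom q := H19Grp.AffinePoints.isMonHom_isoSpec R' G.left
    have key : ∀ a : Tst g ⟶ G, E (WithConv.toConv
        ({ φ g a with commutes' := RingHom.congr_fun (hφc g a) } : C →ₐ[R] D)) =
          (a : (Spec (CommRingCat.of D)).asOver (Spec R') ⟶ G.left.asOver (Spec R')) ≫ q := fun a =>
      Over.OverMorphism.ext (hφ g a)
    have h1 := E.injective ((key (a * b)).trans ((MonObj.mul_comp _ _ q).trans
      (((congrArg₂ (· * ·) (key a) (key b)).symm.trans (map_mul E _ _).symm))))
    refine (AlgHom.congr_fun (congrArg WithConv.ofConv h1) (v i)).trans ?_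
    rw [convMul_apply_of_comul _ _ i (hvc i)]
    refine Finset.sum_congr rfl fun j _ => congrArg (· * _) ?_
    rw [← hmat i j]
    exact hfac g _ (hφc g a) _

end Groth.Agent.H21Hom
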