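import Groth.Agent.H21Hom.Coeff
import Groth.Agent.H21Hom.DirectedRep
import Groth.Agent.H21Desc.DiagHom
import Groth.Agent.H7Flat.IndQuasiAffine
import Mathlib.RingTheory.Localization.Away.Basic

/-!
The scheme of homomorphisms of a diagonalisable group into a smooth affine group over an affine base.
-/

set_option autoImplicit false
set_option maxHeartbeats 1000000
set_option linter.style.haveILetI false
set_option backward.isDefEq.respectTransparency false

universe u

open CategoryTheory MonoidalCategory CartesianMonoidalCategory MonObj GrpObj AlgebraicGeometry Opposite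
open CategoryTheory.Limits Groth.Agent.H21Diag Groth.Agent.H21Desc

namespace Groth.Agent.H21Hom

variable {R : Type u} [CommRing R] {H G : Over (Spec (CommRingCat.of R))} [GrpObj H] [GrpObj G]
  {M : Type} [AddCommGroup M] (Q : Pres H (RingHom.id R) M) {n : ℕ} (L : LinCoord G n)

variable (P : ∀ F : Finset (Multiplicative M), Piece L F)

/-- the map between pieces -/
theorem existsUnique_incl {F F' : Finset (Multiplicative M)} (h : F ≤ F') :
    ∃! f : (P F').B →+* (P F).B, f.comp (P F').g = (P F).g ∧ pmap f (P F').p = (P F).p :=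
  (P F').universal (P F).g (P F).p (P F).valid ((P F).inF.mono L h)

/-- the map between pieces, chosen -/
noncomputable def incl {F F' : Finset (Multiplicative M)} (h : F ≤ F') : (P F').B →+* (P F).B :=
  (existsUnique_incl L P h).exists.choose

theorem incl_spec {F F' : Finset (Multiplicative M)} (h : F ≤ F') :
    (incl L P h).comp (P F').g = (P F).g ∧ pmap (incl L P h) (P F').p = (P F).p :=
  (existsUnique_incl L P h).exists.choose_spec

omit [AddCommGroup M] in
theorem pmap_comp {A A' A'' : Type u} [CommRing A] [CommRing A'] [CommRing A''] [AddCommGroup M] (f : A →+* A')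
    (f' : A' →+* A'') (p : Fin n → GA M A) : pmap f' (pmap f p) = pmap (f'.comp f) p := by
  funext i
  simp only [pmap, ← RingHom.comp_apply, ← MonoidAlgebra.mapRingHom_comp]

/-- a larger piece contains a smaller one as an open subscheme -/
theorem isOpenImmersion_incl {F F' : Finset (Multiplicative M)} (h : F ≤ F') :
    IsOpenImmersion (Spec.map (CommRingCat.ofHom (incl L P h))) := by
  classical
  obtain ⟨Fc, hFc⟩ := exists_support L (P F').g (P F').p
  let d : (P F').B := ∏ m ∈ Fc \ F, (1 - wtMat L (P F').g (P F').p m).det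
  let j := incl L P h
  have hd : IsUnit (j d) := by
    rw [map_prod]
    refine Finset.prod_induction _ IsUnit (fun _ _ => IsUnit.mul) isUnit_one fun m hm => ?_
    rw [← det_pmap L j (incl_spec L P h).1 (P F').p m, (incl_spec L P h).2]
    exact (P F).inF m (Finset.mem_sdiff.1 hm).2
  let l : (P F').B →+* Localization.Away d := algebraMap _ _
  let ψ : Localization.Away d →+* (P F).B := IsLocalization.Away.lift d hd
  have hψl : ψ.comp l = j := IsLocalization.Away.lift_comp d hd
  have hinF : InF L (l.comp (P F').g) (pmap l (P F').p) F := fun m hm => by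
    rw [det_pmap L l rfl (P F').p m]
    by_cases hmc : m ∈ Fc
    · exact isUnit_of_dvd_unit (map_dvd l (Finset.dvd_prod_of_mem (fun m => (1 - wtMat L (P F').g (P F').p m).det)
        (Finset.mem_sdiff.2 ⟨hmc, hm⟩))) (IsLocalization.Away.algebraMap_isUnit d)
    · rw [hFc m hmc, map_one]; exact isUnit_one
  obtain ⟨φ, ⟨hφ1, hφ2⟩, -⟩ := (P F).universal _ _ ((P F').valid.map L l rfl _) hinF
  have hφj : φ.comp j = l := by
    refine ((P F').universal _ _ ((P F').valid.map L l rfl _) (hinF.mono L h)).unique ⟨?_, ?_⟩ ⟨rfl, rfl⟩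
    · rw [RingHom.comp_assoc, (incl_spec L P h).1, hφ1]
    · rw [← pmap_comp, (incl_spec L P h).2, hφ2]
  have h1 : φ.comp ψ = RingHom.id _ := IsLocalization.ringHom_ext (Submonoid.powers d)
    (show (φ.comp ψ).comp l = (RingHom.id _).comp l by rw [RingHom.comp_assoc, hψl, hφj, RingHom.id_comp])
  have h2 : ψ.comp φ = RingHom.id _ := by
    refine ((P F).universal _ _ (P F).valid (P F).inF).unique ⟨?_, ?_⟩ ⟨RingHom.id_comp _, ?_⟩
    · rw [RingHom.comp_assoc, hφ1, ← RingHom.comp_assoc, hψl, (incl_spec L P h).1]
    · rw [← pmap_comp, hφ2, pmap_comp, hψl, (incl_spec L P h).2]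
    · funext i
      simp [pmap, MonoidAlgebra.mapRingHom_id]
  let e : CommRingCat.of (Localization.Away d) ≅ CommRingCat.of (P F).B :=
    ⟨CommRingCat.ofHom ψ, CommRingCat.ofHom φ, CommRingCat.hom_ext h1, CommRingCat.hom_ext h2⟩
  have : IsOpenImmersion (Spec.map (CommRingCat.ofHom l)) := IsOpenImmersion.of_isLocalization d
  change IsOpenImmersion (Spec.map (CommRingCat.ofHom j))
  rw [← hψl, CommRingCat.ofHom_comp, Spec.map_comp]
  have : IsIso (Spec.map (CommRingCat.ofHom ψ)) := inferInstanceAs (IsIso (Scheme.Spec.mapIso e.op).hom)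
  infer_instance

variable [IsAffineHom H.hom]

theorem valid_famCoord {A : Type u} [CommRing A] (g : R →+* A) (s : (homFam H G).obj (op (Tst g))) :
    Valid L g (famCoord Q L g s.1) :=
  ⟨rel_famCoord Q L g s.1, star_of_isHomFamily Q L g s.2⟩

theorem famCoord_map_homFam {A A' : Type u} [CommRing A] [CommRing A'] (f : A →+* A') {g : R →+* A} {g' : R →+* A'}
    (h : f.comp g = g') (s : (homFam H G).obj (op (Tst g))) :
    famCoord Q L g' ((homFam H G).map (tst f h).op s).1 = pmap f (famCoord Q L g s.1) :=
  famCoord_map Q L f h s.1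

theorem exists_sect (F : Finset (Multiplicative M)) :
    ∃ s : (homFam H G).obj (op (Tst (P F).g)), famCoord Q L (P F).g s.1 = (P F).p := by
  obtain ⟨φ, hφ⟩ := exists_famCoord Q L (P F).g (P F).valid.1
  exact ⟨⟨φ, isHomFamily_of_star Q L _ (by rw [hφ]; exact (P F).valid.2)⟩, hφ⟩

/-- ring points: the family is pulled back from a piece exactly when the weights lie in the piece -/
theorem exists_point_iff {A : Type u} [CommRing A] (k : R →+* A) (s : (homFam H G).obj (op (Tst k)))
    (F : Finset (Multiplicative M)) :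
    (∃ a : Tst k ⟶ Tst (P F).g, (homFam H G).map a.op (exists_sect Q L P F).choose = s) ↔
      InF L k (famCoord Q L k s.1) F := by
  have hu := (exists_sect Q L P F).choose_spec
  constructor
  · rintro ⟨a, rfl⟩
    obtain ⟨m, hm, rfl⟩ := exists_tst_factor a
    rw [famCoord_map_homFam Q L m hm, hu]
    exact (P F).inF.map L m hm _
  · intro hF
    obtain ⟨f, ⟨h1, h2⟩, -⟩ := (P F).universal k _ (valid_famCoord Q L k s) hF
    refine ⟨tst f h1, Subtype.ext (famCoord_injective Q L k ?_)⟩
    rw [famCoord_map_homFam Q L f h1, hu, h2]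

theorem point_unique {A : Type u} [CommRing A] (k : R →+* A) (F : Finset (Multiplicative M))
    (a b : Tst k ⟶ Tst (P F).g)
    (h : (homFam H G).map a.op (exists_sect Q L P F).choose = (homFam H G).map b.op (exists_sect Q L P F).choose) :
    a = b := by
  have hu := (exists_sect Q L P F).choose_spec
  obtain ⟨m, hm, rfl⟩ := exists_tst_factor a
  obtain ⟨m', hm', rfl⟩ := exists_tst_factor b
  have h' := congrArg (fun z => famCoord Q L k z.1) h
  simp only [famCoord_map_homFam Q L _ hm, famCoord_map_homFam Q L _ hm', hu] at h'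
  refine tst_congr ?_ hm hm'
  exact ((P F).universal k _ ((P F).valid.map L m hm _) ((P F).inF.map L m hm _)).unique ⟨hm, rfl⟩ ⟨hm', h'.symm⟩

/-- an affine test object is a ring point -/
theorem map_y_injective {T : Over (Spec (CommRingCat.of R))} {A : Type u} [CommRing A] {k : R →+* A}
    {x : Tst k ⟶ T} {y : T ⟶ Tst k} (hyx : y ≫ x = 𝟙 _) {Z : Over (Spec (CommRingCat.of R))} {a b : T ⟶ Z}
    (h : x ≫ a = x ≫ b) : a = b := by
  have := congrArg (y ≫ ·) h
  simpa only [← Category.assoc, hyx, Category.id_comp] using this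

/-- the pieces of the functor of homomorphisms -/
noncomputable def pieces : Pieces (homFam H G) (ULift.{u} (Finset (Multiplicative M))) where
  gluing := isZariskiGluing_homFam H G
  nonempty := ⟨⟨∅⟩⟩
  directed i j := by
    classical
    exact ⟨⟨i.down ∪ j.down⟩, Finset.subset_union_left, Finset.subset_union_right⟩
  W F := Tst (P F.down).g
  sect F := (exists_sect Q L P F.down).choose
  map h := tst (incl L P h) (incl_spec L P h).1
  isOpenImmersion h := isOpenImmersion_incl L P h
  map_sect {F F'} h := by
    refine Subtype.ext (famCoord_injective Q L _ ?_)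
    rw [famCoord_map_homFam Q L _ (incl_spec L P h).1, (exists_sect Q L P F'.down).choose_spec,
      (incl_spec L P h).2, (exists_sect Q L P F.down).choose_spec]
  inj F T _ a b h := by
    obtain ⟨A, _, k, x, y, hyx, -⟩ := exists_affine_coord (X := T)
    refine map_y_injective hyx (point_unique Q L P k F.down _ _ ?_)
    rw [op_comp, op_comp, Functor.map_comp, Functor.map_comp]
    exact congrArg ((homFam H G).map x.op) h
  surj T _ s := by
    obtain ⟨A, _, k, x, y, hyx, -⟩ := exists_affine_coord (X := T)
    obtain ⟨F, hF⟩ := exists_inF L k (famCoord Q L k ((homFam H G).map x.op s).1)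
    obtain ⟨a, ha⟩ := (exists_point_iff Q L P k _ F).2 hF
    refine ⟨⟨F⟩, y ≫ a, ?_⟩
    have := congrArg ((homFam H G).map y.op) ha
    rw [Pieces.map_map, Pieces.map_map, hyx, op_id, CategoryTheory.Functor.map_id] at this
    exact this
  meet F F' T _ a b h := by
    classical
    obtain ⟨A, _, k, x, y, hyx, hxy⟩ := exists_affine_coord (X := T)
    let s := (homFam H G).map (x ≫ a).op (exists_sect Q L P F.down).choose
    have hs : (homFam H G).map (x ≫ b).op (exists_sect Q L P F'.down).choose = s := by
      simp only [s, op_comp, Functor.map_comp]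
      exact (congrArg ((homFam H G).map x.op) h).symm
    have h1 := (exists_point_iff Q L P k s F.down).1 ⟨x ≫ a, rfl⟩
    have h2 := (exists_point_iff Q L P k s F'.down).1 ⟨x ≫ b, hs⟩
    obtain ⟨c, hc⟩ := (exists_point_iff Q L P k s (F.down ∩ F'.down)).2 (h1.inter L h2)
    refine ⟨⟨F.down ∩ F'.down⟩, Finset.inter_subset_left, Finset.inter_subset_right, y ≫ c,
      map_y_injective hyx (point_unique Q L P k F.down _ _ ?_)⟩
    change (homFam H G).map (x ≫ (y ≫ c) ≫ _).op _ = s
    rw [← Category.assoc, ← Category.assoc x y c, hxy, Category.id_comp, ← hc, ← Pieces.map_map]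
    refine congrArg ((homFam H G).map c.op) (Subtype.ext (famCoord_injective Q L _ ?_))
    rw [famCoord_map_homFam Q L _ (incl_spec L P _).1, (exists_sect Q L P _).choose_spec, (incl_spec L P _).2,
      (exists_sect Q L P _).choose_spec]

/-- the scheme of homomorphisms over an affine base -/
theorem exists_representsHom_pieces (Q : Pres H (RingHom.id R) M) (P : ∀ F : Finset (Multiplicative M), Piece L F) :
    ∃ (X : Over (Spec (CommRingCat.of R))) (υ : H ⊗ X ⟶ G), AutFam.RepresentsHom H G X υ ∧
      IsSeparated X.hom ∧ LocallyOfFinitePresentation X.hom ∧ MoreMor.IsIndQuasiAffineHom X.hom := by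
  let D := pieces Q L P
  obtain ⟨X, υ, e, hbij, he, -, hcompat, hcov⟩ := D.exists_rep
  refine ⟨X, υ.1, ⟨υ.2, fun T φ hφ => ?_⟩, ?_, ?_, ?_⟩
  · obtain ⟨a, ha, huniq⟩ := (hbij T).existsUnique ⟨φ, hφ⟩
    exact ⟨a, congrArg Subtype.val ha, fun b hb => huniq b (Subtype.ext hb)⟩
  · refine isSeparated_of_directed_affine D.W e he (fun i => inferInstanceAs (IsAffine (Spec _))) fun a b => ?_
    obtain ⟨i, a', rfl⟩ := hcov a
    obtain ⟨j, b', rfl⟩ := hcov b
    obtain ⟨k, hik, hjk⟩ := D.directed i j
    exact ⟨k, ⟨(D.map hik).left a', by rw [← hcompat hik]; rfl⟩, ⟨(D.map hjk).left b', by rw [← hcompat hjk]; rfl⟩⟩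
  · let 𝒰 := H8Props.WeilRes.coverOfFamily X D.W e he hcov
    refine IsZariskiLocalAtSource.of_openCover (P := @LocallyOfFinitePresentation) 𝒰 fun i => ?_
    change LocallyOfFinitePresentation ((e i).left ≫ X.hom)
    rw [Over.w (e i)]
    change LocallyOfFinitePresentation (Spec.map (CommRingCat.ofHom (P i.down).g))
    rw [HasRingHomProperty.Spec_iff (P := @LocallyOfFinitePresentation)]
    exact (P i.down).fp
  · rw [H7Flat.indQA_iff]
    intro V hV U hU hUV
    have hdir : Directed (fun a b => a ⊆ b) fun i => Set.range (e i).left := fun i j => by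
      obtain ⟨k, hik, hjk⟩ := D.directed i j
      refine ⟨k, ?_, ?_⟩
      · rintro _ ⟨z, rfl⟩; exact ⟨(D.map hik).left z, by rw [← hcompat hik]; rfl⟩
      · rintro _ ⟨z, rfl⟩; exact ⟨(D.map hjk).left z, by rw [← hcompat hjk]; rfl⟩
    have := D.nonempty
    obtain ⟨i, hi⟩ := hU.elim_directed_cover (fun i => Set.range (e i).left)
      (fun i => (e i).left.isOpenEmbedding.isOpen_range) (fun x _ => Set.mem_iUnion.2 (hcov x)) hdir
    have := he i
    have : IsAffine (D.W i).left := inferInstanceAs (IsAffine (Spec _))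
    let k : U.toScheme ⟶ (D.W i).left := IsOpenImmersion.lift (e i).left U.ι (by rw [Scheme.Opens.range_ι]; exact hi)
    have : IsOpenImmersion k := by
      have : IsOpenImmersion (k ≫ (e i).left) := by
        rw [IsOpenImmersion.lift_fac]; infer_instance
      exact IsOpenImmersion.of_comp k (e i).left
    have : CompactSpace U.toScheme := isCompact_iff_compactSpace.1 hU
    exact Scheme.IsQuasiAffine.of_isImmersion k

end Groth.Agent.H21Hom
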