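import Groth.Agent.H21Hom.Rep
import Groth.Agent.H21Diag.IntegrateHom
import Groth.Agent.H21Diag.SubgroupSplit
import Groth.Agent.H21Desc.HomBaseChange
import Groth.Agent.H21Desc.HomTwConst

/-!
The scheme of homomorphisms of a diagonalisable group into a smooth affine group is smooth.
-/

set_option autoImplicit false
set_option maxHeartbeats 1000000
set_option linter.style.haveILetI false
set_option backward.isDefEq.respectTransparency false

universe u

open CategoryTheory MonoidalCategory CartesianMonoidalCategory MonObj GrpObj AlgebraicGeometry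
open CategoryTheory.Limits Groth.Agent.H21Diag Groth.Agent.H21Desc

namespace Groth.Agent.H21Hom

/-- points of the scheme of homomorphisms lift along nilpotent ideals -/
theorem exists_point_lift {R₀ : Type u} [CommRing R₀] {H G X : Over (Spec (CommRingCat.of R₀))} [GrpObj H] [GrpObj G]
    {M : Type} [AddCommGroup M] (hG : Smooth G.hom) (Q : Pres H (RingHom.id R₀) M) [IsAffineHom H.hom]
    {υ : H ⊗ X ⟶ G} (h : AutFam.RepresentsHom H G X υ) (J : Ideal R₀) (hJ : IsNilpotent J)
    (z : Tst (Ideal.Quotient.mk J) ⟶ X) :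
    ∃ y : Tst (RingHom.id R₀) ⟶ X, tst (Ideal.Quotient.mk J) (RingHom.comp_id _) ≫ y = z := by
  have : IsAffine H.left := isAffine_of_isAffineHom H.hom
  let φ₀ : Tst (Ideal.Quotient.mk J) ⊗ H ⟶ G := lift (snd _ _) (fst _ _ ≫ z) ≫ υ
  have hφ₀ : ∀ (Y : Over (Spec (CommRingCat.of R₀))) (p : Y ⟶ Tst (Ideal.Quotient.mk J)) (a : Y ⟶ H),
      lift p a ≫ φ₀ = lift a (p ≫ z) ≫ υ := fun Y p a => by
    simp only [φ₀, comp_lift_assoc, lift_fst_assoc, lift_snd]
  obtain ⟨f, hf, hfa⟩ := exists_hom_lift_smooth hG Q J hJ φ₀ fun Y p a b => by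
    rw [hφ₀, hφ₀, hφ₀]
    exact h.1 _ _ _ _
  obtain ⟨y, hy, -⟩ := h.2 (Tst (RingHom.id R₀)) (fst _ _ ≫ f) (isHomFamily_fst_comp f _)
  refine ⟨y, (h.2 _ _ (isHomFamily_whisker H G z h.1)).unique ?_ rfl⟩
  rw [whiskerLeft_comp, Category.assoc, hy, whiskerLeft_fst_assoc]
  have : IsAffine (H ⊗ Tst (Ideal.Quotient.mk J)).left := by
    change IsAffine (pullback H.hom (Spec.map (CommRingCat.ofHom (Ideal.Quotient.mk J))))
    exact isAffine_of_isAffineHom (pullback.snd H.hom (Spec.map (CommRingCat.ofHom (Ideal.Quotient.mk J))))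
  obtain ⟨A, _, α, x, y', hyx, -⟩ := exists_affine_coord (X := H ⊗ Tst (Ideal.Quotient.mk J))
  refine map_y_injective hyx ?_
  rw [← Category.assoc, hfa _ α (x ≫ snd _ _) (x ≫ fst _ _), hφ₀, ← Category.assoc x (H ◁ z),
    ← lift_comp_fst_snd (x ≫ (H ◁ z))]
  simp only [Category.assoc, whiskerLeft_fst, whiskerLeft_snd]

variable {R : Type u} [CommRing R] {M : Type} [AddCommGroup M] {G X : Over (Spec (CommRingCat.of R))} [GrpObj G]

/-- the identity presentation of a diagonalisable group -/
noncomputable def dsPres (R : Type u) [CommRing R] (M : Type) [AddCommGroup M] :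
    Pres (Red.DS (Spec (CommRingCat.of R)) M) (RingHom.id R) M :=
  Pres.ofChart (idChart (Spec (CommRingCat.of R)) M) (𝟙 _) (RingHom.id R) (by
    rw [Category.comp_id, CommRingCat.ofHom_id, Spec.map_id])

/-- the scheme of homomorphisms is smooth -/
theorem smooth_of_representsHom (hG : Smooth G.hom) {υ : Red.DS (Spec (CommRingCat.of R)) M ⊗ X ⟶ G}
    (h : AutFam.RepresentsHom (Red.DS (Spec (CommRingCat.of R)) M) G X υ)
    (hX : LocallyOfFinitePresentation X.hom) : Smooth X.hom := by
  refine (Groth.Agent.S1488.result X.hom).mpr ⟨hX, fun A _ I hI a b hab => ?_⟩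
  let p : Spec (CommRingCat.of A) ⟶ Spec (CommRingCat.of R) := b
  have hGp : Smooth (Red.bc p G).hom := MorphismProperty.pullback_snd (P := @Smooth) _ _ hG
  have hH : IsAffineHom (Red.DS (Spec (CommRingCat.of A)) M).hom := isAffineHom_DS _ _
  have hp := representsHom_of_iso (bcDSIso p M).symm (Iso.refl (Grp.mk (Red.bc p G))) (representsHom_bc (p := p) h)
  let z : Tst (Ideal.Quotient.mk I) ⟶ Red.bc p X :=
    Over.homMk (pullback.lift a (Spec.map (CommRingCat.ofHom (Ideal.Quotient.mk I))) hab.symm)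
      (pullback.lift_snd _ _ _)
  obtain ⟨y, hy⟩ := exists_point_lift hGp (dsPres A M) hp I ⟨2, hI⟩ z
  refine ⟨y.left ≫ pullback.fst X.hom p, ?_, ?_⟩
  · have := congrArg (fun m => m.left ≫ pullback.fst X.hom p) hy
    simp only [z, Over.comp_left, Over.homMk_left, pullback.lift_fst, Category.assoc] at this
    exact this
  · rw [Category.assoc, pullback.condition]
    have hw : y.left ≫ pullback.snd X.hom p = Spec.map (CommRingCat.ofHom (RingHom.id A)) := Over.w y
    rw [← Category.assoc, hw, CommRingCat.ofHom_id, Spec.map_id, Category.id_comp]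

/-- the scheme of homomorphisms of a diagonalisable group into a smooth affine group -/
theorem exists_representsHom_DS_smooth (G : Over (Spec (CommRingCat.of R))) [GrpObj G] (hG : Smooth G.hom)
    [IsAffine G.left] :
    ∃ (X : Over (Spec (CommRingCat.of R))) (υ : Red.DS (Spec (CommRingCat.of R)) M ⊗ X ⟶ G),
      AutFam.RepresentsHom (Red.DS (Spec (CommRingCat.of R)) M) G X υ ∧
      Smooth X.hom ∧ IsSeparated X.hom ∧ MoreMor.IsIndQuasiAffineHom X.hom := by
  have := isAffineHom_DS (Spec (CommRingCat.of R)) M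
  obtain ⟨n, ⟨L⟩⟩ := exists_linCoord G
  obtain ⟨X, υ, h, h1, h2, h3⟩ := exists_representsHom_pieces L (dsPres R M) fun F => (nonempty_piece L F).some
  exact ⟨X, υ, h, smooth_of_representsHom hG h h2, h1, h3⟩

end Groth.Agent.H21Hom
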