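import Groth.Agent.H21Hom.Extend
import Groth.Agent.H21Diag.Conjugate
import Groth.Agent.H21Diag.SubgroupSplit

/-!
Maximal split subtori over a normal connected base are maximal on every open subset.
-/

set_option autoImplicit false
set_option linter.style.haveILetI false
set_option backward.isDefEq.respectTransparency false

universe u

open CategoryTheory MonoidalCategory CartesianMonoidalCategory MonObj GrpObj AlgebraicGeometry
open CategoryTheory.Limits

namespace Groth.Agent.H21Hom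

variable {S : Scheme.{u}}

theorem geomUnibranch_of_normal
    (hnorm : ∀ x : ↥S, IsDomain (S.presheaf.stalk x) ∧ IsIntegrallyClosed (S.presheaf.stalk x)) (s : S) :
    CAlg2.IsGeomUnibranch (S.presheaf.stalk s) := by
  haveI := (hnorm s).1
  haveI := (hnorm s).2
  exact S9812.result (S.presheaf.stalk s)

theorem preirreducibleSpace_of_connected [IsLocallyNoetherian S] [ConnectedSpace S]
    (hS : ∀ s : S, CAlg2.IsGeomUnibranch (S.presheaf.stalk s)) : PreirreducibleSpace S := by
  obtain ⟨x⟩ := ‹ConnectedSpace S›.toNonempty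
  exact ⟨PreconnectedSpace.connectedComponent_eq_univ x ▸ isPreirreducible_connectedComponent (𝟙 S) hS x⟩

theorem exists_factor_open [ConnectedSpace S] [IsLocallyNoetherian S]
    (hnorm : ∀ x : ↥S, IsDomain (S.presheaf.stalk x) ∧ IsIntegrallyClosed (S.presheaf.stalk x))
    {T T₀ : Over S} [GrpObj T] [GrpObj T₀] (hT : Red.IsTorus T) (j₀ : T₀ ⟶ T) [IsMonHom j₀] [Mono j₀]
    (hmax : ∀ (T' : Over S) [GrpObj T'] (j' : T' ⟶ T) [IsMonHom j'] [Mono j'] (r' : ℕ),
      Red.IsSplitTorusWith (Fin r' → ℤ) T' → ∃ g : T' ⟶ T₀, g ≫ j₀ = j')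
    (U : S.Opens) (T' : Over (U : Scheme.{u})) [GrpObj T'] (j' : T' ⟶ Red.bc U.ι T) [IsMonHom j'] [Mono j']
    (r' : ℕ) (hT' : Red.IsSplitTorusWith (Fin r' → ℤ) T') :
    ∃ g : T' ⟶ Red.bc U.ι T₀, g ≫ (Over.pullback U.ι).map j₀ = j' := by
  rcases (U : Set S).eq_empty_or_nonempty with hU | hU
  · haveI : IsEmpty U := Set.isEmpty_coe_sort.mpr hU
    haveI : IsEmpty T'.left := Function.isEmpty T'.hom
    exact ⟨Over.homMk (isInitialOfIsEmpty.to _) (isInitialOfIsEmpty.hom_ext _ _),
      Over.OverMorphism.ext (isInitialOfIsEmpty.hom_ext _ _)⟩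
  obtain ⟨e⟩ := hT'
  let D := Red.DS S (Fin r' → ℤ)
  let c : Grp.mk T' ≅ Grp.mk (Red.bc U.ι D) := e ≪≫ (H21Diag.bcDSIso U.ι (Fin r' → ℤ)).symm
  haveI : IsMonHom c.inv.hom.hom := inferInstance
  haveI : IsIso c.inv.hom.hom := inferInstanceAs (IsIso (((Grp.forget _).mapIso c).inv))
  let φ : Red.bc U.ι D ⟶ Red.bc U.ι T := c.inv.hom.hom ≫ j'
  haveI := preirreducibleSpace_of_connected (geomUnibranch_of_normal hnorm)
  have hD := H21Diag.isMultTypeFT_DS S (Fin r' → ℤ)
  obtain ⟨f, hf, hfU⟩ := exists_hom_extend_of_normal (geomUnibranch_of_normal hnorm) D T hD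
    (H21Diag.isMultTypeFT_of_isTorus hT) U hU φ
  haveI := hf
  have hφ : Mono ((Over.pullback U.ι).map f) := by rw [hfU]; exact mono_comp _ _
  have hall : ∀ s, H21Diag.KerTriv f s := by
    have hcl := H21Diag.isClopen_mono_locus f hD (H21Diag.isMultTypeFT_of_isTorus hT)
    obtain ⟨u₀, hu₀⟩ := hU
    have hmem : H21Diag.KerTriv f u₀ := by
      rw [H21Diag.kerTriv_iff_mono]
      let k := IsOpenImmersion.lift U.ι (S.fromSpecResidueField u₀) (by
        rintro _ ⟨z, rfl⟩
        rw [Scheme.Opens.range_ι, Scheme.fromSpecResidueField_apply]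
        exact hu₀)
      have hk : k ≫ U.ι = S.fromSpecResidueField u₀ := IsOpenImmersion.lift_fac _ _ _
      have h1 : Mono ((Over.pullback (k ≫ U.ι)).map f) :=
        (MorphismProperty.monomorphisms _).arrow_mk_iso_iff
          (Arrow.isoMk ((Over.pullbackComp k U.ι).app D) ((Over.pullbackComp k U.ι).app T)
            ((Over.pullbackComp k U.ι).hom.naturality f).symm) |>.mpr
          (inferInstanceAs (Mono ((Over.pullback k).map ((Over.pullback U.ι).map f))))
      rw [hk] at h1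
      infer_instance
    exact fun s => (hcl.eq_univ ⟨u₀, hmem⟩ ▸ Set.mem_univ s :)
  haveI : Mono f := by
    haveI := H21Diag.mono_of_kerTriv f hD ⊤ fun s _ => hall s
    haveI : IsIso (⊤ : S.Opens).ι := (Scheme.topIso S).isIso_hom
    have h1 : ((Over.pullback (⊤ : S.Opens).ι).map f).left ≫ pullback.fst T.hom _ =
        pullback.fst D.hom _ ≫ f.left := pullback.lift_fst _ _ _
    haveI : Mono f.left := by
      rw [← (IsIso.inv_comp_eq (pullback.fst D.hom (⊤ : S.Opens).ι)).mpr h1]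
      infer_instance
    exact Over.mono_of_mono_left f
  obtain ⟨g₀, hg₀⟩ := hmax D f r' ⟨Iso.refl _⟩
  refine ⟨c.hom.hom.hom ≫ (Over.pullback U.ι).map g₀, ?_⟩
  rw [Category.assoc, ← Functor.map_comp, hg₀, hfU]
  have hc : c.hom.hom.hom ≫ c.inv.hom.hom = 𝟙 T' := congrArg (fun f : Grp.mk T' ⟶ Grp.mk T' => f.hom.hom) c.hom_inv_id
  exact (Category.assoc _ _ _).symm.trans ((congrArg (· ≫ j') hc).trans (Category.id_comp _))

end Groth.Agent.H21Hom
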