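import Groth.Agent.H19Mult.HopfModel
import Mathlib.RingTheory.Smooth.NoetherianDescent
import Mathlib.RingTheory.Smooth.Flat

/-!
A smooth Hopf algebra is generated by finitely many elements spanning a space stable under comultiplication.
-/

set_option autoImplicit false
set_option maxHeartbeats 1000000
set_option linter.style.haveILetI false
set_option backward.isDefEq.respectTransparency false

universe u

open TensorProduct

namespace Groth.Agent.H21Hom

open Groth.Agent.H19Mult.HopfModel

section flat

variable {R : Type u} [CommRing R] {C : Type u} [CommRing C] [Algebra R C]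

theorem exists_sum_tmul {E : Submodule R C} {n : ℕ} {v : Fin n → E}
    (hv : Submodule.span R (Set.range v) = ⊤) (y : C ⊗[R] E) :
    ∃ c : Fin n → C, y = ∑ j, c j ⊗ₜ v j := by
  induction y using TensorProduct.induction_on with
  | zero => exact ⟨0, by simp⟩
  | add a b ha hb =>
    obtain ⟨ca, rfl⟩ := ha
    obtain ⟨cb, rfl⟩ := hb
    exact ⟨ca + cb, by simp [TensorProduct.add_tmul, Finset.sum_add_distrib]⟩
  | tmul c x =>
    obtain ⟨l, rfl⟩ := Submodule.mem_span_range_iff_exists_fun R |>.1 (hv.ge (Submodule.mem_top (x := x)))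
    exact ⟨fun j => l j • c, by simp [TensorProduct.tmul_sum, TensorProduct.smul_tmul]⟩

/-- over a noetherian ring a flat algebra with a coassociative map has stable generators -/
theorem exists_stableGen_of_flat [IsNoetherianRing R] [Algebra.FiniteType R C] [Module.Flat R C]
    (Δ : C →ₐ[R] C ⊗[R] C)
    (hco : ∀ a, (Algebra.TensorProduct.assoc R R R C C C).toAlgHom
      ((Algebra.TensorProduct.map Δ (AlgHom.id R C)) (Δ a)) = (Algebra.TensorProduct.map (AlgHom.id R C) Δ) (Δ a)) :
    ∃ (n : ℕ) (v : Fin n → C) (c : Fin n → Fin n → C), Algebra.adjoin R (Set.range v) = ⊤ ∧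
      ∀ i, Δ (v i) = ∑ j, c i j ⊗ₜ v j := by
  classical
  obtain ⟨s, hs⟩ := Algebra.FiniteType.out (R := R) (A := C)
  choose S hS using fun x : C => TensorProduct.exists_finset (Δ x)
  let W : Submodule R C := Submodule.span R ((s.biUnion fun x => (S x).image Prod.snd) ∪ s : Finset C)
  have : Module.Finite R W := Module.Finite.span_of_finite R (Finset.finite_toSet _)
  let q := W.mkQ
  let h : W →ₗ[R] C ⊗[R] (C ⧸ W) := (q.lTensor C) ∘ₗ Δ.toLinearMap ∘ₗ W.subtype
  let K := LinearMap.ker h
  have : Module.Finite R K := inferInstance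
  let E : Submodule R C := K.map W.subtype
  have hsE : (s : Set C) ⊆ E := by
    intro x hx
    refine ⟨⟨x, Submodule.subset_span (Finset.mem_coe.2 (Finset.mem_union_right _ hx))⟩, ?_, rfl⟩
    change (q.lTensor C) (Δ x) = 0
    rw [hS x, map_sum]
    refine Finset.sum_eq_zero fun p hp => ?_
    have : q p.2 = 0 := (Submodule.Quotient.mk_eq_zero W).2 (Submodule.subset_span (Finset.mem_coe.2
      (Finset.mem_union_left _ (Finset.mem_biUnion.2 ⟨x, hx, Finset.mem_image.2 ⟨p, hp, rfl⟩⟩))))
    rw [LinearMap.lTensor_tmul, this, TensorProduct.tmul_zero]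
  obtain ⟨n, w, hw⟩ := Module.Finite.exists_fin (R := R) (M := E)
  have hstab : ∀ x ∈ E, ∃ y : C ⊗[R] E, Δ x = E.subtype.lTensor C y := by
    rintro _ ⟨x, hx, rfl⟩
    have hx' : (q.lTensor C) (Δ (x : C)) = 0 := hx
    have hex : Function.Exact (W.subtype.lTensor C) (q.lTensor C) :=
      lTensor_exact C (LinearMap.exact_subtype_mkQ W) W.mkQ_surjective
    obtain ⟨z, hz⟩ := (hex _).1 hx'
    have h1 : (h.lTensor C) z = 0 := by
      have e : (h.lTensor C) z = ((q.lTensor C).lTensor C)
          (Algebra.TensorProduct.map (AlgHom.id R C) Δ (W.subtype.lTensor C z)) := by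
        clear hz
        induction z using TensorProduct.induction_on with
        | zero => simp
        | add a b ha hb => simp only [map_add, ha, hb]
        | tmul a b => simp [h]
      rw [e, hz, ← hco]
      have key : ∀ t : C ⊗[R] C, ((q.lTensor C).lTensor C)
          ((Algebra.TensorProduct.assoc R R R C C C).toAlgHom ((Algebra.TensorProduct.map Δ (AlgHom.id R C)) t)) =
            (TensorProduct.assoc R C C (C ⧸ W)) ((Δ.toLinearMap.rTensor (C ⧸ W)) (q.lTensor C t)) := by
        intro t
        induction t using TensorProduct.induction_on with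
        | zero => simp
        | add a b ha hb => simp only [map_add, ha, hb]
        | tmul a b =>
          simp only [Algebra.TensorProduct.map_tmul, AlgHom.id_apply, LinearMap.lTensor_tmul, LinearMap.rTensor_tmul]
          change _ = (TensorProduct.assoc R C C (C ⧸ W)) (Δ a ⊗ₜ[R] q b)
          generalize Δ a = p
          induction p using TensorProduct.induction_on with
          | zero => simp
          | add a c ha hc => simp only [TensorProduct.add_tmul, map_add, ha, hc]
          | tmul a c => simp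
      rw [key, hx', map_zero, map_zero]
    have hex₂ : Function.Exact K.subtype h := fun a =>
      ⟨fun ha => ⟨⟨a, ha⟩, rfl⟩, by rintro ⟨k, rfl⟩; exact k.2⟩
    obtain ⟨y, hy⟩ := (Module.Flat.lTensor_exact (M := C) (N := K) (N' := W) (f := K.subtype) (g := h) hex₂ z).1 h1
    refine ⟨((W.subtype.comp K.subtype).codRestrict E fun k => ⟨k, k.2, rfl⟩).lTensor C y, ?_⟩
    change Δ (x : C) = _
    rw [← hz, ← hy]
    clear hy
    induction y using TensorProduct.induction_on with
    | zero => simp
    | add a b ha hb => simp only [map_add, ha, hb]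
    | tmul a b => rfl
  choose y hy using fun i => hstab (w i) (w i).2
  choose c hc using fun i => exists_sum_tmul hw (y i)
  refine ⟨n, fun i => w i, c, eq_top_iff.2 (hs.ge.trans (Algebra.adjoin_le fun x hx => ?_)), fun i => ?_⟩
  · obtain ⟨l, hl⟩ := (Submodule.mem_span_range_iff_exists_fun R).1 (hw.ge (Submodule.mem_top (x := ⟨x, hsE hx⟩)))
    have : x = ∑ i, l i • (w i : C) := by
      have := congrArg (E.subtype) hl
      simpa using this.symm
    rw [this]
    exact sum_mem fun i _ => Subalgebra.smul_mem _ (Algebra.subset_adjoin (Set.mem_range_self i)) _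
  · rw [hy, hc]
    simp

end flat

section stage

variable {R₀ : Type u} [CommRing R₀] {T : Type u} [CommRing T] [Algebra R₀ T]
  {R : Type u} [CommRing R] [Algebra R₀ R] [Algebra T R] [IsScalarTower R₀ T R]
  {C₀ : Type u} [CommRing C₀] [Algebra R₀ C₀]
  {C : Type u} [CommRing C] [HopfAlgebra R C] [Algebra R₀ C] [IsScalarTower R₀ R C]
  [Algebra T C] [IsScalarTower T R C] [IsScalarTower R₀ T C]

/-- the stable generators found at a stage -/
theorem exists_stableGen_of_stage [IsNoetherianRing T] [Algebra.FiniteType R₀ C₀] [Module.Flat R₀ C₀]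
    (ι : C₀ →ₐ[R₀] C) (hι : Function.Bijective (bc R ι)) (d : C₀ →ₐ[R₀] C₀ ⊗[R₀] C₀)
    (hd : ∀ x, Bialgebra.comulAlgHom R C (ι x) = pairHom R ι ι (d x))
    (h₁ : ∀ c, (1 : T) ⊗ₜ[R₀] (((Algebra.TensorProduct.assoc R₀ R₀ R₀ C₀ C₀ C₀).toAlgHom.comp
        (Algebra.TensorProduct.map d (AlgHom.id R₀ C₀))).comp d) c =
      (1 : T) ⊗ₜ[R₀] ((Algebra.TensorProduct.map (AlgHom.id R₀ C₀) d).comp d) c) :
    ∃ (n : ℕ) (v : Fin n → C) (c : Fin n → Fin n → C), Algebra.adjoin R (Set.range v) = ⊤ ∧
      ∀ i, Coalgebra.comul (R := R) (v i) = ∑ j, c i j ⊗ₜ v j := by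
  let iC : C₀ →ₐ[R₀] T ⊗[R₀] C₀ := Algebra.TensorProduct.includeRight
  let Δ' := bc T ((pairHom T iC iC).comp d)
  have hΔ : ∀ c, Δ' (iC c) = pairHom T iC iC (d c) := fun c => bc_one_tmul _ c
  obtain ⟨n, v, c, hv, hvc⟩ := exists_stableGen_of_flat Δ'
    (hom_ext (f := ((Algebra.TensorProduct.assoc T T T _ _ _).toAlgHom.comp
        (Algebra.TensorProduct.map Δ' (AlgHom.id T _))).comp Δ')
      (g := (Algebra.TensorProduct.map (AlgHom.id T _) Δ').comp Δ')
      fun c => by
        refine (sq_left iC d _ hΔ c).trans (Eq.trans ?_ (sq_right iC d _ hΔ c).symm)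
        rw [← bc_one_tmul (R := T) (pairHom T iC (pairHom T iC iC)),
          ← bc_one_tmul (R := T) (pairHom T iC (pairHom T iC iC))]
        exact congrArg _ (h₁ c))
  let j := bc T ι
  have hj : Function.Bijective (bc R j) := bc_trans_bijective ι hι
  have hsq : ∀ x, Bialgebra.comulAlgHom R C (j x) = pairHom R j j (Δ' x) := by
    refine hom_ext (f := ((Bialgebra.comulAlgHom R C).restrictScalars T).comp j)
      (g := (pairHom R j j).comp Δ') fun c => ?_
    rw [AlgHom.comp_apply, AlgHom.comp_apply, AlgHom.restrictScalars_apply]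
    change Bialgebra.comulAlgHom R C (bc T ι ((1 : T) ⊗ₜ c)) = pairHom R j j (Δ' (iC c))
    rw [bc_one_tmul, hd, hΔ]
    generalize d c = z
    induction z using TensorProduct.induction_on with
    | zero => simp
    | add a b ha hb => simp only [map_add, ha, hb]
    | tmul a b => simp [pairHom_tmul, j, iC, bc_one_tmul]
  refine ⟨n, fun i => j (v i), fun i k => j (c i k), Algebra.eq_top_iff.2 fun x => ?_, fun i => ?_⟩
  · obtain ⟨z, rfl⟩ := hj.2 x
    induction z using TensorProduct.induction_on with
    | zero => simp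
    | add a b ha hb =>
      rw [map_add]
      exact add_mem ha hb
    | tmul r y =>
      rw [bc_tmul]
      refine mul_mem (Subalgebra.algebraMap_mem _ _) ?_
      have hy : y ∈ Algebra.adjoin T (Set.range v) := hv.ge Algebra.mem_top
      induction hy using Algebra.adjoin_induction with
      | mem y hy => obtain ⟨i, rfl⟩ := hy; exact Algebra.subset_adjoin (Set.mem_range_self i)
      | algebraMap r =>
        rw [AlgHom.commutes, IsScalarTower.algebraMap_apply T R C]
        exact Subalgebra.algebraMap_mem _ _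
      | add a b _ _ ha hb => rw [map_add]; exact add_mem ha hb
      | mul a b _ _ ha hb => rw [map_mul]; exact mul_mem ha hb
  · rw [← Bialgebra.comulAlgHom_apply, hsq, hvc, map_sum]
    simp [pairHom_tmul]

end stage

section pre

variable {A : Type u} [CommRing A] [IsNoetherianRing A] {R : Type u} [CommRing R] [Algebra A R]
  {B₀ : Type u} [CommRing B₀] [Algebra A B₀] {C : Type u} [CommRing C] [HopfAlgebra R C] [Algebra A C]
  [IsScalarTower A R C]

theorem exists_stableGen_of_model [Algebra.FiniteType A B₀] [Module.Flat A B₀] (ι : B₀ →ₐ[A] C)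
    (hι : Function.Bijective (bc R ι)) :
    ∃ (n : ℕ) (v : Fin n → C) (c : Fin n → Fin n → C), Algebra.adjoin R (Set.range v) = ⊤ ∧
      ∀ i, Coalgebra.comul (R := R) (v i) = ∑ j, c i j ⊗ₜ v j := by
  obtain ⟨T, hT, ιT, hιT, d, e, s, hd, he, hs⟩ := exists_preModel ι hι
  haveI : Algebra.FiniteType A T := T.fg_iff_finiteType.1 hT
  haveI : IsNoetherianRing T := Algebra.FiniteType.isNoetherianRing A T
  obtain ⟨T', hT', h₁⟩ := exists_stage_eq_hom (R := R) _ _ fun c => (axioms_top ιT hιT d e s hd he hs c).1
  haveI : Algebra.FiniteType T T' := T'.fg_iff_finiteType.1 hT'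
  haveI : IsNoetherianRing T' := Algebra.FiniteType.isNoetherianRing T T'
  exact exists_stableGen_of_stage (T := T') ιT hιT d hd (h₁ T' le_rfl)

end pre

/-- a smooth Hopf algebra has stable generators -/
theorem exists_stableGen (R : Type u) [CommRing R] (C : Type u) [CommRing C] [HopfAlgebra R C]
    [Algebra.Smooth R C] :
    ∃ (n : ℕ) (v : Fin n → C) (c : Fin n → Fin n → C), Algebra.adjoin R (Set.range v) = ⊤ ∧
      ∀ i, Coalgebra.comul (R := R) (v i) = ∑ j, c i j ⊗ₜ v j := by
  obtain ⟨A, B₀, _, _, hA, _, ⟨φ⟩⟩ := Algebra.Smooth.exists_subalgebra_fg ℤ R C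
  haveI : Algebra.FiniteType ℤ A := A.fg_iff_finiteType.1 hA
  haveI : IsNoetherianRing A := Algebra.FiniteType.isNoetherianRing ℤ A
  obtain ⟨ι, hι⟩ := exists_bc_of_equiv φ.symm
  exact exists_stableGen_of_model ι hι

end Groth.Agent.H21Hom
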