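import Groth.Agent.H21Hom.TorsionOrder
import Groth.Agent.H19Grp.Diagonal

/-!
Fibres of multiplicative type and locally constant orders of torsion give multiplicative type.
-/

set_option autoImplicit false
set_option maxHeartbeats 1000000
set_option linter.style.haveILetI false
set_option backward.isDefEq.respectTransparency false
set_option synthInstance.maxHeartbeats 400000

universe u

open CategoryTheory MonoidalCategory CartesianMonoidalCategory MonObj GrpObj AlgebraicGeometry
open TensorProduct WithConv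

namespace Groth.Agent.H21Hom

variable {K : Type u} [CommRing K] [IsDomain K] {N M : Type u} [CommGroup N] [CommGroup M]

theorem bialgHom_eq_mapDomain (f : MonoidAlgebra K N →ₐc[K] MonoidAlgebra K M) (x : MonoidAlgebra K N) :
    f x = MonoidAlgebra.mapDomain (MonoidAlgebra.mapDomainOfBialgHom f) x := by
  induction x using MonoidAlgebra.induction_linear with
  | zero => simp
  | add u w hu hw => rw [map_add, MonoidAlgebra.mapDomain_add, hu, hw]
  | single m r => rw [MonoidAlgebra.mapDomain_single, MonoidAlgebra.single_mapDomainOfBialgHom]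

theorem mapDomainOfBialgHom_surjective (f : MonoidAlgebra K N →ₐc[K] MonoidAlgebra K M)
    (hf : Function.Surjective f) : Function.Surjective (MonoidAlgebra.mapDomainOfBialgHom f) := by
  classical
  intro m
  by_contra hm
  obtain ⟨x, hx⟩ := hf (MonoidAlgebra.single m 1)
  have h0 : (f x).coeff m = 0 := by
    rw [bialgHom_eq_mapDomain]
    exact Finsupp.mapDomain_of_notMem_range _ _ (by rintro ⟨l, hl⟩; exact hm ⟨l, hl⟩)
  rw [hx] at h0
  simp at h0

theorem mapDomainOfBialgHom_injective (f : MonoidAlgebra K N →ₐc[K] MonoidAlgebra K M)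
    (hf : Function.Injective f) : Function.Injective (MonoidAlgebra.mapDomainOfBialgHom f) := fun a b h => by
  refine MonoidAlgebra.single_left_injective (R := K) one_ne_zero (hf ?_)
  rw [← MonoidAlgebra.single_mapDomainOfBialgHom, ← MonoidAlgebra.single_mapDomainOfBialgHom, h]

omit [IsDomain K] in
theorem card_quotient_pow_congr (θ : N ≃* M) (n : ℕ) :
    Nat.card (N ⧸ (powMonoidHom n : N →* N).range) = Nat.card (M ⧸ (powMonoidHom n : M →* M).range) := by
  refine Nat.card_congr (QuotientGroup.congr _ _ θ ?_).toEquiv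
  ext y
  simp only [Subgroup.mem_map, MonoidHom.mem_range, powMonoidHom_apply, MonoidHom.coe_coe]
  exact ⟨by rintro ⟨_, ⟨a, rfl⟩, rfl⟩; exact ⟨θ a, (map_pow θ a n).symm⟩,
    by rintro ⟨b, rfl⟩; exact ⟨θ.symm b ^ n, ⟨θ.symm b, rfl⟩, by simp⟩⟩

section chart

variable {R : Type u} [CommRing R] {C : Type u} [CommRing C] [HopfAlgebra R C]
  {T : Type u} [CommRing T] [Algebra R T]

omit [IsDomain K] in
/-- a chart killing an element, after a change of coefficients -/
theorem exists_chart_point (φ : (T ⊗[R] C) →ₐc[T] MonoidAlgebra T M) (hφ : Function.Surjective φ) (e : T ⊗[R] C)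
    (hker : RingHom.ker (φ : (T ⊗[R] C) →ₐ[T] MonoidAlgebra T M).toRingHom = Ideal.span {e})
    [Algebra R K] [Algebra T K] [IsScalarTower R T K] :
    ∃ ψ : (K ⊗[R] C) →ₐc[K] MonoidAlgebra K M, Function.Surjective ψ ∧
      RingHom.ker (ψ : (K ⊗[R] C) →ₐ[K] MonoidAlgebra K M).toRingHom =
        Ideal.span {Algebra.TensorProduct.map (IsScalarTower.toAlgHom R T K) (AlgHom.id R C) e} := by
  obtain ⟨Φ, hΦ, hk⟩ := H19Mult.LocalCriterion.baseChange_surj_ker K φ hφ hker
  obtain ⟨ψ, hψ, hk'⟩ := H19Mult.LocalCriterion.transport_surj_ker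
    (H19Mult.cancelEquiv (R := R) (A := C) T K).symm (H19Mult.scalarBialgEquiv T K M) Φ hΦ hk
  refine ⟨ψ, hψ, ?_⟩
  rw [hk']
  congr 2
  show H19Mult.cancelEquiv (R := R) (A := C) T K ((1 : K) ⊗ₜ[T] e) = _
  clear hker hk hk'
  induction e using TensorProduct.induction_on with
  | zero => simp
  | add u w hu hw => rw [TensorProduct.tmul_add, map_add, map_add, hu, hw]
  | tmul t c =>
    show Algebra.TensorProduct.cancelBaseChange R T K K C ((1 : K) ⊗ₜ[T] (t ⊗ₜ[R] c)) = _
    rw [Algebra.TensorProduct.cancelBaseChange_tmul, Algebra.TensorProduct.map_tmul, Algebra.smul_def, _root_.mul_one]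
    rfl

end chart

/-- the local criterion by fibres and orders of torsion -/
theorem isMultType_local_order (R : Type u) [CommRing R] [IsLocalRing R] (C : Type u) [CommRing C] [HopfAlgebra R C]
    [Algebra.FinitePresentation R C]
    (hfl : ∀ (q : Ideal C) [q.IsPrime], Ideal.map (algebraMap R C) (IsLocalRing.maximalIdeal R) ≤ q →
      Module.Flat R (Localization.AtPrime q))
    (hs : SGA3b.IsMultType (IsLocalRing.ResidueField R) (IsLocalRing.ResidueField R ⊗[R] C))
    (c : ℕ → ℕ)
    (hd : ∀ (K : Type u) [Field K] [IsAlgClosed K] [Algebra R K], ∃ (N : Type u) (_ : CommGroup N),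
      Group.FG N ∧ Nonempty ((K ⊗[R] C) ≃ₐc[K] MonoidAlgebra K N) ∧
        ∀ n : ℕ, 0 < n → Nat.card (N ⧸ (powMonoidHom n : N →* N).range) = c n) :
    SGA3b.IsMultType R C := by
  obtain ⟨T, _, _, hT, hff, e, M, _, φ, he, hem, hsurj, hker⟩ :=
    H19Mult.LocalCriterion.exists_local_idem_chart R C hfl hs
  haveI := hT
  haveI := hff
  refine H19Mult.LocalCriterion.isMultType_of_idem_zero φ hsurj hker ?_
  let ev : ∀ (K : Type u) [CommRing K] [Algebra R K] [Algebra T K] [IsScalarTower R T K],
      T ⊗[R] C →ₐ[R] K ⊗[R] C := fun K _ _ _ _ =>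
    Algebra.TensorProduct.map (IsScalarTower.toAlgHom R T K) (AlgHom.id R C)
  -- the closed point
  have hM : ∀ n : ℕ, 0 < n → Nat.card (M ⧸ (powMonoidHom n : M →* M).range) = c n := by
    let K₀ := AlgebraicClosure (IsLocalRing.ResidueField T)
    haveI : IsScalarTower R T K₀ := inferInstance
    obtain ⟨ψ, hψ, hk⟩ := exists_chart_point (K := K₀) φ hsurj e hker
    have he0 : ev K₀ e = 0 := by
      have hm : ∀ r ∈ IsLocalRing.maximalIdeal R, algebraMap R K₀ r = 0 := fun r hr => by
        haveI : IsLocalHom (algebraMap R T) := by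
          obtain ⟨P, hP⟩ := PrimeSpectrum.comap_surjective_of_faithfullyFlat (A := R) (B := T)
            ⟨IsLocalRing.maximalIdeal R, inferInstance⟩
          exact ⟨fun a ha => by_contra fun hna => P.isPrime.ne_top (Ideal.eq_top_of_isUnit_mem _
            ((Ideal.ext_iff.1 (congrArg PrimeSpectrum.asIdeal hP) a).2 ((IsLocalRing.mem_maximalIdeal a).2 hna)) ha)⟩
        rw [IsScalarTower.algebraMap_apply R T K₀, IsScalarTower.algebraMap_apply T (IsLocalRing.ResidueField T) K₀]
        have : algebraMap T (IsLocalRing.ResidueField T) (algebraMap R T r) = 0 :=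
          (IsLocalRing.residue_eq_zero_iff _).2 ((IsLocalRing.mem_maximalIdeal _).2 fun hu =>
            (IsLocalRing.mem_maximalIdeal _).1 hr (isUnit_of_map_unit (algebraMap R T) r hu))
        rw [this, map_zero]
      have h1 := Ideal.mem_map_of_mem (ev K₀).toRingHom hem
      rw [Ideal.map_map, AlgHom.toRingHom_eq_coe, AlgHom.comp_algebraMap] at h1
      have h2 : (IsLocalRing.maximalIdeal R).map (algebraMap R (K₀ ⊗[R] C)) ≤ ⊥ :=
        Ideal.map_le_iff_le_comap.2 fun r hr => by
          show algebraMap R (K₀ ⊗[R] C) r = 0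
          rw [Algebra.TensorProduct.algebraMap_apply, hm r hr, TensorProduct.zero_tmul]
      exact h2 h1
    have hinj : Function.Injective ψ := (injective_iff_map_eq_zero ψ).2 fun x hx => by
      have h1 : x ∈ RingHom.ker (ψ : (K₀ ⊗[R] C) →ₐ[K₀] MonoidAlgebra K₀ M).toRingHom := hx
      rw [hk, show Algebra.TensorProduct.map (IsScalarTower.toAlgHom R T K₀) (AlgHom.id R C) e = 0 from he0,
        Ideal.span_singleton_eq_bot.2 rfl] at h1
      exact h1
    obtain ⟨N, _, hN, ⟨eN⟩, hcard⟩ := hd K₀
    let f : MonoidAlgebra K₀ N →ₐc[K₀] MonoidAlgebra K₀ M :=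
      ψ.comp (eN.symm : MonoidAlgebra K₀ N →ₐc[K₀] (K₀ ⊗[R] C))
    let θ : N ≃* M := MulEquiv.ofBijective (MonoidAlgebra.mapDomainOfBialgHom f)
      ⟨mapDomainOfBialgHom_injective f (hinj.comp (EquivLike.injective eN.symm)),
        mapDomainOfBialgHom_surjective f (hψ.comp (EquivLike.surjective eN.symm))⟩
    exact fun n hn => (card_quotient_pow_congr θ n).symm.trans (hcard n hn)
  -- every point
  refine he.eq_zero_of_isNilpotent (mem_nilradical.1 ?_)
  rw [nilradical_eq_sInf, Ideal.mem_sInf]
  intro P hP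
  haveI : P.IsPrime := hP
  by_contra heP
  let K := AlgebraicClosure P.ResidueField
  let x : (T ⊗[R] C) →+* K := (algebraMap P.ResidueField K).comp (algebraMap (T ⊗[R] C) P.ResidueField)
  have hx : x e ≠ 0 := fun h0 => heP (Ideal.algebraMap_residueField_eq_zero.1
    ((map_eq_zero_iff _ (algebraMap P.ResidueField K).injective).1 h0))
  have hxT : ∀ t, x (algebraMap T (T ⊗[R] C) t) = algebraMap T K t := fun t => by
    rw [IsScalarTower.algebraMap_apply T P.ResidueField K, IsScalarTower.algebraMap_apply T (T ⊗[R] C) P.ResidueField]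
    rfl
  haveI : IsScalarTower R T K := inferInstance
  let xC : C →ₐ[R] K :=
    { toRingHom := x.comp (Algebra.TensorProduct.includeRight : C →ₐ[R] T ⊗[R] C).toRingHom
      commutes' := fun r => by
        show x ((Algebra.TensorProduct.includeRight : C →ₐ[R] T ⊗[R] C) (algebraMap R C r)) = _
        rw [AlgHom.commutes, IsScalarTower.algebraMap_apply R T (T ⊗[R] C), hxT, ← IsScalarTower.algebraMap_apply] }
  let y : K ⊗[R] C →ₐ[K] K := Algebra.TensorProduct.lift (AlgHom.id K K) xC fun _ _ => Commute.all _ _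
  have hy : ∀ z, y (ev K z) = x z := fun z => by
    induction z using TensorProduct.induction_on with
    | zero => simp
    | add u w hu hw => simp only [map_add, hu, hw]
    | tmul t a =>
      show y ((algebraMap T K t) ⊗ₜ[R] a) = _
      rw [Algebra.TensorProduct.lift_tmul]
      show algebraMap T K t * x ((1 : T) ⊗ₜ[R] a) = _
      rw [← hxT]
      rw [← map_mul, Algebra.TensorProduct.algebraMap_apply, Algebra.algebraMap_self, RingHom.id_apply,
        Algebra.TensorProduct.tmul_mul_tmul, _root_.mul_one, _root_.one_mul]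
  obtain ⟨ψ, hψ, hk⟩ := exists_chart_point (K := K) φ hsurj e hker
  obtain ⟨N, _, hN, ⟨eN⟩, hcard⟩ := hd K
  haveI := hN
  let f : MonoidAlgebra K N →ₐc[K] MonoidAlgebra K M := ψ.comp (eN.symm : MonoidAlgebra K N →ₐc[K] (K ⊗[R] C))
  have hf : Function.Surjective f := hψ.comp (EquivLike.surjective eN.symm)
  have hθ := injective_of_card_eq (MonoidAlgebra.mapDomainOfBialgHom f) (mapDomainOfBialgHom_surjective f hf)
    fun n hn => (hcard n hn).trans (hM n hn).symm
  have hfinj : Function.Injective f := fun a b h => by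
    rw [bialgHom_eq_mapDomain, bialgHom_eq_mapDomain] at h
    exact MonoidAlgebra.mapDomain_injective hθ h
  have h0 : ψ (ev K e) = 0 :=
    RingHom.mem_ker.1 (hk ▸ Ideal.mem_span_singleton_self _ :
      ev K e ∈ RingHom.ker (ψ : (K ⊗[R] C) →ₐ[K] MonoidAlgebra K M).toRingHom)
  have h1 : f (eN (ev K e)) = 0 := by
    show ψ (eN.symm (eN (ev K e))) = 0
    rw [BialgEquiv.symm_apply_apply]
    exact h0
  have h2 : ev K e = 0 := (map_eq_zero_iff eN (EquivLike.injective eN)).1 (hfinj (h1.trans (map_zero f).symm))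
  exact hx (by rw [← hy, h2, map_zero])

/-- groups with fibres of multiplicative type and locally constant orders of torsion -/
theorem isMultTypeFT_of_order {S : Scheme.{u}} (H : Over S) [GrpObj H] [IsAffineHom H.hom] [Flat H.hom]
    [LocallyOfFinitePresentation H.hom] (hfib : ∀ s : S, SGA3x.IsMultTypeFT (Red.geomFibre s H))
    (hord : ∀ n : ℕ, 0 < n → ∃ d : S → ℕ, IsLocallyConstant d ∧ ∀ (s : S) (x : ↥(Spec (S.residueField s))),
      ((Limits.pullback.snd η[H].left (𝟙 H ^ n : H ⟶ H).left ≫ H.hom).fiberToSpecResidueField s).finrank x = d s) :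
    SGA3x.IsMultTypeFT H := by
  classical
  haveI : IsClosedImmersion η[H].left :=
    (H19Grp.isSeparated_iff_isClosedImmersion_one H).mp inferInstance
  choose d hdc hdx using hord
  refine isMultTypeFT_of_models H fun R _ j _ C _ _ _ hfp eC => ?_
  -- geometric points of the model
  have key : ∀ (K : Type u) [Field K] [IsAlgClosed K] [Algebra R K],
      ∃ (N : Type u) (_ : CommGroup N), Group.FG N ∧ Nonempty ((K ⊗[R] C) ≃ₐc[K] MonoidAlgebra K N) ∧
        ∀ n (hn : 0 < n), Nat.card (N ⧸ (powMonoidHom n : N →* N).range) =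
          d n hn ((Spec.map (CommRingCat.ofHom (algebraMap R K)) ≫ j).base (IsLocalRing.closedPoint K)) := by
    intro K _ _ _
    set x := Spec.map (CommRingCat.ofHom (algebraMap R K)) ≫ j with hxdef
    set s := x.base (IsLocalRing.closedPoint K)
    obtain ⟨eK⟩ := nonempty_bc_model j eC K hxdef
    have hmt : SGA3b.IsMultType K (K ⊗[R] C) := by
      let φ : S.residueField s ⟶ CommRingCat.of K := S.descResidueField (Scheme.stalkClosedPointTo x)
      have hφ : Spec.map φ ≫ S.fromSpecResidueField s = x :=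
        Scheme.descResidueField_stalkClosedPointTo_fromSpecResidueField K S x
      letI : Algebra (S.residueField s) K := φ.hom.toAlgebra
      let g : AlgebraicClosure (S.residueField s) →ₐ[S.residueField s] K := IsAlgClosed.lift
      have hg : Spec.map (CommRingCat.ofHom g.toRingHom) ≫ Red.geomPt s = x := by
        rw [Red.geomPt, ← Category.assoc, ← Spec.map_comp, ← CommRingCat.ofHom_comp, ← hφ]
        congr 2
        exact CommRingCat.hom_ext (RingHom.ext fun a => g.commutes a)
      exact isMultType_of_specGrp (isMultTypeFT_of_iso (H21Diag.isMultTypeFT_bc (hfib s)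
        (Spec.map (CommRingCat.ofHom g.toRingHom)))
        ((H21Diag.bcCompIso _ _ H).symm ≪≫ H21Diag.bcCongrIso hg H ≪≫ eK))
    obtain ⟨N, _, hN, ⟨eN⟩⟩ := exists_chart_algClosed (K := K) inferInstance hmt
    haveI := hN
    refine ⟨N, inferInstance, hN, ⟨eN⟩, fun n hn => ?_⟩
    obtain ⟨hfin, hrank⟩ := finrank_torsion_chart eN hn
    haveI := hfin
    obtain ⟨fst, hp⟩ := isPullback_torsion_bc H x eK n
    rw [← hrank, ← finrank_fibre_eq _ x _ fst hp default, hdx]
  refine H19Mult.isMultType_of_atPrime hfp fun p => ?_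
  obtain ⟨hfib₁, hfib₂⟩ : (∀ (q : Ideal (Localization.AtPrime p.asIdeal ⊗[R] C)) [q.IsPrime],
      Module.Flat (Localization.AtPrime p.asIdeal) (Localization.AtPrime q)) ∧
      SGA3b.IsMultType (IsLocalRing.ResidueField (Localization.AtPrime p.asIdeal))
        (IsLocalRing.ResidueField (Localization.AtPrime p.asIdeal) ⊗[Localization.AtPrime p.asIdeal]
          (Localization.AtPrime p.asIdeal ⊗[R] C)) := by
    refine H19Mult.LocalCriterion.local_hyps p.asIdeal ?_
    -- descend from the algebraic closure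
    let k := p.asIdeal.ResidueField
    let K := AlgebraicClosure k
    obtain ⟨N, _, _, ⟨eN⟩, -⟩ := key K
    exact H19Mult.isMultType_of_charts (R := k) (fun _ : Fin 1 => K)
      (fun q => ⟨0, default, Subsingleton.elim _ _⟩) fun _ =>
      ⟨N, inferInstance, ⟨(H19Mult.cancelEquiv (R := R) (A := C) k K).trans eN⟩⟩
  let L := Localization.AtPrime p.asIdeal
  refine isMultType_local_order L (L ⊗[R] C) (fun q _ _ => hfib₁ q) hfib₂
    (fun n => if hn : 0 < n then d n hn (j.base p) else 0) fun K _ _ _ => ?_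
  letI : Algebra R K := ((algebraMap L K).comp (algebraMap R L)).toAlgebra
  haveI : IsScalarTower R L K := IsScalarTower.of_algebraMap_eq' rfl
  obtain ⟨N, _, hN, ⟨eN⟩, hcard⟩ := key K
  refine ⟨N, inferInstance, hN, ⟨(H19Mult.cancelEquiv (R := R) (A := C) L K).trans eN⟩, fun n hn => ?_⟩
  rw [hcard n hn, dif_pos hn]
  -- constant on generizations
  have hle : (Spec.map (CommRingCat.ofHom (algebraMap R K))).base (IsLocalRing.closedPoint K) ⤳ p := by
    refine (PrimeSpectrum.le_iff_specializes _ _).mp ?_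
    intro a ha
    by_contra hna
    have h1 : IsUnit (algebraMap R L a) := IsLocalization.map_units L (⟨a, hna⟩ : p.asIdeal.primeCompl)
    exact (IsLocalRing.mem_maximalIdeal _).1 ha (h1.map (algebraMap L K))
  exact (hle.map j.continuous).map (hdc n hn).continuous |>.eq

end Groth.Agent.H21Hom
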